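import Groth.Agent.Lib.EtDescent.FamEff

/-!
# Restrictions of descent data and their effectiveness
-/

set_option autoImplicit false
set_option linter.style.haveILetI false
universe u

open CategoryTheory CategoryTheory.Limits AlgebraicGeometry

namespace Groth.Agent.Lib.EtDescent

open Groth.Agent.Lib.FFDesc (restrict restrict_tr IsDescended pr act act_eq_tr tr tr_congr tr_hom)

/-- A descended scheme pulls back along cartesian maps of data. -/
theorem isDescended_of_map {X₁ S₁ X₂ S₂ : Scheme.{u}} {p₁ : X₁ ⟶ S₁} {p₂ : X₂ ⟶ S₂}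
    {D₁ : Desc.SchDD p₁} {D₂ : Desc.SchDD p₂} (a : D₁.obj.left ⟶ D₂.obj.left) (j' : X₁ ⟶ X₂)
    (j : S₁ ⟶ S₂) (hp : j' ≫ p₂ = p₁ ≫ j) (sqa : IsPullback a D₁.obj.hom D₂.obj.hom j')
    (hc : ∀ {T : Scheme.{u}} (v : T ⟶ D₁.obj.left) (x : T ⟶ X₁)
      (h : v ≫ D₁.obj.hom ≫ p₁ = x ≫ p₁)
      (h' : (v ≫ a) ≫ D₂.obj.hom ≫ p₂ = (x ≫ j') ≫ p₂),
      tr D₁ v x h ≫ a = tr D₂ (v ≫ a) (x ≫ j') h') {U : Over S₂} {q : D₂.obj.left ⟶ U.left}
    (H : IsDescended D₂ U q) :
    IsDescended D₁ (Over.mk (pullback.snd U.hom j)) (pullback.lift (a ≫ q) (D₁.obj.hom ≫ p₁)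
      (by rw [Category.assoc, ← H.isPullback.w, reassoc_of% sqa.w, hp, Category.assoc])) := by
  have h1 : IsPullback (a ≫ q) D₁.obj.hom U.hom (p₁ ≫ j) := hp ▸ sqa.paste_horiz H.isPullback.flip
  set q' : D₁.obj.left ⟶ pullback U.hom j :=
    pullback.lift (a ≫ q) (D₁.obj.hom ≫ p₁) (by rw [h1.w, Category.assoc])
  refine ⟨?_, ?_⟩
  · have h2 : IsPullback (q' ≫ pullback.fst U.hom j) D₁.obj.hom U.hom (p₁ ≫ j) := by
      simpa only [q', pullback.lift_fst] using h1
    exact (IsPullback.of_right h2 (pullback.lift_snd _ _ _)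
      (IsPullback.of_hasPullback U.hom j)).flip
  · have hv : pr D₁ ≫ D₁.obj.hom ≫ p₁ = FFDesc.pr₁ D₁ ≫ p₁ := pullback.condition
    have hv' : (pr D₁ ≫ a) ≫ D₂.obj.hom ≫ p₂ = (FFDesc.pr₁ D₁ ≫ j') ≫ p₂ := by
      rw [Category.assoc, reassoc_of% sqa.w, Category.assoc, hp, reassoc_of% hv]
    change pr D₁ ≫ q' = act D₁ ≫ q'
    rw [act_eq_tr]
    refine pullback.hom_ext ?_ ?_
    · simp only [q', Category.assoc, pullback.lift_fst]
      rw [reassoc_of% (hc _ _ hv hv'), H.tr_comp, Category.assoc]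
    · simp only [q', Category.assoc, pullback.lift_snd]
      rw [← Category.assoc (tr D₁ _ _ _), tr_hom, hv]


/-- Effectiveness passes along cartesian maps of data. -/
theorem effective_of_map {X₁ S₁ X₂ S₂ : Scheme.{u}} {p₁ : X₁ ⟶ S₁} {p₂ : X₂ ⟶ S₂}
    {D₁ : Desc.SchDD p₁} {D₂ : Desc.SchDD p₂} (a : D₁.obj.left ⟶ D₂.obj.left) (j' : X₁ ⟶ X₂)
    (j : S₁ ⟶ S₂) (hp : j' ≫ p₂ = p₁ ≫ j) (sqa : IsPullback a D₁.obj.hom D₂.obj.hom j')
    (hc : ∀ {T : Scheme.{u}} (v : T ⟶ D₁.obj.left) (x : T ⟶ X₁)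
      (h : v ≫ D₁.obj.hom ≫ p₁ = x ≫ p₁)
      (h' : (v ≫ a) ≫ D₂.obj.hom ≫ p₂ = (x ≫ j') ≫ p₂),
      tr D₁ v x h ≫ a = tr D₂ (v ≫ a) (x ≫ j') h') (h : Effective D₂) : Effective D₁ := by
  obtain ⟨U, q, hU, H⟩ := h
  exact ⟨_, _, inferInstanceAs (Etale (pullback.snd U.hom j)),
    isDescended_of_map a j' j hp sqa hc H⟩

variable {S' S : Scheme.{u}} {g : S' ⟶ S} (D : Desc.SchDD g)

/-- The restriction of a datum along a morphism to the base. -/
noncomputable abbrev Res {T : Scheme.{u}} (s : T ⟶ S) : Desc.SchDD (pullback.snd g s) :=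
  restrict D (pullback.snd g s) (pullback.fst g s) s pullback.condition.symm

/-- The carrier of a restriction. -/
noncomputable abbrev resX {T : Scheme.{u}} (s : T ⟶ S) : Scheme.{u} :=
  pullback D.obj.hom (pullback.fst g s)

/-- The structure morphism of the carrier. -/
noncomputable abbrev resStr {T : Scheme.{u}} (s : T ⟶ S) : resX D s ⟶ pullback g s :=
  pullback.snd _ _

section Map

variable {T₁ T : Scheme.{u}} {s₁ : T₁ ⟶ S} {s : T ⟶ S} (b : T₁ ⟶ T) (h : b ≫ s = s₁)

/-- The map of pullback bases. -/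
noncomputable def resBase : pullback g s₁ ⟶ pullback g s :=
  pullback.lift (pullback.fst _ _) (pullback.snd _ _ ≫ b)
    (by rw [Category.assoc, h]; exact pullback.condition)

@[reassoc (attr := simp)]
theorem resBase_fst : resBase (g := g) b h ≫ pullback.fst g s = pullback.fst g s₁ :=
  pullback.lift_fst _ _ _

@[reassoc (attr := simp)]
theorem resBase_snd : resBase (g := g) b h ≫ pullback.snd g s = pullback.snd g s₁ ≫ b :=
  pullback.lift_snd _ _ _

/-- The map of carriers. -/
noncomputable def resMap : resX D s₁ ⟶ resX D s :=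
  pullback.lift (pullback.fst _ _) (pullback.snd _ _ ≫ resBase b h)
    (by rw [Category.assoc, resBase_fst]; exact pullback.condition)

@[reassoc (attr := simp)]
theorem resMap_fst : resMap D b h ≫ pullback.fst D.obj.hom (pullback.fst g s) =
    pullback.fst D.obj.hom (pullback.fst g s₁) :=
  pullback.lift_fst _ _ _

@[reassoc (attr := simp)]
theorem resMap_snd : resMap D b h ≫ resStr D s = resStr D s₁ ≫ resBase b h :=
  pullback.lift_snd _ _ _

theorem isPullback_resBase :
    IsPullback (resBase (g := g) b h) (pullback.snd g s₁) (pullback.snd g s) b := by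
  refine IsPullback.of_right ?_ (resBase_snd b h) (IsPullback.of_hasPullback g s)
  rw [resBase_fst, h]
  exact IsPullback.of_hasPullback g s₁

theorem isPullback_resMap :
    IsPullback (resMap D b h) (resStr D s₁) (resStr D s) (resBase b h) := by
  refine IsPullback.of_right ?_ (resMap_snd D b h) (IsPullback.of_hasPullback _ _)
  rw [resMap_fst, resBase_fst]
  exact IsPullback.of_hasPullback _ _

theorem isPullback_resMap' : IsPullback (resMap D b h) (resStr D s₁ ≫ pullback.snd g s₁)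
    (resStr D s ≫ pullback.snd g s) b :=
  (isPullback_resMap D b h).paste_vert (isPullback_resBase b h)

theorem resMap_resMap {T₂ : Scheme.{u}} {s₂ : T₂ ⟶ S} (c : T₂ ⟶ T₁) (h₂ : c ≫ s₁ = s₂)
    (d : T₂ ⟶ T) (hd : c ≫ b = d) :
    resMap D c h₂ ≫ resMap D b h = resMap D d (by rw [← hd, Category.assoc, h, h₂]) := by
  subst hd
  refine pullback.hom_ext (by simp) ?_
  rw [Category.assoc, resMap_snd, resMap_snd, ← Category.assoc, resMap_snd, Category.assoc]
  congr 1
  exact pullback.hom_ext (by simp) (by simp)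

theorem resMap_tr {T' : Scheme.{u}} (v : T' ⟶ resX D s₁) (x : T' ⟶ pullback g s₁)
    (hv : v ≫ resStr D s₁ ≫ pullback.snd g s₁ = x ≫ pullback.snd g s₁)
    (hv' : (v ≫ resMap D b h) ≫ resStr D s ≫ pullback.snd g s =
      (x ≫ resBase b h) ≫ pullback.snd g s) :
    (tr (Res D s₁) v x hv : T' ⟶ resX D s₁) ≫ resMap D b h =
      tr (Res D s) (v ≫ resMap D b h) (x ≫ resBase b h) hv' := by
  refine (congrArg (· ≫ resMap D b h) (restrict_tr D _ _ _ _ v x hv)).trans
    (Eq.trans ?_ (restrict_tr D _ _ _ _ _ _ hv').symm)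
  refine pullback.hom_ext ?_ ?_
  · rw [Category.assoc, resMap_fst, pullback.lift_fst, pullback.lift_fst]
    exact tr_congr D _ (by simp) (by simp)
  · rw [Category.assoc]
    refine (congrArg (_ ≫ ·) (resMap_snd D b h)).trans ?_
    rw [← Category.assoc, pullback.lift_snd, pullback.lift_snd]

include h in
/-- Effectiveness passes to further restrictions. -/
theorem Effective.res_comp {D : Desc.SchDD g} (hD : Effective (Res D s)) : Effective (Res D s₁) :=
  effective_of_map (D₁ := Res D s₁) (D₂ := Res D s) (resMap D b h) (resBase b h) b (resBase_snd b h) (isPullback_resMap D b h)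
    (fun v x hv hv' ↦ resMap_tr D b h v x hv hv') hD

end Map

/-- Restrictions along isomorphic morphisms are simultaneously effective. -/
theorem effective_res_iff_of_iso {T₁ T : Scheme.{u}} {s₁ : T₁ ⟶ S} {s : T ⟶ S} (b : T₁ ≅ T)
    (h : b.hom ≫ s = s₁) : Effective (Res D s₁) ↔ Effective (Res D s) :=
  ⟨fun hD ↦ hD.res_comp b.inv (by rw [← h, b.inv_hom_id_assoc]), fun hD ↦ hD.res_comp b.hom h⟩

section Flatten

variable {T T₁ : Scheme.{u}} (s : T ⟶ S) (b : T₁ ⟶ T)

/-- The base of a double restriction. -/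
noncomputable def flatBase : pullback (pullback.snd g s) b ≅ pullback g (b ≫ s) :=
  pullbackLeftPullbackSndIso g s b

theorem isPullback_doubleStr :
    IsPullback (pullback.fst (resStr D s) (pullback.fst (pullback.snd g s) b) ≫
        pullback.fst D.obj.hom (pullback.fst g s))
      (pullback.snd (resStr D s) (pullback.fst (pullback.snd g s) b)) D.obj.hom
      (pullback.fst (pullback.snd g s) b ≫ pullback.fst g s) :=
  (IsPullback.of_hasPullback _ _).paste_horiz (IsPullback.of_hasPullback _ _)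

/-- A double restriction is a restriction. -/
theorem effective_res_res_iff : Effective (Res (Res D s) b) ↔ Effective (Res D (b ≫ s)) := by
  let e := flatBase (g := g) s b
  have he₁ : e.hom ≫ pullback.fst g (b ≫ s) =
      pullback.fst (pullback.snd g s) b ≫ pullback.fst g s := pullbackLeftPullbackSndIso_hom_fst g s b
  have he₂ : e.hom ≫ pullback.snd g (b ≫ s) = pullback.snd (pullback.snd g s) b :=
    pullbackLeftPullbackSndIso_hom_snd g s b
  let p₁ := pullback.fst (pullback.snd g s) b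
  let a : resX (Res D s) b ⟶ resX D (b ≫ s) :=
    pullback.lift (pullback.fst (resStr D s) p₁ ≫ pullback.fst D.obj.hom (pullback.fst g s))
      (pullback.snd (resStr D s) p₁ ≫ e.hom)
      (by rw [Category.assoc, Category.assoc, he₁]; exact (isPullback_doubleStr D s b).w.trans rfl)
  have ha₁ : a ≫ pullback.fst D.obj.hom (pullback.fst g (b ≫ s)) =
      pullback.fst (resStr D s) p₁ ≫ pullback.fst D.obj.hom (pullback.fst g s) :=
    pullback.lift_fst _ _ _
  have ha₂ : a ≫ resStr D (b ≫ s) = pullback.snd (resStr D s) p₁ ≫ e.hom := pullback.lift_snd _ _ _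
  have sqa : IsPullback a (pullback.snd (resStr D s) p₁) (resStr D (b ≫ s)) e.hom := by
    refine IsPullback.of_right ?_ ha₂ (IsPullback.of_hasPullback _ _)
    rw [ha₁, he₁]
    exact isPullback_doubleStr D s b
  haveI : IsIso a := by
    rw [← sqa.isoPullback_hom_fst]
    infer_instance
  have hc : ∀ {T' : Scheme.{u}} (v : T' ⟶ resX (Res D s) b)
      (x : T' ⟶ pullback (pullback.snd g s) b)
      (hv : v ≫ pullback.snd (resStr D s) p₁ ≫ pullback.snd (pullback.snd g s) b =
        x ≫ pullback.snd (pullback.snd g s) b)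
      (hv' : (v ≫ a) ≫ resStr D (b ≫ s) ≫ pullback.snd g (b ≫ s) =
        (x ≫ e.hom) ≫ pullback.snd g (b ≫ s)),
      (tr (Res (Res D s) b) v x hv : T' ⟶ resX (Res D s) b) ≫ a =
        tr (Res D (b ≫ s)) (v ≫ a) (x ≫ e.hom) hv' := by
    intro T' v x hv hv'
    refine (congrArg (· ≫ a) (restrict_tr (Res D s) _ _ _ _ v x hv)).trans
      (Eq.trans ?_ (restrict_tr D _ _ _ _ _ _ hv').symm)
    refine pullback.hom_ext ?_ ?_
    · refine (Category.assoc _ _ _).trans ((congrArg (_ ≫ ·) ha₁).trans ?_)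
      refine (Category.assoc _ _ _).symm.trans ?_
      refine (congrArg (· ≫ pullback.fst D.obj.hom (pullback.fst g s))
        ((pullback.lift_fst _ _ _).trans (restrict_tr D _ _ _ _ _ _ _))).trans ?_
      rw [pullback.lift_fst, pullback.lift_fst]
      refine tr_congr D _ ?_ ?_
      · exact (Category.assoc _ _ _).trans ((congrArg (v ≫ ·) ha₁.symm).trans
          (Category.assoc _ _ _).symm)
      · rw [Category.assoc, ← he₁, ← Category.assoc]
    · refine (Category.assoc _ _ _).trans ((congrArg (_ ≫ ·) ha₂).trans ?_)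
      refine (Category.assoc _ _ _).symm.trans ?_
      exact (congrArg (· ≫ e.hom) (pullback.lift_snd _ _ _)).trans (pullback.lift_snd _ _ _).symm
  let ai : resX D (b ≫ s) ⟶ resX (Res D s) b := inv a
  have h₂ : ai ≫ a = 𝟙 _ := IsIso.inv_hom_id a
  have sqinv : IsPullback ai (resStr D (b ≫ s)) (pullback.snd (resStr D s) p₁) e.inv :=
    IsPullback.of_horiz_isIso ⟨(cancel_mono e.hom).1 ((Category.assoc _ _ _).trans
      (((congrArg (ai ≫ ·) ha₂.symm).trans ((Category.assoc _ _ _).symm.trans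
        ((congrArg (· ≫ resStr D (b ≫ s)) h₂).trans (Category.id_comp _)))).trans
          ((Category.assoc _ _ _).trans ((congrArg (resStr D (b ≫ s) ≫ ·) e.inv_hom_id).trans
            (Category.comp_id _))).symm))⟩
  constructor
  · intro hD
    refine effective_of_map (D₁ := Res D (b ≫ s)) (D₂ := Res (Res D s) b) ai e.inv (𝟙 T₁)
      (by rw [← he₂, e.inv_hom_id_assoc, Category.comp_id]) sqinv (fun {T'} v x hv hv' ↦ ?_) hD
    have k₁ : (v ≫ ai) ≫ a = v :=
      (Category.assoc _ _ _).trans ((congrArg (v ≫ ·) h₂).trans (Category.comp_id _))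
    have k₂ : (x ≫ e.inv) ≫ e.hom = x := by simp
    have hv'' : ((v ≫ ai) ≫ a) ≫ resStr D (b ≫ s) ≫ pullback.snd g (b ≫ s) =
        ((x ≫ e.inv) ≫ e.hom) ≫ pullback.snd g (b ≫ s) :=
      (congrArg (· ≫ _) k₁).trans (hv.trans (congrArg (· ≫ _) k₂).symm)
    refine (cancel_mono a).1 ?_
    exact ((Category.assoc _ _ _).trans ((congrArg (_ ≫ ·) h₂).trans ((Category.comp_id _).trans
      (tr_congr (Res D (b ≫ s)) _ k₁.symm k₂.symm)))).trans (hc _ _ hv' hv'').symm
  · exact effective_of_map (D₁ := Res (Res D s) b) (D₂ := Res D (b ≫ s)) a e.hom (𝟙 T₁)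
      (by rw [he₂, Category.comp_id]) sqa (fun v x hv hv' ↦ hc v x hv hv')

end Flatten

end Groth.Agent.Lib.EtDescent
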