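import Groth.Agent.Lib.EtDescent.Local

/-!
# Descent data from an action map; transport of charts along base changes of data
-/

set_option autoImplicit false
set_option linter.style.haveILetI false
universe u

open CategoryTheory CategoryTheory.Limits AlgebraicGeometry

namespace Groth.Agent.Lib.EtDescent

open Groth.Agent.Lib.FFDesc (restrict tr tr_hom tr_congr comp_tr φ_eq_tr)

section OfAct

variable {T S X : Scheme.{u}} {g : T ⟶ S} (x : X ⟶ T)

theorem act_aux {Z : Scheme.{u}} (v : Z ⟶ X) (y : Z ⟶ T) (y₀ : Z ⟶ T) (hv : v ≫ x = y₀)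
    (h : y₀ ≫ g = y ≫ g) : v ≫ x ≫ g = y ≫ g := by rw [← Category.assoc, hv, h]

variable (a : pullback (x ≫ g) g ⟶ X) (ha : a ≫ x = pullback.snd (x ≫ g) g)
  (h0 : pullback.lift (𝟙 X) x (Category.id_comp _) ≫ a = 𝟙 X)
  (h2 : pullback.lift (pullback.fst (pullback.snd (x ≫ g) g ≫ g) g ≫ a)
      (pullback.snd (pullback.snd (x ≫ g) g ≫ g) g)
      (by rw [Category.assoc, reassoc_of% ha, pullback.condition]) ≫ a =
    pullback.lift (pullback.fst (pullback.snd (x ≫ g) g ≫ g) g ≫ pullback.fst (x ≫ g) g)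
      (pullback.snd (pullback.snd (x ≫ g) g ≫ g) g)
      (by rw [Category.assoc, pullback.condition, pullback.condition]) ≫ a)

include h0 in
theorem act_self {Z : Scheme.{u}} (v : Z ⟶ X) (y : Z ⟶ T) (hy : v ≫ x = y) :
    pullback.lift v y (act_aux x v y y hy rfl) ≫ a = v := by
  subst hy
  have : pullback.lift v (v ≫ x) (act_aux x v _ _ rfl rfl) =
      v ≫ pullback.lift (𝟙 X) x (Category.id_comp (x ≫ g)) := by
    refine pullback.hom_ext ?_ ?_ <;> simp [pullback.lift_fst, pullback.lift_snd]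
  rw [this, Category.assoc, h0, Category.comp_id]

include h2 in
theorem act_comp {Z : Scheme.{u}} (v : Z ⟶ X) (y₁ y₂ : Z ⟶ T) (h₁ : v ≫ x ≫ g = y₁ ≫ g)
    (h₂ : (pullback.lift v y₁ h₁ ≫ a) ≫ x ≫ g = y₂ ≫ g) (h₃ : v ≫ x ≫ g = y₂ ≫ g) :
    pullback.lift (pullback.lift v y₁ h₁ ≫ a) y₂ h₂ ≫ a = pullback.lift v y₂ h₃ ≫ a := by
  let R : Z ⟶ pullback (pullback.snd (x ≫ g) g ≫ g) g :=
    pullback.lift (pullback.lift v y₁ h₁) y₂ (by
      rw [pullback.lift_snd_assoc, ← h₁, h₃])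
  have e := congr(R ≫ $h2)
  simp only [← Category.assoc] at e
  convert e using 2
  · refine pullback.hom_ext ?_ ?_
    · simp only [R, Category.assoc, pullback.lift_fst, pullback.lift_fst_assoc]
    · simp only [R, Category.assoc, pullback.lift_snd]
  · refine pullback.hom_ext ?_ ?_
    · simp only [R, Category.assoc, pullback.lift_fst, pullback.lift_fst_assoc]
    · simp only [R, Category.assoc, pullback.lift_snd]

include ha in
theorem act_hom' {Z : Scheme.{u}} (v : Z ⟶ X) (y : Z ⟶ T) (h : v ≫ x ≫ g = y ≫ g) :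
    (pullback.lift v y h ≫ a) ≫ x = y := by
  rw [Category.assoc, ha, pullback.lift_snd]

/-- The descent datum given by an action map. -/
noncomputable def datumOfAct : Desc.SchDD g where
  obj := Over.mk x
  φ Z y₀ y₁ h :=
    { toFun := fun v ↦ ⟨pullback.lift v.1 y₁ (act_aux x v.1 y₁ y₀ v.2 h) ≫ a,
        act_hom' x a ha _ _ _⟩
      invFun := fun v ↦ ⟨pullback.lift v.1 y₀ (act_aux x v.1 y₀ y₁ v.2 h.symm) ≫ a,
        act_hom' x a ha _ _ _⟩
      left_inv := fun v ↦ Subtype.ext (by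
        exact (act_comp x a ha h2 v.1 y₁ y₀ _ _ (act_aux x v.1 y₀ y₀ v.2 rfl)).trans
          (act_self x a h0 v.1 y₀ v.2))
      right_inv := fun v ↦ Subtype.ext (by
        exact (act_comp x a ha h2 v.1 y₀ y₁ _ _ (act_aux x v.1 y₁ y₁ v.2 rfl)).trans
          (act_self x a h0 v.1 y₁ v.2)) }
  φ_natural Z Z' k y₀ y₁ h h' v v' hv := by
    change pullback.lift v'.1 (k ≫ y₁) _ ≫ a = k ≫ pullback.lift v.1 y₁ _ ≫ a
    rw [← Category.assoc k]
    congr 1
    refine pullback.hom_ext ?_ ?_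
    · rw [pullback.lift_fst, Category.assoc, pullback.lift_fst]
      exact hv
    · rw [pullback.lift_snd, Category.assoc, pullback.lift_snd]
  φ_self Z y v := Subtype.ext (act_self x a h0 v.1 y v.2)
  φ_comp Z y₀ y₁ y₂ h₀₁ h₁₂ v := Subtype.ext (act_comp x a ha h2 v.1 y₁ y₂ _ _ _)

theorem tr_datumOfAct {Z : Scheme.{u}} (v : Z ⟶ X) (y : Z ⟶ T) (h : v ≫ x ≫ g = y ≫ g) :
    tr (datumOfAct x a ha h0 h2) v y h = pullback.lift v y h ≫ a :=
  (φ_eq_tr (datumOfAct x a ha h0 h2) (v ≫ x) y ((Category.assoc _ _ _).trans h) ⟨v, rfl⟩).symm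

end OfAct

section BaseChange

variable {S' S T : Scheme.{u}} {g : S' ⟶ S} {gT : T ⟶ S} (D : Desc.SchDD g) (DT : Desc.SchDD gT)

/-- Charts pass to base changes of descent data over the same base. -/
theorem enoughCharts_of_baseChange (π : S' ⟶ T) (hπ : π ≫ gT = g) (u : D.obj.left ⟶ DT.obj.left)
    (sq : IsPullback u D.obj.hom DT.obj.hom π)
    (hu : ∀ {Z : Scheme.{u}} (v : Z ⟶ D.obj.left) (y : Z ⟶ S') (h : v ≫ D.obj.hom ≫ g = y ≫ g)
      (h' : (v ≫ u) ≫ DT.obj.hom ≫ gT = (y ≫ π) ≫ gT),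
      tr D v y h ≫ u = tr DT (v ≫ u) (y ≫ π) h')
    (hE : EnoughCharts DT) : EnoughCharts D := fun x ↦ by
  obtain ⟨C, z, hz⟩ := hE (u x)
  let m : pullback g C.e ⟶ pullback gT C.e :=
    pullback.lift (pullback.fst g C.e ≫ π) (pullback.snd g C.e)
      (by rw [Category.assoc, hπ, pullback.condition])
  have hm : m ≫ pullback.fst gT C.e = pullback.fst g C.e ≫ π := pullback.lift_fst _ _ _
  have hσw : (m ≫ C.σ) ≫ DT.obj.hom = pullback.fst g C.e ≫ π := by
    rw [Category.assoc, C.σ_hom, hm]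
  let σ := sq.lift (m ≫ C.σ) (pullback.fst g C.e) hσw
  have hσ₁ : σ ≫ u = m ≫ C.σ := sq.lift_fst _ _ _
  have hσ₂ : σ ≫ D.obj.hom = pullback.fst g C.e := sq.lift_snd _ _ _
  refine ⟨⟨C.V, C.e, C.etale, σ, hσ₂, fun Z a b e ↦ ?_⟩, ?_⟩
  · refine sq.hom_ext ?_ (by rw [tr_hom, Category.assoc, hσ₂])
    have e' : (a ≫ m) ≫ pullback.snd gT C.e = (b ≫ m) ≫ pullback.snd gT C.e := by
      simp only [m, Category.assoc, pullback.lift_snd, e]
    have h1 : (a ≫ σ) ≫ u = (a ≫ m) ≫ C.σ := by rw [Category.assoc, hσ₁, Category.assoc]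
    have h2 : (b ≫ pullback.fst g C.e) ≫ π = (b ≫ m) ≫ pullback.fst gT C.e := by
      rw [Category.assoc, Category.assoc, hm]
    rw [hu _ _ _ (by rw [h1, h2]; exact chart_aux DT C.σ_hom (a ≫ m) (b ≫ m) e'),
      tr_congr DT _ h1 h2, C.inv (a ≫ m) (b ≫ m) e', Category.assoc, Category.assoc, hσ₁]
  · have sqm : IsPullback m (pullback.fst g C.e) (pullback.fst gT C.e) π :=
      IsPullback.of_right (by rw [pullback.lift_snd, hπ]; exact (IsPullback.of_hasPullback _ _).flip)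
        hm (IsPullback.of_hasPullback gT C.e).flip
    have sqσ : IsPullback m σ C.σ u :=
      IsPullback.of_bot (by rw [hσ₂, C.σ_hom]; exact sqm) hσ₁.symm sq
    obtain ⟨t, -, ht⟩ := Scheme.exists_preimage_of_isPullback sqσ z x hz
    exact ⟨t, ht⟩

end BaseChange

end Groth.Agent.Lib.EtDescent
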