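import Groth.Agent.Lib.EtDescent.Local

/-!
# Enough charts can be checked after refining the cover
-/

set_option autoImplicit false
set_option linter.style.haveILetI false
universe u

open CategoryTheory CategoryTheory.Limits AlgebraicGeometry

namespace Groth.Agent.Lib.EtDescent

open Groth.Agent.Lib.FFDesc (restrict tr tr_hom tr_congr tr_self tr_tr comp_tr)

variable {S' S : Scheme.{u}} {g : S' ⟶ S} {D : Desc.SchDD g}

/-- Two morphisms to the datum agree if they agree after a surjective base change. -/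
theorem eq_of_comp_eq [Etale D.obj.hom] {T T' : Scheme.{u}} (c : T' ⟶ T) [Surjective c]
    {a b : T ⟶ D.obj.left} (h : a ≫ D.obj.hom = b ≫ D.obj.hom) (e : c ≫ a = c ≫ b) : a = b := by
  refine eq_of_eqSet_eq_univ D.obj.hom h (Set.eq_univ_of_forall fun t ↦ ?_)
  obtain ⟨t, rfl⟩ := c.surjective t
  exact subset_eqSet D.obj.hom c a b h e ⟨t, rfl⟩

theorem univSubmersive_surjective {T T' : Scheme.{u}} {h : T' ⟶ T}
    (hh : SGA1.UnivSubmersive h) : Surjective h :=
  ⟨(hh (𝟙 _) (𝟙 _) h IsPullback.of_id_snd).surjective⟩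

theorem univSubmersive_of_isPullback {P X Y Z : Scheme.{u}} {fst : P ⟶ X} {snd : P ⟶ Z}
    {f : X ⟶ Y} {h : Z ⟶ Y} (sq : IsPullback fst snd f h) (hh : SGA1.UnivSubmersive h) :
    SGA1.UnivSubmersive fst :=
  MorphismProperty.of_isPullback (P := MorphismProperty.universally _) sq.flip hh

/-- Etale maps descend along universally submersive maps. -/
theorem exists_hom_descend {Y K P : Scheme.{u}} (k : K ⟶ P) (hk : SGA1.UnivSubmersive k) (q : Y ⟶ P)
    [Etale q] (f₀ : K ⟶ Y) (hf₀ : f₀ ≫ q = k)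
    (hind : ∀ {Z : Scheme.{u}} (a b : Z ⟶ K), a ≫ k = b ≫ k → a ≫ f₀ = b ≫ f₀) :
    ∃ u : P ⟶ Y, u ≫ q = 𝟙 P ∧ k ≫ u = f₀ := by
  let f' : pullback (𝟙 P) k ⟶ pullback q k :=
    pullback.lift (pullback.snd _ _ ≫ f₀) (pullback.snd _ _) (by rw [Category.assoc, hf₀])
  have e₁ : f' ≫ pullback.fst q k = pullback.snd _ _ ≫ f₀ := pullback.lift_fst _ _ _
  obtain ⟨u, ⟨hu₁, hu₂⟩, -⟩ := Groth.Agent.S3709.result k hk (𝟙 P) q f' (pullback.lift_snd _ _ _) (by
    rw [e₁]
    simp only [← Category.assoc]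
    refine hind _ _ ?_
    simp only [pullback.map, Category.assoc, pullback.lift_snd]
    exact congrArg (pullback.snd _ _ ≫ ·) pullback.condition)
  refine ⟨u, hu₁, ?_⟩
  have e := congr(pullback.lift k (𝟙 K) (by rw [Category.comp_id, Category.id_comp]) ≫ $hu₂)
  rw [e₁, pullback.lift_snd_assoc, Category.id_comp, pullback.lift_fst_assoc] at e
  exact e.symm

/-- A chart after refining the cover descends to a chart. -/
theorem exists_chart_of_refine [Etale D.obj.hom] {T : Scheme.{u}} {h : T ⟶ S} (r : T ⟶ S')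
    (w : h ≫ 𝟙 S = r ≫ g) (hh : SGA1.UnivSubmersive h) (C : Chart (restrict D h r (𝟙 S) w)) :
    ∃ σ : pullback g C.e ⟶ D.obj.left, ∃ C' : Chart D, Set.range σ ⊆ Set.range C'.σ ∧
      ∀ {Z : Scheme.{u}} (a : Z ⟶ pullback h C.e) (b : Z ⟶ pullback g C.e),
        a ≫ pullback.snd h C.e = b ≫ pullback.snd g C.e →
          ∀ hab, b ≫ σ = tr D (a ≫ C.down) (b ≫ pullback.fst g C.e) hab := by
  let P := pullback g C.e
  have hdg : C.down ≫ D.obj.hom ≫ g = pullback.snd h C.e ≫ C.e := by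
    rw [C.down_hom_assoc, ← w, Category.comp_id]
    exact pullback.condition
  let k₁ := pullback.fst (pullback.snd g C.e) (pullback.snd h C.e)
  let k₂ := pullback.snd (pullback.snd g C.e) (pullback.snd h C.e)
  have hk₁ : SGA1.UnivSubmersive k₁ :=
    univSubmersive_of_isPullback (IsPullback.of_hasPullback _ _)
      (univSubmersive_of_isPullback (IsPullback.of_hasPullback h C.e).flip hh)
  haveI := univSubmersive_surjective hk₁
  have haux : ∀ {Z : Scheme.{u}} (a : Z ⟶ pullback h C.e) (b : Z ⟶ P),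
      a ≫ pullback.snd h C.e = b ≫ pullback.snd g C.e →
        (a ≫ C.down) ≫ D.obj.hom ≫ g = (b ≫ pullback.fst g C.e) ≫ g := fun a b e ↦ by
    rw [Category.assoc, hdg, reassoc_of% e, Category.assoc, pullback.condition]
  -- independence of the lift
  have hind : ∀ {Z : Scheme.{u}} (a a' : Z ⟶ pullback h C.e) (x : Z ⟶ S') (h₁ h₂),
      a ≫ pullback.snd h C.e = a' ≫ pullback.snd h C.e →
        tr D (a ≫ C.down) x h₁ = tr D (a' ≫ C.down) x h₂ := by
    intro Z a a' x h₁ h₂ e
    exact ((tr_congr D h₂ (C.inv_down a a' e).symm rfl).trans (tr_tr D _ _ _ _ _)).symm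
  let f₀ := tr D (k₂ ≫ C.down) (k₁ ≫ pullback.fst g C.e) (haux k₂ k₁ pullback.condition.symm)
  let q := pullback.snd D.obj.hom (pullback.fst g C.e)
  haveI : Etale q := inferInstanceAs (Etale (pullback.snd D.obj.hom (pullback.fst g C.e)))
  have hy₀ : f₀ ≫ D.obj.hom = k₁ ≫ pullback.fst g C.e := tr_hom D _ _ _
  obtain ⟨u, hu₁, hu₂⟩ := exists_hom_descend k₁ hk₁ q (pullback.lift f₀ k₁ hy₀)
    (pullback.lift_snd _ _ _) fun {Z} a b e ↦ by
      refine pullback.hom_ext ?_ ?_
      · simp only [Category.assoc, pullback.lift_fst, f₀, comp_tr]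
        simp only [← Category.assoc]
        refine (hind _ _ _ _ ?_ ?_).trans (tr_congr D _ rfl ?_)
        · rw [Category.assoc (b ≫ k₂), hdg, e]
          simp only [Category.assoc]
          exact congrArg (b ≫ ·) ((pullback.condition_assoc C.e).symm.trans
            (congrArg (k₁ ≫ ·) pullback.condition.symm))
        · simp only [Category.assoc]
          rw [← pullback.condition, reassoc_of% e]
        · rw [e]
      · simp only [Category.assoc, pullback.lift_snd, e]
  let σ := u ≫ pullback.fst D.obj.hom (pullback.fst g C.e)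
  have hσ : σ ≫ D.obj.hom = pullback.fst g C.e := by
    rw [Category.assoc, pullback.condition, reassoc_of% hu₁]
  have hkσ : k₁ ≫ σ = f₀ := by
    rw [← Category.assoc, hu₂, pullback.lift_fst]
  have hspec : ∀ {Z : Scheme.{u}} (a : Z ⟶ pullback h C.e) (b : Z ⟶ P),
      a ≫ pullback.snd h C.e = b ≫ pullback.snd g C.e →
        ∀ hab, b ≫ σ = tr D (a ≫ C.down) (b ≫ pullback.fst g C.e) hab := fun a b e hab ↦ by
    have e₂ : pullback.lift b a e.symm ≫ k₁ = b := pullback.lift_fst _ _ _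
    calc b ≫ σ = pullback.lift b a e.symm ≫ k₁ ≫ σ := by rw [reassoc_of% e₂]
      _ = _ := by
        rw [hkσ, comp_tr]
        refine tr_congr D _ ?_ ?_
        · rw [← Category.assoc, pullback.lift_snd]
        · rw [reassoc_of% e₂]
  refine ⟨σ, ⟨C.V, C.e, C.etale, σ, hσ, fun Z a b e ↦ ?_⟩, subset_rfl, hspec⟩
  haveI := univSubmersive_surjective hh
  let c := pullback.fst (a ≫ pullback.snd g C.e) (pullback.snd h C.e)
  let t := pullback.snd (a ≫ pullback.snd g C.e) (pullback.snd h C.e)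
  have ht : t ≫ pullback.snd h C.e = (c ≫ a) ≫ pullback.snd g C.e := by
    rw [Category.assoc]
    exact pullback.condition.symm
  have ht' : t ≫ pullback.snd h C.e = (c ≫ b) ≫ pullback.snd g C.e := by
    rw [ht, Category.assoc]; exact (congrArg (c ≫ ·) e).trans (Category.assoc _ _ _).symm
  haveI : Surjective c := MorphismProperty.of_isPullback (IsPullback.of_hasPullback _ _).flip
    (inferInstanceAs (Surjective (pullback.snd h C.e)))
  refine eq_of_comp_eq c (by rw [tr_hom, Category.assoc, hσ]) ?_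
  rw [comp_tr]
  have h₁ := (Category.assoc c a σ).symm.trans (hspec t (c ≫ a) ht (haux t _ ht))
  have h₂ := (Category.assoc c b σ).symm.trans (hspec t (c ≫ b) ht' (haux t _ ht'))
  refine ((tr_congr D _ h₁ rfl).trans (tr_tr D _ _ _ _ _)).trans (Eq.trans ?_ h₂.symm)
  exact tr_congr D _ rfl (Category.assoc _ _ _).symm

/-- Enough charts can be checked after refining the cover. -/
theorem enoughCharts_of_refine [Etale D.obj.hom] {T : Scheme.{u}} {h : T ⟶ S} (r : T ⟶ S')
    (w : h ≫ 𝟙 S = r ≫ g) (hh : SGA1.UnivSubmersive h)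
    (hE : EnoughCharts (restrict D h r (𝟙 S) w)) : EnoughCharts D := fun x ↦ by
  haveI := univSubmersive_surjective hh
  obtain ⟨t, ht⟩ := h.surjective (g (D.obj.hom x))
  obtain ⟨z, hz, -⟩ := Scheme.Pullback.exists_preimage_pullback (f := D.obj.hom ≫ g) (g := h) x t
    ((Scheme.Hom.comp_apply _ _ _).trans ht.symm)
  let Q := pullback (D.obj.hom ≫ g) h
  let q₁ := pullback.fst (D.obj.hom ≫ g) h
  let q₂ := pullback.snd (D.obj.hom ≫ g) h
  have hq : q₁ ≫ D.obj.hom ≫ g = (q₂ ≫ r) ≫ g := by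
    rw [Category.assoc, ← w, Category.comp_id]
    exact pullback.condition
  let y : Q ⟶ pullback D.obj.hom r := pullback.lift (tr D q₁ (q₂ ≫ r) hq) q₂ (tr_hom D _ _ _)
  obtain ⟨C, hC⟩ := hE (y z)
  obtain ⟨w', hw'⟩ := hC
  obtain ⟨σ, C', hC', hspec⟩ := exists_chart_of_refine r w hh C
  let σ₀ : pullback h C.e ⟶ pullback D.obj.hom r := C.σ
  obtain ⟨l, hl₁, hl₂⟩ := Scheme.Pullback.exists_preimage_pullback (f := σ₀) (g := y) w' z hw'
  let l₁ := pullback.fst σ₀ y
  let l₂ := pullback.snd σ₀ y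
  have hd : l₁ ≫ C.down = tr D (l₂ ≫ q₁) (l₂ ≫ q₂ ≫ r) (by simp only [Category.assoc, hq]) := by
    rw [← comp_tr D l₂ q₁ (q₂ ≫ r) hq, ← show y ≫ pullback.fst D.obj.hom r = tr D q₁ (q₂ ≫ r) hq from
      pullback.lift_fst _ _ _]
    exact (Category.assoc _ _ _).symm.trans ((congrArg (· ≫ pullback.fst D.obj.hom r)
      (pullback.condition (f := σ₀) (g := y))).trans (Category.assoc _ _ _))
  have hls : l₁ ≫ pullback.fst h C.e = l₂ ≫ q₂ := by
    have := congr($(pullback.condition (f := σ₀) (g := y)) ≫ pullback.snd D.obj.hom r)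
    rw [Category.assoc, Category.assoc, pullback.lift_snd] at this
    exact (congrArg (l₁ ≫ ·) C.σ_hom.symm).trans this
  have hpw : (l₂ ≫ q₁ ≫ D.obj.hom) ≫ g = (l₁ ≫ pullback.snd h C.e) ≫ C.e := by
    rw [Category.assoc, Category.assoc, Category.assoc]
    exact (congrArg (l₂ ≫ ·) pullback.condition).trans
      (((Category.assoc _ _ _).symm.trans ((congrArg (· ≫ h) hls).trans (Category.assoc _ _ _))).symm.trans (congrArg (l₁ ≫ ·) pullback.condition))
  let p : pullback σ₀ y ⟶ pullback g C.e :=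
    pullback.lift (l₂ ≫ q₁ ≫ D.obj.hom) (l₁ ≫ pullback.snd h C.e) hpw
  refine ⟨C', hC' ⟨p l, ?_⟩⟩
  have hp₁ : p ≫ pullback.fst g C.e = l₂ ≫ q₁ ≫ D.obj.hom := pullback.lift_fst _ _ _
  have key : p ≫ σ = l₂ ≫ q₁ := by
    rw [hspec l₁ p (pullback.lift_snd _ _ _).symm (by
      rw [hp₁, hpw, Category.assoc, C.down_hom_assoc, ← w, Category.comp_id, Category.assoc]
      exact congrArg (l₁ ≫ ·) pullback.condition)]
    rw [tr_congr D _ hd hp₁, tr_tr]
    exact tr_self D _ _ (Category.assoc _ _ _)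
  rw [← Scheme.Hom.comp_apply, key, Scheme.Hom.comp_apply]
  exact (congrArg q₁ hl₂).trans hz

end Groth.Agent.Lib.EtDescent
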