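import Groth.Agent.Lib.FFDesc.Glue
import Groth.Agent.Lib.EtDescent.Refine

/-!
# Etale descended schemes glue along Zariski coverings of the base
-/

set_option autoImplicit false
set_option linter.style.haveILetI false
universe u

open CategoryTheory CategoryTheory.Limits AlgebraicGeometry TopologicalSpace

namespace Groth.Agent.Lib.EtDescent

open Groth.Agent.Lib.FFDesc

/-- Morphisms over an etale scheme agree if they agree after a surjection. -/
theorem eq_of_surjective_comp {K P Z T : Scheme.{u}} (w : Z ⟶ T) [Etale w] (q : K ⟶ P)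
    (hq : Surjective q) {a b : P ⟶ Z} (h : a ≫ w = b ≫ w) (e : q ≫ a = q ≫ b) : a = b := by
  refine eq_of_eqSet_eq_univ w h (Set.eq_univ_of_forall fun t ↦ ?_)
  obtain ⟨t, rfl⟩ := hq.surj t
  exact subset_eqSet w q a b h e ⟨t, rfl⟩

variable {X S : Scheme.{u}} {p : X ⟶ S} {D : Desc.SchDD p}

/-- Invariant maps to an etale scheme factor through the descended scheme. -/
theorem exists_desc_etale {U : Over S} {q : D.obj.left ⟶ U.left} (H : IsDescended D U q)
    (hp : SGA1.UnivSubmersive p) {Y T : Scheme.{u}} (k : D.obj.left ⟶ Y)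
    (hk : pr D ≫ k = act D ≫ k) (z : Y ⟶ T) [Etale z] (τ : U.left ⟶ T) (h : k ≫ z = q ≫ τ) :
    ∃ l : U.left ⟶ Y, q ≫ l = k ∧ l ≫ z = τ := by
  obtain ⟨u, hu₁, hu₂⟩ := exists_hom_descend q (univSubmersive_of_isPullback H.isPullback.flip hp)
    (pullback.snd z τ) (pullback.lift k q h) (pullback.lift_snd _ _ _) fun a b e ↦ by
      obtain ⟨h', hb⟩ := H.kernelPair a b e
      refine pullback.hom_ext ?_ ?_
      · rw [Category.assoc, Category.assoc, pullback.lift_fst, ← hb, Category.assoc, ← hk,
          pullback.lift_fst_assoc]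
      · rw [Category.assoc, Category.assoc, pullback.lift_snd, e]
  refine ⟨u ≫ pullback.fst z τ, ?_, ?_⟩
  · rw [reassoc_of% hu₂, pullback.lift_fst]
  · rw [Category.assoc, pullback.condition, reassoc_of% hu₁]

/-- Etale descended schemes are unique. -/
theorem isIso_of_isDescended {U U' : Over S} [Etale U.hom] [Etale U'.hom]
    {q : D.obj.left ⟶ U.left} {q' : D.obj.left ⟶ U'.left} (H : IsDescended D U q)
    (H' : IsDescended D U' q') (hp : SGA1.UnivSubmersive p) (γ : U.left ⟶ U'.left)
    (hγ : q ≫ γ = q') (hγw : γ ≫ U'.hom = U.hom) : IsIso γ := by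
  obtain ⟨δ, hδ, hδw⟩ := exists_desc_etale H' hp q H.inv U.hom U'.hom
    (H.isPullback.w.symm.trans H'.isPullback.w)
  exact ⟨δ, eq_of_surjective_comp U.hom q
      (univSubmersive_surjective (univSubmersive_of_isPullback H.isPullback.flip hp))
      (by rw [Category.assoc, hδw, hγw, Category.id_comp])
      (by rw [reassoc_of% hγ, hδ, Category.comp_id]),
    eq_of_surjective_comp U'.hom q'
      (univSubmersive_surjective (univSubmersive_of_isPullback H'.isPullback.flip hp))
      (by rw [Category.assoc, hγw, hδw, Category.id_comp])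
      (by rw [reassoc_of% hδ, hγ, Category.comp_id])⟩

variable (D)

/-- The opens in a basis. -/
def BasisIdx {S : Scheme.{u}} (B : Set S.Opens) : Type u := {W : S.Opens // W ∈ B}

instance {S : Scheme.{u}} (B : Set S.Opens) : Preorder (BasisIdx B) :=
  Preorder.lift (fun W ↦ W.1)

/-- The cover by the opens in a basis. -/
@[simps I₀ X f]
noncomputable def basisCover {S : Scheme.{u}} (B : Set S.Opens) (hB : Opens.IsBasis B) :
    S.OpenCover where
  I₀ := BasisIdx B
  X U := U.1
  f U := U.1.ι
  mem₀ := by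
    rw [Scheme.presieve₀_mem_precoverage_iff]
    refine ⟨fun x ↦ ?_, inferInstance⟩
    obtain ⟨U, hU, hx, -⟩ := Opens.isBasis_iff_nbhd.mp hB (Opens.mem_top x)
    exact ⟨⟨U, hU⟩, ⟨x, hx⟩, rfl⟩

instance {S : Scheme.{u}} (B : Set S.Opens) (hB : Opens.IsBasis B) :
    Preorder (basisCover B hB).I₀ :=
  inferInstanceAs (Preorder (BasisIdx B))

set_option backward.isDefEq.respectTransparency.types false in
set_option backward.defeqAttrib.useBackward true in
noncomputable instance {S : Scheme.{u}} (B : Set S.Opens) (hB : Opens.IsBasis B) :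
    Scheme.Cover.LocallyDirected (basisCover B hB) :=
  .ofIsBasisOpensRange (by intros; simp; rfl) <| by
    convert! hB
    ext U
    simp only [basisCover, Set.mem_range, Scheme.Opens.opensRange_ι]
    exact ⟨fun ⟨i, hi⟩ ↦ hi ▸ i.2, fun hU ↦ ⟨⟨U, hU⟩, rfl⟩⟩

set_option backward.isDefEq.respectTransparency false in
/-- A descent datum effective over a basis of the base is effective. -/
theorem exists_isDescended_of_etale_pieces {B : Set S.Opens} (hB : Opens.IsBasis B)
    (hp : SGA1.UnivSubmersive p)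
    (UW : ∀ W : BasisIdx B, Over (W.1 : Scheme.{u}))
    (qW : ∀ W : BasisIdx B, pullback D.obj.hom (pullback.fst p W.1.ι) ⟶ (UW W).left)
    (hUW : ∀ W : BasisIdx B, Etale (UW W).hom)
    (HW : ∀ W : BasisIdx B, IsDescended (piece D W.1) (UW W) (qW W)) :
    ∃ (U : Over S) (q : D.obj.left ⟶ U.left), IsDescended D U q ∧ Etale U.hom := by
  let h := D.obj.hom
  have hpW : ∀ W : BasisIdx B, SGA1.UnivSubmersive (pullback.snd p W.1.ι) :=
    fun W ↦ univSubmersive_of_isPullback (IsPullback.of_hasPullback _ _).flip hp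
  haveI : ∀ W : BasisIdx B, Etale (UW W).hom := hUW
  let z : ∀ W : BasisIdx B, (UW W).left ⟶ S := fun W ↦ (UW W).hom ≫ W.1.ι
  haveI : ∀ W : BasisIdx B, Etale (z W) := fun W ↦ inferInstanceAs (Etale ((UW W).hom ≫ W.1.ι))
  -- transition maps
  let c : ∀ {i j : BasisIdx B}, i ≤ j → (pullback p i.1.ι ⟶ pullback p j.1.ι) := fun {i j} hij ↦
    pullback.lift (pullback.fst _ _) (pullback.snd _ _ ≫ S.homOfLE hij)
      (by rw [Category.assoc, S.homOfLE_ι, pullback.condition])
  let t : ∀ {i j : BasisIdx B}, i ≤ j →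
      (pullback h (pullback.fst p i.1.ι) ⟶ pullback h (pullback.fst p j.1.ι)) := fun {i j} hij ↦
    pullback.lift (pullback.fst _ _) (pullback.snd _ _ ≫ c hij)
      (by rw [Category.assoc, pullback.lift_fst, pullback.condition])
  have hsqc : ∀ {i j : BasisIdx B} (hij : i ≤ j), IsPullback (c hij) (pullback.snd p i.1.ι)
      (pullback.snd p j.1.ι) (S.homOfLE hij) := fun {i j} hij ↦ by
    refine IsPullback.of_right ?_ (pullback.lift_snd _ _ _) (IsPullback.of_hasPullback p j.1.ι)
    rw [pullback.lift_fst, S.homOfLE_ι]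
    exact IsPullback.of_hasPullback p i.1.ι
  have hsqt : ∀ {i j : BasisIdx B} (hij : i ≤ j), IsPullback (t hij)
      (pullback.snd h (pullback.fst p i.1.ι)) (pullback.snd h (pullback.fst p j.1.ι)) (c hij) :=
    fun {i j} hij ↦ by
    refine IsPullback.of_right ?_ (pullback.lift_snd _ _ _)
      (IsPullback.of_hasPullback h (pullback.fst p j.1.ι))
    rw [pullback.lift_fst, pullback.lift_fst]
    exact IsPullback.of_hasPullback h (pullback.fst p i.1.ι)
  have hinv : ∀ {i j : BasisIdx B} (hij : i ≤ j),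
      pr (piece D i.1) ≫ t hij ≫ qW j = act (piece D i.1) ≫ t hij ≫ qW j := fun {i j} hij ↦ by
    let v : V₂ (piece D i.1) ⟶ pullback h (pullback.fst p i.1.ι) := pr (piece D i.1)
    let x : V₂ (piece D i.1) ⟶ pullback p i.1.ι := pr₁ (piece D i.1)
    have hv : v ≫ pullback.snd h (pullback.fst p i.1.ι) ≫ pullback.snd p i.1.ι =
        x ≫ pullback.snd p i.1.ι := pullback.condition
    have hv' : (v ≫ t hij) ≫ pullback.snd h (pullback.fst p j.1.ι) ≫ pullback.snd p j.1.ι =
        (x ≫ c hij) ≫ pullback.snd p j.1.ι := by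
      refine (Category.assoc _ _ _).trans ((congrArg (v ≫ ·)
        ((hsqt hij).paste_vert (hsqc hij)).w).trans ?_)
      refine Eq.trans ?_ ((congrArg (x ≫ ·) (hsqc hij).w.symm).trans (Category.assoc _ _ _).symm)
      exact (congrArg (v ≫ ·) (Category.assoc _ _ _)).trans ((reassoc_of% hv) _)
    have e : act (piece D i.1) ≫ t hij = tr (piece D j.1) (v ≫ t hij) (x ≫ c hij) hv' := by
      rw [act_eq_tr]
      refine Eq.trans ?_ (restrict_tr D _ _ _ _ _ _ hv').symm
      refine (congrArg (· ≫ t hij) (restrict_tr D _ _ _ _ _ _ hv)).trans ?_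
      refine pullback.hom_ext ?_ ?_
      · refine (Category.assoc _ _ _).trans ((congrArg (_ ≫ ·) (pullback.lift_fst _ _ _)).trans
          ((pullback.lift_fst _ _ _).trans (Eq.trans ?_ (pullback.lift_fst _ _ _).symm)))
        exact tr_congr D _ ((Category.assoc _ _ _).trans (congrArg (v ≫ ·) (pullback.lift_fst _ _ _))).symm
          ((Category.assoc _ _ _).trans (congrArg (x ≫ ·) (pullback.lift_fst _ _ _))).symm
      · exact ((Category.assoc _ _ _).trans ((congrArg (_ ≫ ·) (pullback.lift_snd _ _ _)).trans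
          ((Category.assoc _ _ _).symm.trans (congrArg (· ≫ c hij) (pullback.lift_snd _ _ _))))).trans
            (pullback.lift_snd _ _ _).symm
    rw [← Category.assoc (act _), e]
    exact (Category.assoc _ _ _).symm.trans
      ((HW j).tr_comp (piece D j.1) (v ≫ t hij) (x ≫ c hij) hv').symm
  have Hw : ∀ i : BasisIdx B, pullback.snd h (pullback.fst p i.1.ι) ≫ pullback.snd p i.1.ι =
      qW i ≫ (UW i).hom := fun i ↦ (HW i).isPullback.w
  have Hqs : ∀ i, SGA1.UnivSubmersive (qW i) := fun i ↦
    univSubmersive_of_isPullback (HW i).isPullback.flip (hpW i)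
  have Hext : ∀ (i : BasisIdx B) {Z T : Scheme.{u}} (w : Z ⟶ T) [Etale w]
      {a b : (UW i).left ⟶ Z}, a ≫ w = b ≫ w → qW i ≫ a = qW i ≫ b → a = b :=
    fun i _ _ w _ _ _ e₁ e₂ ↦ eq_of_surjective_comp w (qW i) (univSubmersive_surjective (Hqs i)) e₁ e₂
  have Hpb : ∀ i : BasisIdx B, IsPullback (pullback.snd h (pullback.fst p i.1.ι)) (qW i)
      (pullback.snd p i.1.ι) (UW i).hom := fun i ↦ (HW i).isPullback
  have hzt : ∀ {i j : BasisIdx B} (hij : i ≤ j), (t hij ≫ qW j) ≫ z j = qW i ≫ z i :=
    fun {i j} hij ↦ by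
      simp only [z, Category.assoc]
      rw [← reassoc_of% (Hw j), reassoc_of% ((hsqt hij).paste_vert (hsqc hij)).w,
        ← reassoc_of% (Hw i)]
      simp
  have hl' : ∀ (i j : BasisIdx B) (hij : i ≤ j),
      ∃ l : (UW i).left ⟶ (UW j).left, qW i ≫ l = t hij ≫ qW j ∧ l ≫ z j = z i :=
    fun i j hij ↦ exists_desc_etale (HW i) (hpW i) _ (hinv hij) (z j) (z i) (hzt hij)
  choose l' hl' hlz' using hl'
  let l : ∀ {i j : BasisIdx B}, i ≤ j → ((UW i).left ⟶ (UW j).left) := fun {i j} hij ↦ l' i j hij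
  have hl : ∀ {i j : BasisIdx B} (hij : i ≤ j), qW i ≫ l hij = t hij ≫ qW j :=
    fun {i j} hij ↦ hl' i j hij
  have hlz : ∀ {i j : BasisIdx B} (hij : i ≤ j), l hij ≫ z j = z i :=
    fun {i j} hij ↦ hlz' i j hij
  have hlw : ∀ {i j : BasisIdx B} (hij : i ≤ j), l hij ≫ (UW j).hom = (UW i).hom ≫ S.homOfLE hij :=
    fun {i j} hij ↦ by
      rw [← cancel_mono j.1.ι, Category.assoc, Category.assoc, S.homOfLE_ι]
      exact hlz hij
  have hlpb : ∀ {i j : BasisIdx B} (hij : i ≤ j),
      IsPullback (UW i).hom (l hij) (S.homOfLE hij) (UW j).hom := fun {i j} hij ↦ by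
    let P := pullback (UW j).hom (S.homOfLE hij)
    let γ : (UW i).left ⟶ P := pullback.lift (l hij) (UW i).hom (hlw hij)
    have hsq : IsPullback (qW i ≫ γ) (pullback.snd h (pullback.fst p i.1.ι))
        (pullback.snd (UW j).hom (S.homOfLE hij)) (pullback.snd p i.1.ι) := by
      refine IsPullback.of_right ?_ ?_ (IsPullback.of_hasPullback (UW j).hom (S.homOfLE hij))
      · rw [Category.assoc, pullback.lift_fst, hl hij, ← (hsqc hij).w]
        exact (hsqt hij).paste_horiz (Hpb j).flip
      · rw [Category.assoc, pullback.lift_snd]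
        exact (Hw i).symm
    have H'' : IsDescended (piece D i.1)
        (Over.mk (pullback.snd (UW j).hom (S.homOfLE hij))) (qW i ≫ γ) :=
      ⟨hsq.flip, by rw [← Category.assoc, (HW i).inv, Category.assoc]⟩
    haveI : Etale (pullback.snd (UW j).hom (S.homOfLE hij)) :=
      MorphismProperty.pullback_snd (P := @Etale) _ _ (hUW j)
    haveI : Etale (Over.mk (pullback.snd (UW j).hom (S.homOfLE hij))).hom :=
      ‹Etale (pullback.snd (UW j).hom (S.homOfLE hij))›
    have : IsIso γ := isIso_of_isDescended (HW i) H'' (hpW i) γ rfl (pullback.lift_snd _ _ _)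
    exact (IsPullback.of_hasPullback (UW j).hom (S.homOfLE hij)).flip.of_iso (asIso γ).symm
      (Iso.refl _) (Iso.refl _) (Iso.refl _) (by simp [γ]) (by simp [γ]) (by simp) (by simp)
  let F : BasisIdx B ⥤ Scheme.{u} :=
    { obj i := (UW i).left
      map {i j} hij := l (leOfHom hij)
      map_id i := Hext i (z i) (by rw [hlz, Category.id_comp]) (by
        rw [hl, Category.comp_id]
        refine (congrArg (· ≫ qW i) ?_).trans (Category.id_comp _)
        apply pullback.hom_ext <;> simp [t, c])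
      map_comp {i j k} f g := Hext i (z k) (by rw [hlz, Category.assoc, hlz, hlz]) (by
        rw [hl, reassoc_of% hl (leOfHom f), hl (leOfHom g), ← Category.assoc]
        congr 1
        apply pullback.hom_ext
        · simp [t]
        · simp only [t, Category.assoc, pullback.lift_snd, pullback.lift_snd_assoc]
          congr 1
          apply pullback.hom_ext <;> simp [c]) }
  let d : (basisCover B hB).RelativeGluingData :=
    { functor := F
      natTrans :=
        { app i := (UW i).hom
          naturality i j f := hlw (leOfHom f) }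
      equifibered := fun {i j} f ↦ (hlpb (leOfHom f)).flip }
  have : Small.{u} (basisCover B hB).I₀ := inferInstanceAs (Small.{u} (BasisIdx B))
  have : Quiver.IsThin (basisCover B hB).I₀ :=
    fun (a b : BasisIdx B) ↦ inferInstanceAs (Subsingleton (a ⟶ b))
  have hld : (d.functor ⋙ Scheme.forget).IsLocallyDirected :=
    Scheme.Cover.RelativeGluingData.instIsLocallyDirectedI₀CompFunctorForgetOfIsThin d
  have hop : ∀ {i j} (f : i ⟶ j), IsOpenImmersion (d.functor.map f) := fun f ↦
    Scheme.Cover.RelativeGluingData.instIsOpenImmersionMapI₀Functor d f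
  have hcol : HasColimit d.functor := inferInstance
  have hsqι : ∀ i, IsPullback (UW i).hom (colimit.ι d.functor i) i.1.ι d.toBase :=
    d.isPullback_natTrans_ι_toBase
  -- the map `q`
  let 𝒱 : D.obj.left.OpenCover := (basisCover B hB).pullback₁ (h ≫ p)
  let g : ∀ i : BasisIdx B, pullback (h ≫ p) i.1.ι ⟶ pullback h (pullback.fst p i.1.ι) := fun i ↦
    pullback.lift (pullback.fst _ _)
      (pullback.lift (pullback.fst _ _ ≫ h) (pullback.snd _ _)
        (by rw [Category.assoc]; exact pullback.condition))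
      (pullback.lift_fst _ _ _).symm
  let qi : ∀ i : BasisIdx B, pullback (h ≫ p) i.1.ι ⟶ colimit d.functor := fun i ↦
    g i ≫ qW i ≫ colimit.ι d.functor i
  obtain ⟨q, hq⟩ : ∃ q : D.obj.left ⟶ colimit d.functor,
      ∀ i : BasisIdx B, pullback.fst (h ≫ p) i.1.ι ≫ q = qi i := by
    refine ⟨𝒱.glueMorphismsOfLocallyDirected qi ?hc,
      fun i ↦ 𝒱.map_glueMorphismsOfLocallyDirected qi ?hc i⟩
    intro (i : BasisIdx B) (j : BasisIdx B) f
    have hij : i ≤ j := leOfHom f
    have e : 𝒱.trans f ≫ g j = g i ≫ t hij := by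
      have eF : 𝒱.trans f ≫ pullback.fst (h ≫ p) j.1.ι = pullback.fst (h ≫ p) i.1.ι :=
        (pullback.lift_fst _ _ _).trans (Category.comp_id _)
      have eS : 𝒱.trans f ≫ pullback.snd (h ≫ p) j.1.ι =
          pullback.snd (h ≫ p) i.1.ι ≫ S.homOfLE hij := pullback.lift_snd _ _ _
      refine pullback.hom_ext ?_ (pullback.hom_ext ?_ ?_) <;>
        simp [g, t, c, eF, eS, reassoc_of% eF]
    simp only [qi]
    rw [reassoc_of% e, ← reassoc_of% hl hij]
    exact congrArg (fun z ↦ g i ≫ qW i ≫ z) (colimit.w d.functor (homOfLE hij))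
  let U : Over S := Over.mk d.toBase
  have hginv : ∀ i : BasisIdx B, IsIso (g i) := fun i ↦ by
    refine ⟨pullback.lift (pullback.fst _ _) (pullback.snd _ _ ≫ pullback.snd _ _) ?_, ?_, ?_⟩
    · rw [pullback.condition_assoc, Category.assoc, pullback.condition]
    · apply pullback.hom_ext <;> simp [g]
    · refine pullback.hom_ext ?_ (pullback.hom_ext ?_ ?_) <;> simp [g, pullback.condition]
  have hqw : h ≫ p = q ≫ d.toBase := 𝒱.hom_ext _ _ fun (i : BasisIdx B) ↦ by
    change pullback.fst (h ≫ p) i.1.ι ≫ _ = pullback.fst (h ≫ p) i.1.ι ≫ _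
    rw [reassoc_of% hq i, pullback.condition]
    simp only [qi, Category.assoc, ← (hsqι i).w, ← reassoc_of% (Hw i)]
    simp [g]
  have hqsq : ∀ i : BasisIdx B, IsPullback (g i ≫ qW i) (pullback.fst (h ≫ p) i.1.ι)
      (colimit.ι d.functor i) q := fun i ↦ by
    refine IsPullback.of_right ?_ ?_ (hsqι i).flip.flip.flip.flip
    · rw [← hqw]
      have e : (g i ≫ qW i) ≫ (UW i).hom = pullback.snd (h ≫ p) i.1.ι := by
        rw [Category.assoc, ← (Hw i)]
        simp [g]
      rw [e]
      exact (IsPullback.of_hasPullback (h ≫ p) i.1.ι).flip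
    · rw [hq i, Category.assoc]
  refine ⟨U, q, ⟨?_, ?_⟩, ?_⟩
  · -- cartesian
    refine (Scheme.isPullback_of_openCover q h d.toBase p d.cover fun (i : BasisIdx B) ↦ ?_).flip
    have big : IsPullback (g i ≫ qW i) (pullback.fst (h ≫ p) i.1.ι ≫ h)
        (colimit.ι d.functor i ≫ d.toBase) p := by
      have s1 := (Hpb i).flip.paste_vert (IsPullback.of_hasPullback p i.1.ι).flip
      rw [(hsqι i).w] at s1
      exact s1.of_iso (asIso (g i)).symm (Iso.refl _) (Iso.refl _) (Iso.refl _)
        (by simp) (by simp [g]) (by simp) (by simp)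
    refine big.of_iso ((hqsq i).flip.isoPullback) (Iso.refl _) (Iso.refl _) (Iso.refl _)
      ?_ ?_ (by simp [d]) (by simp)
    · refine ((Category.comp_id _).trans ?_)
      exact ((hqsq i).flip.isoPullback_hom_snd).symm
    · refine ((Category.comp_id _).trans ?_)
      exact ((congrArg (· ≫ h) (hqsq i).flip.isoPullback_hom_fst).symm).trans (Category.assoc _ _ _)
  · -- invariance
    refine Scheme.Cover.hom_ext ((basisCover B hB).pullback₁ (pr D ≫ h ≫ p)) _ _ fun (i : BasisIdx B) ↦ ?_
    let π := pullback.fst (pr D ≫ h ≫ p) i.1.ι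
    let σ := pullback.snd (pr D ≫ h ≫ p) i.1.ι
    change π ≫ pr D ≫ q = π ≫ act D ≫ q
    have h0 : (π ≫ pr D) ≫ h ≫ p = σ ≫ i.1.ι := by
      rw [Category.assoc]; exact pullback.condition
    let v := pullback.lift (π ≫ pr D) σ h0 ≫ g i
    let x := pullback.lift (π ≫ pr₁ D) σ (by
      rw [← h0, Category.assoc, Category.assoc]
      exact congrArg (π ≫ ·) pullback.condition.symm)
    have hx : v ≫ pullback.snd h (pullback.fst p i.1.ι) ≫ pullback.snd p i.1.ι =
        x ≫ pullback.snd p i.1.ι := by simp [v, x, g]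
    have h1 : (π ≫ act D) ≫ h ≫ p = σ ≫ i.1.ι := by
      rw [Category.assoc, act_hom_assoc, ← pullback.condition, ← h0, Category.assoc]
    have hgfst : g i ≫ pullback.fst D.obj.hom (pullback.fst p i.1.ι) =
        pullback.fst (h ≫ p) i.1.ι := pullback.lift_fst _ _ _
    have e : tr (piece D i.1) v x hx = pullback.lift (π ≫ act D) σ h1 ≫ g i := by
      rw [restrict_tr]
      refine pullback.hom_ext ?_ ?_
      · rw [pullback.lift_fst]
        refine (tr_congr D _ (show v ≫ pullback.fst D.obj.hom (pullback.fst p i.1.ι) = π ≫ pr D by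
          simp [v, hgfst]) (show x ≫ pullback.fst p i.1.ι = π ≫ pr₁ D by simp [x])).trans
          ((comp_tr D π (pr D) (pr₁ D) pullback.condition).symm.trans
            ((congrArg (π ≫ ·) (act_eq_tr D).symm).trans ?_))
        simp [hgfst]
      · rw [pullback.lift_snd, Category.assoc, pullback.lift_snd]
        apply pullback.hom_ext
        · simp [x]
          exact (congrArg (π ≫ ·) (act_hom D)).symm
        · simp [x]
    have key : v ≫ qW i = pullback.lift (π ≫ act D) σ h1 ≫ g i ≫ qW i := by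
      rw [← (HW i).tr_comp (piece D i.1) v x hx, e, Category.assoc]
    have k0 : ∀ (a : pullback (pr D ≫ h ≫ p) i.1.ι ⟶ V₂ D) (b : V₂ D ⟶ D.obj.left)
        (hab : (a ≫ b) ≫ h ≫ p = σ ≫ i.1.ι),
        a ≫ b ≫ q = pullback.lift (a ≫ b) σ hab ≫ g i ≫ qW i ≫ colimit.ι d.functor i :=
      fun a b hab ↦ by
        calc a ≫ b ≫ q = (pullback.lift (a ≫ b) σ hab ≫ pullback.fst (h ≫ p) i.1.ι) ≫ q := by
              rw [pullback.lift_fst, Category.assoc]
          _ = _ := by rw [Category.assoc, hq i]
    rw [k0 π (pr D) h0, k0 π (act D) h1, ← Category.assoc _ (g i)]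
    exact ((Category.assoc _ _ _).symm.trans (congrArg (· ≫ colimit.ι d.functor i) key)).trans
      (by simp only [Category.assoc])
  · -- etale
    refine IsZariskiLocalAtSource.of_openCover (P := @Etale) d.cover fun (i : BasisIdx B) ↦ ?_
    change Etale (colimit.ι d.functor i ≫ d.toBase)
    rw [← (hsqι i).w]
    exact inferInstanceAs (Etale ((UW i).hom ≫ i.1.ι))

end Groth.Agent.Lib.EtDescent
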