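import Mathlib.AlgebraicGeometry.AffineTransitionLimit

/-!
# Fibre products of cofiltered limits over a fixed base
-/

set_option autoImplicit false
universe u

open CategoryTheory CategoryTheory.Limits AlgebraicGeometry

namespace Groth.Agent.Lib.EtDescent.LimPullback

variable {I : Type u} [SmallCategory I] {A B : I ⥤ Scheme.{u}} {Z : Scheme.{u}}
  (a : A ⟶ (Functor.const I).obj Z) (b : B ⟶ (Functor.const I).obj Z)

/-- The diagram of fibre products over a fixed base. -/
noncomputable def diagram : I ⥤ Scheme.{u} where
  obj k := pullback (a.app k) (b.app k)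
  map {k l} φ := pullback.map _ _ _ _ (A.map φ) (B.map φ) (𝟙 Z)
    (by rw [a.naturality]; simp) (by rw [b.naturality]; simp)
  map_id k := by
    apply pullback.hom_ext <;> simp [pullback.map]
  map_comp φ ψ := by
    apply pullback.hom_ext <;>
      simp [pullback.map, pullback.lift_fst, pullback.lift_snd, pullback.lift_fst_assoc,
        pullback.lift_snd_assoc]

variable {cA : Cone A} {cB : Cone B} {P : Scheme.{u}} {p₁ : P ⟶ cA.pt} {p₂ : P ⟶ cB.pt}
  {za : cA.pt ⟶ Z} {zb : cB.pt ⟶ Z} (hza : ∀ k, cA.π.app k ≫ a.app k = za)
  (hzb : ∀ k, cB.π.app k ≫ b.app k = zb) (sq : IsPullback p₁ p₂ za zb)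

/-- The cone on a fibre product of limits. -/
noncomputable def cone : Cone (diagram a b) where
  pt := P
  π := { app := fun k ↦ pullback.lift (p₁ ≫ cA.π.app k) (p₂ ≫ cB.π.app k)
          (by rw [Category.assoc, Category.assoc, hza, hzb, sq.w])
         naturality := fun k l φ ↦ by
          dsimp only [Functor.const_obj_obj, Functor.const_obj_map]
          rw [Category.id_comp]
          apply pullback.hom_ext <;>
            simp [diagram, pullback.map, pullback.lift_fst, pullback.lift_snd,
              pullback.lift_fst_assoc, pullback.lift_snd_assoc] }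

@[reassoc]
theorem cone_π_fst (k : I) : (cone a b hza hzb sq).π.app k ≫ pullback.fst (a.app k) (b.app k) =
    p₁ ≫ cA.π.app k :=
  pullback.lift_fst _ _ _

@[reassoc]
theorem cone_π_snd (k : I) : (cone a b hza hzb sq).π.app k ≫ pullback.snd (a.app k) (b.app k) =
    p₂ ≫ cB.π.app k :=
  pullback.lift_snd _ _ _

/-- The first projection of a cone. -/
noncomputable def fstCone (s : Cone (diagram a b)) : Cone A :=
  ⟨s.pt, { app := fun k ↦ s.π.app k ≫ pullback.fst (a.app k) (b.app k)
           naturality := fun k l φ ↦ by
            dsimp only [Functor.const_obj_obj, Functor.const_obj_map]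
            rw [Category.id_comp, ← s.w φ, Category.assoc, Category.assoc]
            congr 1
            exact pullback.lift_fst _ _ _ }⟩

/-- The second projection of a cone. -/
noncomputable def sndCone (s : Cone (diagram a b)) : Cone B :=
  ⟨s.pt, { app := fun k ↦ s.π.app k ≫ pullback.snd (a.app k) (b.app k)
           naturality := fun k l φ ↦ by
            dsimp only [Functor.const_obj_obj, Functor.const_obj_map]
            rw [Category.id_comp, ← s.w φ, Category.assoc, Category.assoc]
            congr 1
            exact pullback.lift_snd _ _ _ }⟩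

/-- The fibre product of limits is the limit of the fibre products. -/
noncomputable def isLimit [IsCofiltered I] (hA : IsLimit cA) (hB : IsLimit cB) :
    IsLimit (cone a b hza hzb sq) where
  lift s :=
    sq.lift (hA.lift (fstCone a b s)) (hB.lift (sndCone a b s))
      (by
        have k : I := IsCofiltered.nonempty.some
        rw [← hza k, ← hzb k]
        refine ((Category.assoc _ _ _).symm.trans (congrArg (· ≫ a.app k) (hA.fac (fstCone a b s) k))).trans
          (Eq.trans ?_ ((Category.assoc _ _ _).symm.trans
            (congrArg (· ≫ b.app k) (hB.fac (sndCone a b s) k))).symm)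
        exact (Category.assoc _ _ _).trans
          ((congrArg (s.π.app k ≫ ·) pullback.condition).trans (Category.assoc _ _ _).symm))
  fac s k := by
    apply pullback.hom_ext
    · refine (Category.assoc _ _ _).trans ((congrArg (_ ≫ ·) (cone_π_fst a b hza hzb sq k)).trans ?_)
      exact ((Category.assoc _ _ _).symm.trans
        (congrArg (· ≫ cA.π.app k) (sq.lift_fst _ _ _))).trans (hA.fac _ k)
    · refine (Category.assoc _ _ _).trans ((congrArg (_ ≫ ·) (cone_π_snd a b hza hzb sq k)).trans ?_)
      exact ((Category.assoc _ _ _).symm.trans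
        (congrArg (· ≫ cB.π.app k) (sq.lift_snd _ _ _))).trans (hB.fac _ k)
  uniq s m hm := by
    refine sq.hom_ext (hA.hom_ext fun k ↦ ?_) (hB.hom_ext fun k ↦ ?_)
    · refine ((Category.assoc _ _ _).trans (congrArg (m ≫ ·) (cone_π_fst a b hza hzb sq k).symm)).trans ?_
      refine ((Category.assoc _ _ _).symm.trans (congrArg (· ≫ _) (hm k))).trans ?_
      exact ((congrArg (· ≫ cA.π.app k) (sq.lift_fst (hA.lift (fstCone a b s)) (hB.lift (sndCone a b s)) _)).trans
        (hA.fac (fstCone a b s) k)).symm
    · refine ((Category.assoc _ _ _).trans (congrArg (m ≫ ·) (cone_π_snd a b hza hzb sq k).symm)).trans ?_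
      refine ((Category.assoc _ _ _).symm.trans (congrArg (· ≫ _) (hm k))).trans ?_
      exact ((congrArg (· ≫ cB.π.app k) (sq.lift_snd (hA.lift (fstCone a b s)) (hB.lift (sndCone a b s)) _)).trans
        (hB.fac (sndCone a b s) k)).symm

theorem isAffineHom_map {k l : I} (φ : k ⟶ l) [IsAffineHom (A.map φ)] [IsAffineHom (B.map φ)] :
    IsAffineHom ((diagram a b).map φ) := by
  let m : pullback (a.app k) (b.app k) ⟶ pullback (a.app k) (b.app l) :=
    pullback.map _ _ _ _ (𝟙 _) (B.map φ) (𝟙 Z) (by simp) (by rw [b.naturality]; simp)
  let m' : pullback (a.app k) (b.app l) ⟶ pullback (a.app l) (b.app l) :=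
    pullback.map _ _ _ _ (A.map φ) (𝟙 _) (𝟙 Z) (by rw [a.naturality]; simp) (by simp)
  have h : (diagram a b).map φ = m ≫ m' := by
    apply pullback.hom_ext <;>
      simp [diagram, m, m', pullback.map, pullback.lift_fst, pullback.lift_snd,
        pullback.lift_fst_assoc, pullback.lift_snd_assoc]
  have sq₁ : IsPullback m (pullback.snd (a.app k) (b.app k)) (pullback.snd (a.app k) (b.app l))
      (B.map φ) :=
    IsPullback.of_right
      (by
        have h1 : m ≫ pullback.fst (a.app k) (b.app l) = pullback.fst (a.app k) (b.app k) :=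
          (pullback.lift_fst _ _ _).trans (Category.comp_id _)
        have h2 : B.map φ ≫ b.app l = b.app k := (b.naturality φ).trans (Category.comp_id _)
        rw [h1, h2]
        exact IsPullback.of_hasPullback _ _)
      (pullback.lift_snd _ _ _) (IsPullback.of_hasPullback _ _)
  have sq₂ : IsPullback m' (pullback.fst (a.app k) (b.app l)) (pullback.fst (a.app l) (b.app l))
      (A.map φ) :=
    IsPullback.of_right
      (by
        have h1 : m' ≫ pullback.snd (a.app l) (b.app l) = pullback.snd (a.app k) (b.app l) :=
          (pullback.lift_snd _ _ _).trans (Category.comp_id _)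
        have h2 : A.map φ ≫ a.app l = a.app k := (a.naturality φ).trans (Category.comp_id _)
        rw [h1, h2]
        exact (IsPullback.of_hasPullback _ _).flip)
      (pullback.lift_fst _ _ _) (IsPullback.of_hasPullback _ _).flip
  haveI : IsAffineHom m := MorphismProperty.of_isPullback sq₁.flip ‹IsAffineHom (B.map φ)›
  haveI : IsAffineHom m' := MorphismProperty.of_isPullback sq₂.flip ‹IsAffineHom (A.map φ)›
  rw [h]
  exact inferInstanceAs (IsAffineHom (m ≫ m'))

end Groth.Agent.Lib.EtDescent.LimPullback
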