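import Groth.Agent.Lib.EtDescent.DatumOfAct
import Groth.Agent.Lib.EtDescent.LimPullback
import Groth.Agent.Lib.Lim.Basic
import Groth.Agent.Lib.Lim.FPDescend
import Groth.Agent.Lib.Lim.SmoothEtale
import Groth.Agent.Lib.Lim.Valuative

/-!
# Descent data over a limit come from a stage
-/

set_option autoImplicit false
set_option linter.style.haveILetI false
universe u

open CategoryTheory CategoryTheory.Limits AlgebraicGeometry
open Groth.Agent.Lib.Lim.Basic (bcDiagram bcCone isLimitBcCone bcFst bcSnd bcCone_π_fst bcCone_π_snd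
  isPullback_bcCone_π)

namespace Groth.Agent.Lib.EtDescent

open Groth.Agent.Lib.FFDesc (tr tr_congr tr_self tr_tr comp_tr act act_hom act_eq_tr pr pr₁ V₂)

variable {I : Type u} [SmallCategory I] [IsCofiltered I] (T : I ⥤ Scheme.{u}) {S : Scheme.{u}}
  (τ : T ⟶ (Functor.const I).obj S) {c : Cone T}

/-- A separated etale stage of an etale separated morphism to a limit. -/
theorem exists_etale_stage [∀ i, IsAffine (T.obj i)] (hc : IsLimit c) {X : Scheme.{u}}
    (x : X ⟶ c.pt) [Etale x] [IsSeparated x] [CompactSpace X] [QuasiSeparatedSpace X] :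
    ∃ (i : I) (Xi : Scheme.{u}) (fi : Xi ⟶ T.obj i) (gX : X ⟶ Xi),
      CompactSpace Xi ∧ QuasiSeparatedSpace Xi ∧ Etale fi ∧ IsSeparated fi ∧
        IsPullback gX x fi (c.π.app i) := by
  haveI : ∀ {i j : I} (f : i ⟶ j), IsAffineHom (T.map f) := fun f ↦ inferInstance
  obtain ⟨i, Xi, fi, gX, hXc, hXq, hfi, sq⟩ := Lim.FPDescend.exists_descent hc x
  obtain ⟨j, φ, hj⟩ := Lim.SmoothEtale.etale_descends T c hc (fun _ _ _ ↦ inferInstance) i
    inferInstance inferInstance fi hXc hXq hfi x gX sq inferInstance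
  have sqj := Lim.FPDescend.move sq φ
  set Xj := pullback fi (T.map φ)
  set fj : Xj ⟶ T.obj j := pullback.snd fi (T.map φ)
  set gj := pullback.lift (f := fi) (g := T.map φ) gX (x ≫ c.π.app j)
    (by rw [Category.assoc, c.w, sq.w])
  haveI : IsAffineHom (T.map φ) := inferInstance
  haveI : IsAffineHom (pullback.fst fi (T.map φ)) :=
    MorphismProperty.pullback_fst (P := @IsAffineHom) _ _ inferInstance
  haveI : CompactSpace Xj := QuasiCompact.compactSpace_of_compactSpace (pullback.fst fi (T.map φ))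
  haveI : QuasiSeparatedSpace Xj := quasiSeparatedSpace_of_quasiSeparated (pullback.fst fi (T.map φ))
  haveI := fun l ↦ Lim.Basic.compactSpace_bcDiagram T fj l
  haveI := fun l ↦ Lim.Basic.quasiSeparatedSpace_bcDiagram T fj l
  haveI : IsSeparated ((bcCone (D := T) (a := fj) sqj.w).π.app (Over.mk (𝟙 j)) ≫
      (bcFst T fj ≫ (Functor.const (Over j)).map fj).app (Over.mk (𝟙 j))) := by
    haveI : IsAffineHom (c.π.app j) := Lim.Basic.isAffineHom_π hc j
    haveI : IsSeparated x := ‹_›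
    rw [show (bcFst T fj ≫ (Functor.const (Over j)).map fj).app (Over.mk (𝟙 j)) =
      pullback.fst fj (T.map (Over.mk (𝟙 j)).hom) ≫ fj from rfl]
    erw [← Category.assoc, bcCone_π_fst sqj.w, sqj.w]
    exact inferInstanceAs (IsSeparated (x ≫ c.π.app j))
  obtain ⟨l, hl⟩ := Lim.Valuative.exists_isSeparated (S := T.obj j) (isLimitBcCone hc sqj)
    (bcFst T fj ≫ (Functor.const (Over j)).map fj) (Over.mk (𝟙 j))
  haveI : IsSeparated (pullback.fst fj (T.map l.hom) ≫ fj) := hl
  haveI : IsSeparated (pullback.snd fj (T.map l.hom) ≫ T.map l.hom) := by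
    rw [← pullback.condition]; infer_instance
  haveI : IsSeparated (pullback.snd fj (T.map l.hom)) := IsSeparated.of_comp _ (T.map l.hom)
  exact ⟨l.left, pullback fj (T.map l.hom), pullback.snd fj (T.map l.hom), _,
    Lim.Basic.compactSpace_bcDiagram T fj l, Lim.Basic.quasiSeparatedSpace_bcDiagram T fj l,
    MorphismProperty.pullback_snd (P := @Etale) _ _ hj, inferInstance,
    Lim.FPDescend.move sqj l.hom⟩

omit [IsCofiltered I] in
/-- The structure map to a fixed stage. -/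
theorem toStage_naturality {i : I} {j k : Over i} (φ : j ⟶ k) :
    T.map φ.left ≫ T.map k.hom = T.map j.hom := by
  rw [← T.map_comp, Over.w φ]

section Stages

variable {J : Type u} [SmallCategory J] [IsCofiltered J] {A B : J ⥤ Scheme.{u}} (xj : A ⟶ B)
  {B₀ : Scheme.{u}} (τ' : B ⟶ (Functor.const J).obj B₀) {cB : Cone B}

/-- Charts exist if they exist for every action at a stage. -/
theorem enoughCharts_of_stages [∀ {j k : J} (φ : j ⟶ k), IsAffineHom (A.map φ)]
    [∀ {j k : J} (φ : j ⟶ k), IsAffineHom (B.map φ)] [∀ j, CompactSpace (A.obj j)]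
    [∀ j, QuasiSeparatedSpace (A.obj j)] [∀ j, IsAffine (B.obj j)] [IsAffine B₀]
    (hB : IsLimit cB) {g : cB.pt ⟶ B₀} (hg : ∀ j, cB.π.app j ≫ τ'.app j = g)
    (D : Desc.SchDD g) (πA : (Functor.const J).obj D.obj.left ⟶ A)
    (hA : IsLimit (Cone.mk D.obj.left πA))
    (hpb : ∀ j, IsPullback (πA.app j) D.obj.hom (xj.app j) (cB.π.app j))
    {Xi Ti : Scheme.{u}} (fi : Xi ⟶ Ti) [LocallyOfFinitePresentation fi]
    (ξ : A ⟶ (Functor.const J).obj Xi) (η : B ⟶ (Functor.const J).obj Ti)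
    (sq : ∀ j, IsPullback (ξ.app j) (xj.app j) fi (η.app j))
    (hE : ∀ k, ∀ Dk : Desc.SchDD (τ'.app k), Dk.obj = Over.mk (xj.app k) → EnoughCharts Dk) :
    EnoughCharts D := by
  let a : A ⟶ (Functor.const J).obj B₀ := xj ≫ τ'
  let uA : ∀ j, D.obj.left ⟶ A.obj j := fun j ↦ πA.app j
  let uB : ∀ j, cB.pt ⟶ B.obj j := fun j ↦ cB.π.app j
  have hx : ∀ j, uA j ≫ xj.app j = D.obj.hom ≫ uB j := fun j ↦ (hpb j).w
  have hza : ∀ j, (Cone.mk D.obj.left πA).π.app j ≫ a.app j = D.obj.hom ≫ g := fun j ↦ by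
    change uA j ≫ xj.app j ≫ τ'.app j = _
    rw [reassoc_of% hx]
    exact congrArg (D.obj.hom ≫ ·) (hg j)
  let Q := LimPullback.diagram a τ'
  let cQ : Cone Q := LimPullback.cone a τ' hza hg (IsPullback.of_hasPullback (D.obj.hom ≫ g) g)
  have hQ : IsLimit cQ := LimPullback.isLimit _ _ _ _ _ hA hB
  let uQ : ∀ j, V₂ D ⟶ pullback (xj.app j ≫ τ'.app j) (τ'.app j) := fun j ↦ cQ.π.app j
  have hQ₁ : ∀ j, uQ j ≫ pullback.fst _ _ = pr D ≫ uA j :=
    fun j ↦ LimPullback.cone_π_fst _ _ _ _ _ j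
  have hQ₂ : ∀ j, uQ j ≫ pullback.snd _ _ = pr₁ D ≫ uB j :=
    fun j ↦ LimPullback.cone_π_snd _ _ _ _ _ j
  let qS : Q ⟶ B :=
    { app := fun j ↦ pullback.snd (xj.app j ≫ τ'.app j) (τ'.app j)
      naturality := fun j k φ ↦ pullback.lift_snd _ _ _ }
  haveI : ∀ {j k : J} (φ : j ⟶ k), IsAffineHom (Q.map φ) :=
    fun φ ↦ LimPullback.isAffineHom_map _ _ φ
  haveI : ∀ j, IsAffineHom (τ'.app j) := fun j ↦
    haveI : IsAffine (((Functor.const J).obj B₀).obj j) := ‹IsAffine B₀›
    inferInstance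
  haveI hQc : ∀ j, CompactSpace (Q.obj j) := fun j ↦
    haveI : IsAffineHom (pullback.fst (xj.app j ≫ τ'.app j) (τ'.app j)) :=
      MorphismProperty.pullback_fst (P := @IsAffineHom) _ _ inferInstance
    haveI : QuasiCompact (pullback.fst (xj.app j ≫ τ'.app j) (τ'.app j)) :=
      MorphismProperty.pullback_fst (P := @QuasiCompact) _ _ inferInstance
    haveI : QuasiSeparated (pullback.fst (xj.app j ≫ τ'.app j) (τ'.app j)) :=
      MorphismProperty.pullback_fst (P := @QuasiSeparated) _ _ inferInstance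
    have h : CompactSpace ↥(pullback (xj.app j ≫ τ'.app j) (τ'.app j)) :=
      QuasiCompact.compactSpace_of_compactSpace (pullback.fst (xj.app j ≫ τ'.app j) (τ'.app j))
    h
  haveI : ∀ j, QuasiSeparatedSpace (Q.obj j) := fun j ↦
    haveI : IsAffineHom (pullback.fst (xj.app j ≫ τ'.app j) (τ'.app j)) :=
      MorphismProperty.pullback_fst (P := @IsAffineHom) _ _ inferInstance
    haveI : QuasiCompact (pullback.fst (xj.app j ≫ τ'.app j) (τ'.app j)) :=
      MorphismProperty.pullback_fst (P := @QuasiCompact) _ _ inferInstance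
    haveI : QuasiSeparated (pullback.fst (xj.app j ≫ τ'.app j) (τ'.app j)) :=
      MorphismProperty.pullback_fst (P := @QuasiSeparated) _ _ inferInstance
    have h : QuasiSeparatedSpace ↥(pullback (xj.app j ≫ τ'.app j) (τ'.app j)) :=
      quasiSeparatedSpace_of_quasiSeparated (pullback.fst (xj.app j ≫ τ'.app j) (τ'.app j))
    h
  -- the action map at a stage
  obtain ⟨r, hr⟩ : ∃ r : D.obj.left ⟶ Xi, ∀ j, uA j ≫ ξ.app j = r := by
    refine ⟨uA (IsCofiltered.nonempty (C := J)).some ≫ ξ.app _, fun j ↦ ?_⟩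
    let j₀ := (IsCofiltered.nonempty (C := J)).some
    obtain ⟨l, u₁, u₂, -⟩ := IsCofilteredOrEmpty.cone_objs j j₀
    have h₁ := ξ.naturality u₁
    have h₂ := ξ.naturality u₂
    simp only [Functor.const_obj_map, Category.comp_id] at h₁ h₂
    have w₁ : uA l ≫ A.map u₁ = uA j := (Cone.mk D.obj.left πA).w u₁
    have w₂ : uA l ≫ A.map u₂ = uA j₀ := (Cone.mk D.obj.left πA).w u₂
    change _ = uA j₀ ≫ ξ.app j₀
    rw [← w₁, ← w₂]
    exact (Category.assoc _ _ _).trans ((congrArg (uA l ≫ ·) (h₁.trans h₂.symm)).trans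
      (Category.assoc _ _ _).symm)
  obtain ⟨j, α₀, hα₀, hα₀f⟩ := Scheme.exists_π_app_comp_eq_of_locallyOfFinitePresentation
    (D := Q) (t := qS ≫ η) (f := fi) (c := cQ) hQ (act D ≫ r) (by
      ext k
      change uQ k ≫ pullback.snd _ _ ≫ η.app k = (act D ≫ r) ≫ fi
      rw [← hr k, reassoc_of% hQ₂, Category.assoc, Category.assoc, (sq k).w, reassoc_of% hx,
        FFDesc.act_hom_assoc])
  let α : pullback (xj.app j ≫ τ'.app j) (τ'.app j) ⟶ Xi := α₀
  have hα : uQ j ≫ α = act D ≫ r := hα₀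
  have hαf : α ≫ fi = pullback.snd _ _ ≫ η.app j := hα₀f
  let aj : pullback (xj.app j ≫ τ'.app j) (τ'.app j) ⟶ A.obj j := (sq j).lift α (pullback.snd _ _) hαf
  have haj₁ : aj ≫ ξ.app j = α := (sq j).lift_fst _ _ _
  have haj₂ : aj ≫ xj.app j = pullback.snd _ _ := (sq j).lift_snd _ _ _
  have haj : uQ j ≫ aj = act D ≫ uA j := by
    refine (sq j).hom_ext ?_ ?_
    · rw [Category.assoc, haj₁, hα, ← hr j, Category.assoc]
    · rw [Category.assoc, haj₂, hQ₂, Category.assoc, hx, FFDesc.act_hom_assoc]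
  -- self identity
  let l₀ : A.obj j ⟶ pullback (xj.app j ≫ τ'.app j) (τ'.app j) :=
    pullback.lift (𝟙 _) (xj.app j) (Category.id_comp _)
  obtain ⟨k₁, ψ₁, h₁⟩ := Scheme.exists_hom_comp_eq_comp_of_locallyOfFiniteType A
    (ξ ≫ (Functor.const _).map fi) fi (Cone.mk D.obj.left πA) hA (i := j) (l₀ ≫ α) (ξ.app j)
    (by
      change ξ.app j ≫ fi = _
      rw [Category.assoc, hαf, pullback.lift_snd_assoc, (sq j).w])
    rfl
    (by
      change uA j ≫ l₀ ≫ α = uA j ≫ ξ.app j
      have : uA j ≫ l₀ =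
          (pullback.lift (𝟙 _) D.obj.hom (Category.id_comp _) : D.obj.left ⟶ V₂ D) ≫ uQ j := by
        refine pullback.hom_ext ?_ ?_
        · rw [Category.assoc, Category.assoc, pullback.lift_fst, hQ₁, Category.comp_id]
          simp only [pr, pullback.lift_fst_assoc, Category.id_comp]
        · rw [Category.assoc, Category.assoc, pullback.lift_snd, hQ₂, hx]
          simp only [pr₁, pullback.lift_snd_assoc]
      rw [reassoc_of% this, hα, hr, ← Category.assoc]
      exact (congrArg (· ≫ r) (tr_self D (𝟙 _) D.obj.hom (Category.id_comp _))).trans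
        (Category.id_comp _))
  -- cocycle identity
  let e : Q ⟶ (Functor.const J).obj B₀ := qS ≫ τ'
  have hze : ∀ k, cQ.π.app k ≫ e.app k = pullback.snd (D.obj.hom ≫ g) g ≫ g := fun k ↦ by
    change uQ k ≫ pullback.snd _ _ ≫ τ'.app k = _
    rw [reassoc_of% hQ₂]
    exact congrArg (pr₁ D ≫ ·) (hg k)
  let W := LimPullback.diagram e τ'
  let cW : Cone W := LimPullback.cone e τ' hze hg
    (IsPullback.of_hasPullback (pullback.snd (D.obj.hom ≫ g) g ≫ g) g)
  have hW : IsLimit cW := LimPullback.isLimit _ _ _ _ _ hQ hB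
  haveI : ∀ {j k : J} (φ : j ⟶ k), IsAffineHom (W.map φ) :=
    fun φ ↦ LimPullback.isAffineHom_map _ _ φ
  haveI : ∀ k, CompactSpace (W.obj k) := fun k ↦
    haveI : IsAffineHom (pullback.fst (pullback.snd (xj.app k ≫ τ'.app k) (τ'.app k) ≫ τ'.app k) (τ'.app k)) :=
      MorphismProperty.pullback_fst (P := @IsAffineHom) _ _ inferInstance
    haveI : QuasiCompact (pullback.fst (pullback.snd (xj.app k ≫ τ'.app k) (τ'.app k) ≫ τ'.app k) (τ'.app k)) :=
      MorphismProperty.pullback_fst (P := @QuasiCompact) _ _ inferInstance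
    haveI : QuasiSeparated (pullback.fst (pullback.snd (xj.app k ≫ τ'.app k) (τ'.app k) ≫ τ'.app k) (τ'.app k)) :=
      MorphismProperty.pullback_fst (P := @QuasiSeparated) _ _ inferInstance
    haveI := hQc k
    have h : CompactSpace ↥(pullback (pullback.snd (xj.app k ≫ τ'.app k) (τ'.app k) ≫ τ'.app k) (τ'.app k)) :=
      QuasiCompact.compactSpace_of_compactSpace (pullback.fst (pullback.snd (xj.app k ≫ τ'.app k) (τ'.app k) ≫ τ'.app k) (τ'.app k))
    h
  let V : Scheme.{u} := pullback (pullback.snd (D.obj.hom ≫ g) g ≫ g) g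
  let q₁ : V ⟶ V₂ D := pullback.fst _ _
  let q₂ : V ⟶ cB.pt := pullback.snd _ _
  have hqq : q₁ ≫ pr₁ D ≫ g = q₂ ≫ g := pullback.condition
  let uW : ∀ k, V ⟶ pullback (pullback.snd (xj.app k ≫ τ'.app k) (τ'.app k) ≫ τ'.app k) (τ'.app k) := fun k ↦ cW.π.app k
  let w₁ : ∀ k, pullback (pullback.snd (xj.app k ≫ τ'.app k) (τ'.app k) ≫ τ'.app k) (τ'.app k) ⟶ pullback (xj.app k ≫ τ'.app k) (τ'.app k) :=
    fun k ↦ pullback.fst (pullback.snd (xj.app k ≫ τ'.app k) (τ'.app k) ≫ τ'.app k) (τ'.app k)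
  let w₂ : ∀ k, pullback (pullback.snd (xj.app k ≫ τ'.app k) (τ'.app k) ≫ τ'.app k) (τ'.app k) ⟶ B.obj k :=
    fun k ↦ pullback.snd (pullback.snd (xj.app k ≫ τ'.app k) (τ'.app k) ≫ τ'.app k) (τ'.app k)
  have hw : ∀ k, w₁ k ≫ pullback.snd _ _ ≫ τ'.app k = w₂ k ≫ τ'.app k :=
    fun k ↦ pullback.condition (f := pullback.snd (xj.app k ≫ τ'.app k) (τ'.app k) ≫ τ'.app k)
  have hW₁ : ∀ k, uW k ≫ w₁ k = q₁ ≫ uQ k := fun k ↦ LimPullback.cone_π_fst _ _ _ _ _ k
  have hW₂ : ∀ k, uW k ≫ w₂ k = q₂ ≫ uB k := fun k ↦ LimPullback.cone_π_snd _ _ _ _ _ k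
  have hla : aj ≫ xj.app j ≫ τ'.app j = pullback.snd _ _ ≫ τ'.app j := by
    rw [reassoc_of% haj₂]
  let L : pullback (pullback.snd (xj.app j ≫ τ'.app j) (τ'.app j) ≫ τ'.app j) (τ'.app j) ⟶ pullback (xj.app j ≫ τ'.app j) (τ'.app j) :=
    pullback.lift (w₁ j ≫ aj) (w₂ j) (by rw [Category.assoc, hla, hw])
  let R : pullback (pullback.snd (xj.app j ≫ τ'.app j) (τ'.app j) ≫ τ'.app j) (τ'.app j) ⟶ pullback (xj.app j ≫ τ'.app j) (τ'.app j) :=
    pullback.lift (w₁ j ≫ pullback.fst _ _) (w₂ j) (by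
      rw [Category.assoc, pullback.condition, hw])
  obtain ⟨k₂, ψ₂, h₂⟩ := Scheme.exists_hom_comp_eq_comp_of_locallyOfFiniteType W
    (({ app := w₂
        naturality := fun k l φ ↦ pullback.lift_snd _ _ _ } : W ⟶ B) ≫ η)
    fi cW hW (i := j) (L ≫ α) (R ≫ α)
    (by
      refine Eq.trans ?_ (Category.assoc _ _ _).symm
      change w₂ j ≫ η.app j = L ≫ α ≫ fi
      rw [hαf, pullback.lift_snd_assoc])
    (by
      refine Eq.trans ?_ (Category.assoc _ _ _).symm
      change w₂ j ≫ η.app j = R ≫ α ≫ fi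
      rw [hαf, pullback.lift_snd_assoc])
    (by
      change uW j ≫ L ≫ α = uW j ≫ R ≫ α
      have hL : uW j ≫ L = (pullback.lift (q₁ ≫ act D) q₂ (by
          rw [Category.assoc, FFDesc.act_hom_assoc, hqq]) : V ⟶ V₂ D) ≫ uQ j := by
        refine pullback.hom_ext ?_ ?_
        · rw [Category.assoc, Category.assoc, pullback.lift_fst, reassoc_of% hW₁, haj, hQ₁]
          simp only [pr, pullback.lift_fst_assoc, Category.assoc]
        · rw [Category.assoc, Category.assoc, pullback.lift_snd, hW₂, hQ₂]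
          simp only [pr₁, pullback.lift_snd_assoc]
      have hR : uW j ≫ R = (pullback.lift (q₁ ≫ pr D) q₂ (by
          rw [Category.assoc, ← hqq]; exact congrArg (q₁ ≫ ·) pullback.condition) :
          V ⟶ V₂ D) ≫ uQ j := by
        refine pullback.hom_ext ?_ ?_
        · rw [Category.assoc, Category.assoc, pullback.lift_fst, reassoc_of% hW₁, hQ₁]
          simp only [pr, pullback.lift_fst_assoc, Category.assoc]
        · rw [Category.assoc, Category.assoc, pullback.lift_snd, hW₂, hQ₂]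
          simp only [pr₁, pullback.lift_snd_assoc]
      rw [reassoc_of% hL, reassoc_of% hR, hα]
      refine (Category.assoc _ _ _).symm.trans ((congrArg (· ≫ r) ?_).trans (Category.assoc _ _ _))
      have he : q₁ ≫ act D = tr D (q₁ ≫ pr D) (q₁ ≫ pr₁ D) (by
          simp only [Category.assoc]; exact congrArg (q₁ ≫ ·) pullback.condition) := by
        rw [act_eq_tr, comp_tr]
      exact ((tr_congr D _ he rfl).trans (tr_tr D _ _ _ _ _)))
  -- a common stage
  obtain ⟨k, ρ₁, ρ₂, hρ⟩ := IsCofiltered.cospan ψ₁ ψ₂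
  let ψ : k ⟶ j := ρ₁ ≫ ψ₁
  let mQ : pullback (xj.app k ≫ τ'.app k) (τ'.app k) ⟶ pullback (xj.app j ≫ τ'.app j) (τ'.app j) := Q.map ψ
  let mW : pullback (pullback.snd (xj.app k ≫ τ'.app k) (τ'.app k) ≫ τ'.app k) (τ'.app k) ⟶ pullback (pullback.snd (xj.app j ≫ τ'.app j) (τ'.app j) ≫ τ'.app j) (τ'.app j) := W.map ψ
  have e₀ : A.map ψ ≫ l₀ ≫ α = A.map ψ ≫ ξ.app j := by
    simp only [ψ, Functor.map_comp, Category.assoc]
    exact congrArg (A.map ρ₁ ≫ ·) h₁
  have e₂ : mW ≫ L ≫ α = mW ≫ R ≫ α := by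
    change W.map (ρ₁ ≫ ψ₁) ≫ _ = W.map (ρ₁ ≫ ψ₁) ≫ _
    rw [hρ, Functor.map_comp]
    exact (Category.assoc _ _ _).trans ((congrArg (W.map ρ₂ ≫ ·) h₂).trans
      (Category.assoc _ _ _).symm)
  have hη : B.map ψ ≫ η.app j = η.app k := (η.naturality ψ).trans (Category.comp_id _)
  have hξ : A.map ψ ≫ ξ.app j = ξ.app k := (ξ.naturality ψ).trans (Category.comp_id _)
  have hmQ₁ : mQ ≫ pullback.fst _ _ = pullback.fst _ _ ≫ A.map ψ := pullback.lift_fst _ _ _
  have hmQ₂ : mQ ≫ pullback.snd _ _ = pullback.snd _ _ ≫ B.map ψ := pullback.lift_snd _ _ _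
  have hmW₁ : mW ≫ w₁ j = w₁ k ≫ mQ := pullback.lift_fst _ _ _
  have hmW₂ : mW ≫ w₂ j = w₂ k ≫ B.map ψ := pullback.lift_snd _ _ _
  let ak : pullback (xj.app k ≫ τ'.app k) (τ'.app k) ⟶ A.obj k := (sq k).lift (mQ ≫ α) (pullback.snd _ _) (by
    rw [Category.assoc, hαf, reassoc_of% hmQ₂, hη])
  have hak₁ : ak ≫ ξ.app k = mQ ≫ α := (sq k).lift_fst _ _ _
  have hak₂ : ak ≫ xj.app k = pullback.snd _ _ := (sq k).lift_snd _ _ _
  have hak : mQ ≫ aj = ak ≫ A.map ψ := by
    refine (sq j).hom_ext ?_ ?_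
    · rw [Category.assoc, Category.assoc, haj₁, hξ, hak₁]
    · rw [Category.assoc, Category.assoc, haj₂, xj.naturality ψ, reassoc_of% hak₂, hmQ₂]
  let Dk : Desc.SchDD (τ'.app k) :=
    datumOfAct (xj.app k) ak hak₂ (by
      refine (sq k).hom_ext ?_ ?_
      · rw [Category.assoc, hak₁, Category.id_comp, ← hξ, ← e₀, ← Category.assoc, ← Category.assoc]
        refine congrArg (· ≫ α) (pullback.hom_ext ?_ ?_)
        · rw [Category.assoc, Category.assoc, pullback.lift_fst, Category.comp_id, hmQ₁]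
          exact (pullback.lift_fst_assoc _ _ _ _).trans (Category.id_comp _)
        · rw [Category.assoc, Category.assoc, pullback.lift_snd, xj.naturality ψ, hmQ₂]
          exact pullback.lift_snd_assoc _ _ _ _
      · rw [Category.assoc, hak₂, Category.id_comp]
        exact pullback.lift_snd _ _ _) (by
      refine (sq k).hom_ext ?_ ?_
      · refine ((Category.assoc _ _ _).trans (congrArg (_ ≫ ·) hak₁)).trans
          (Eq.trans ?_ ((Category.assoc _ _ _).trans (congrArg (_ ≫ ·) hak₁)).symm)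
        refine Eq.trans ?_ (e₂.trans ?_)
        · refine (Category.assoc _ _ _).symm.trans ((congrArg (· ≫ α) ?_).trans (Category.assoc _ _ _))
          refine pullback.hom_ext ?_ ?_
          · simp only [L, Category.assoc, pullback.lift_fst, hmQ₁, reassoc_of% hmW₁, hak,
              pullback.lift_fst_assoc]
            rfl
          · simp only [L, Category.assoc, pullback.lift_snd, hmQ₂, hmW₂, pullback.lift_snd_assoc]
            rfl
        · refine (Category.assoc _ _ _).symm.trans ((congrArg (· ≫ α) ?_).trans (Category.assoc _ _ _))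
          refine pullback.hom_ext ?_ ?_
          · simp only [R, Category.assoc, pullback.lift_fst, hmQ₁, reassoc_of% hmW₁,
              pullback.lift_fst_assoc]
            rfl
          · simp only [R, Category.assoc, pullback.lift_snd, hmQ₂, hmW₂, pullback.lift_snd_assoc]
            rfl
      · refine ((Category.assoc _ _ _).trans (congrArg (_ ≫ ·) hak₂)).trans
          (Eq.trans ?_ ((Category.assoc _ _ _).trans (congrArg (_ ≫ ·) hak₂)).symm)
        exact (pullback.lift_snd _ _ _).trans (pullback.lift_snd _ _ _).symm)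
  refine enoughCharts_of_baseChange D Dk (uB k) (hg _) (uA k)
    (hpb k) (fun {Z} v y h h' ↦ ?_) (hE k Dk rfl)
  have hQk : uQ k ≫ ak = act D ≫ uA k := by
    have hw' : uQ k ≫ mQ = uQ j := cQ.w ψ
    refine (sq k).hom_ext ?_ ?_
    · rw [Category.assoc, Category.assoc, hak₁, hr, reassoc_of% hw', hα]
    · rw [Category.assoc, Category.assoc, hak₂, hx, hQ₂, FFDesc.act_hom_assoc]
  refine Eq.trans ?_ (tr_datumOfAct _ _ _ _ _ _ _ h').symm
  refine ((Category.assoc _ _ _).trans (congrArg (pullback.lift v y h ≫ ·) hQk.symm)).trans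
    ((Category.assoc _ _ _).symm.trans (congrArg (· ≫ ak) (pullback.hom_ext ?_ ?_)))
  · rw [Category.assoc, hQ₁]
    exact (pullback.lift_fst_assoc _ _ _ _).trans (pullback.lift_fst _ _ _).symm
  · rw [Category.assoc, hQ₂]
    exact (pullback.lift_snd_assoc _ _ _ _).trans (pullback.lift_snd _ _ _).symm

end Stages

/-- Charts exist over a limit if they exist at every stage. -/
theorem enoughCharts_of_limit [∀ i, IsAffine (T.obj i)] [IsAffine S] (hc : IsLimit c)
    {g : c.pt ⟶ S} (hg : ∀ i, c.π.app i ≫ τ.app i = g) (D : Desc.SchDD g) [Etale D.obj.hom]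
    [IsSeparated D.obj.hom] [QuasiCompact D.obj.hom]
    (hE : ∀ k, ∀ Dk : Desc.SchDD (τ.app k), Etale Dk.obj.hom → IsSeparated Dk.obj.hom →
      QuasiCompact Dk.obj.hom → EnoughCharts Dk) : EnoughCharts D := by
  haveI hAff : ∀ {i j : I} (f : i ⟶ j), IsAffineHom (T.map f) := fun f ↦ inferInstance
  obtain ⟨i₀⟩ := IsCofiltered.nonempty (C := I)
  haveI : IsAffine c.pt :=
    haveI := Lim.Basic.isAffineHom_π hc i₀
    isAffine_of_isAffineHom (c.π.app i₀)
  haveI : CompactSpace D.obj.left := QuasiCompact.compactSpace_of_compactSpace D.obj.hom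
  haveI : QuasiSeparatedSpace D.obj.left := quasiSeparatedSpace_of_quasiSeparated D.obj.hom
  let x : D.obj.left ⟶ c.pt := D.obj.hom
  haveI : Etale x := inferInstanceAs (Etale D.obj.hom)
  haveI : IsSeparated x := inferInstanceAs (IsSeparated D.obj.hom)
  obtain ⟨i, Xi, fi, gX, hXc, hXq, hfe, hfs, sq⟩ := exists_etale_stage T hc x
  haveI : LocallyOfFinitePresentation fi := inferInstance
  haveI : ∀ j, IsAffine ((Over.forget i ⋙ T).obj j) := fun j ↦
    inferInstanceAs (IsAffine (T.obj j.left))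
  haveI : ∀ {j k : Over i} (φ : j ⟶ k), IsAffineHom ((Over.forget i ⋙ T).map φ) :=
    fun φ ↦ hAff _
  haveI : ∀ j, CompactSpace ((bcDiagram T fi).obj j) :=
    fun j ↦ Lim.Basic.compactSpace_bcDiagram T fi j
  haveI : ∀ j, QuasiSeparatedSpace ((bcDiagram T fi).obj j) :=
    fun j ↦ Lim.Basic.quasiSeparatedSpace_bcDiagram T fi j
  refine enoughCharts_of_stages (bcSnd T fi) (Functor.whiskerLeft (Over.forget i) τ)
    (cB := c.whisker (Over.forget i))
    ((Functor.Initial.isLimitWhiskerEquiv (Over.forget i) c).symm hc) (fun j ↦ hg j.left) D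
    (bcCone sq.w).π (isLimitBcCone hc sq) (fun j ↦ isPullback_bcCone_π sq j) fi (bcFst T fi)
    { app := fun j ↦ T.map j.hom
      naturality := fun j k φ ↦ (toStage_naturality T φ).trans (Category.comp_id _).symm }
    (fun j ↦ IsPullback.of_hasPullback fi (T.map j.hom)) (fun k Dk hk ↦ ?_)
  haveI : CompactSpace (pullback fi (T.map k.hom) : Scheme.{u}) :=
    Lim.Basic.compactSpace_bcDiagram T fi k
  refine hE k.left Dk ?_ ?_ ?_ <;> rw [hk]
  · exact inferInstanceAs (Etale (pullback.snd fi (T.map k.hom)))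
  · exact inferInstanceAs (IsSeparated (pullback.snd fi (T.map k.hom)))
  · exact inferInstanceAs (QuasiCompact (pullback.snd fi (T.map k.hom)))

end Groth.Agent.Lib.EtDescent
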