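import Groth.Agent.Lib.EtDescent.Subtrusive
import Groth.Agent.Lib.EtDescent.Approx
import Groth.Agent.Lib.HTopSheaf.LimitPresentation
import Groth.Agent.Lib.FFDesc.SubDatum

/-!
# Effective descent of separated etale schemes
-/

set_option autoImplicit false
set_option linter.style.haveILetI false
universe u

open CategoryTheory CategoryTheory.Limits AlgebraicGeometry

namespace Groth.Agent.Lib.EtDescent

open Groth.Agent.Lib.FFDesc (restrict Invariant pr act V₂ saturation le_saturation invariant_saturation
  isCompact_saturation subDatum swap swap_pr)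
open Groth.Agent.Lib.Subtrusive
open Groth.Agent.Lib.Stein36 (Data.SteinConn)

variable {S' S : Scheme.{u}} {g : S' ⟶ S}

theorem enoughCharts_of_subtrusive_affine₂ (conn : Data.SteinConn.{u}) [IsAffine S] [IsAffine S']
    (hg : Subtr.UnivSSubtrusive g) (D : Desc.SchDD g) [Etale D.obj.hom] [IsSeparated D.obj.hom]
    [QuasiCompact D.obj.hom] : EnoughCharts D := by
  obtain ⟨I, _, _, F, c, hc, e, hA, hlfp⟩ := HTopSheaf.LimitPresentation.exists_affine_limit g
  let T : I ⥤ Scheme.{u} := F ⋙ Over.forget S
  haveI : ∀ i, IsAffine (T.obj i) := hA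
  let τ : T ⟶ (Functor.const I).obj S :=
    { app := fun i ↦ (F.obj i).hom
      naturality := fun i j φ ↦ (Over.w (F.map φ)).trans (Category.comp_id _).symm }
  let c' : Cone T := ⟨S', { app := fun i ↦ e.inv.left ≫ (c.π.app i).left
                            naturality := fun i j φ ↦ by
                              change 𝟙 S' ≫ e.inv.left ≫ (c.π.app j).left =
                                (e.inv.left ≫ (c.π.app i).left) ≫ (F.map φ).left
                              rw [Category.id_comp, Category.assoc]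
                              exact congrArg (e.inv.left ≫ ·)
                                congr($((c.w φ).symm).left) }⟩
  have hc' : IsLimit c' :=
    hc.ofIsoLimit (Cone.ext ((Over.forget S).mapIso e) fun i ↦ by
      change (c.π.app i).left = e.hom.left ≫ e.inv.left ≫ (c.π.app i).left
      rw [← Category.assoc, ← Over.comp_left, Iso.hom_inv_id]
      exact (Category.id_comp _).symm)
  refine enoughCharts_of_limit T τ hc' (fun i ↦ ?_) D (fun k Dk h1 h2 h3 ↦ ?_)
  · change (e.inv.left ≫ (c.π.app i).left) ≫ (F.obj i).hom = g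
    rw [← Over.comp_left]
    exact Over.w (e.inv ≫ c.π.app i)
  · haveI := h1
    haveI := h2
    haveI : LocallyOfFinitePresentation (τ.app k) := hlfp k
    haveI : IsAffine (F.obj k).left := hA k
    haveI : QuasiCompact (F.obj k).hom := inferInstance
    haveI : QuasiCompact (τ.app k) := ‹QuasiCompact (F.obj k).hom›
    exact enoughCharts_of_subtrusive_fp (g := τ.app k) conn (Criterion.univSSubtrusive_iff_hasLifts.mpr
      (HTopSheaf.LimitPresentation.hasLifts_stage g F c e
        (Criterion.univSSubtrusive_iff_hasLifts.mp hg) k)) Dk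

/-- Charts exist along universally subtrusive quasi-compact morphisms for quasi-compact data. -/
theorem enoughCharts_of_subtrusive_qc (conn : Data.SteinConn.{u}) [QuasiCompact g]
    (hg : Subtr.UnivSSubtrusive g) (D : Desc.SchDD g) [Etale D.obj.hom] [IsSeparated D.obj.hom]
    [QuasiCompact D.obj.hom] : EnoughCharts D := by
  refine enoughCharts_of_etale_cover D fun a ↦ ?_
  obtain ⟨V, hV, ha, -⟩ := exists_isAffineOpen_mem_and_subset (U := ⊤) (show a ∈ ⊤ from trivial)
  refine ⟨V, V.ι, inferInstance, ⟨⟨a, ha⟩, rfl⟩, ?_⟩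
  haveI : IsAffine (V : Scheme.{u}) := hV
  let g' := pullback.snd g V.ι
  have hg' : Subtr.UnivSSubtrusive g' :=
    Criterion.univSSubtrusive_of_isPullback (IsPullback.of_hasPullback g V.ι) hg
  let D' := restrict D g' (pullback.fst g V.ι) V.ι pullback.condition.symm
  haveI : CompactSpace ↥(pullback g V.ι) := QuasiCompact.compactSpace_of_compactSpace g'
  haveI : Etale D'.obj.hom := inferInstanceAs (Etale (pullback.snd D.obj.hom (pullback.fst g V.ι)))
  haveI : IsSeparated D'.obj.hom :=
    inferInstanceAs (IsSeparated (pullback.snd D.obj.hom (pullback.fst g V.ι)))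
  haveI : QuasiCompact D'.obj.hom :=
    inferInstanceAs (QuasiCompact (pullback.snd D.obj.hom (pullback.fst g V.ι)))
  change EnoughCharts D'
  -- an affine cover of the source
  let 𝒰 := (pullback g V.ι).affineCover.finiteSubcover
  let T := ∐ 𝒰.X
  let r : T ⟶ pullback g V.ι := Sigma.desc 𝒰.f
  haveI : Etale r := IsZariskiLocalAtSource.sigmaDesc (P := @Etale) fun y ↦ inferInstance
  haveI : Surjective r := ⟨fun y ↦ by
    obtain ⟨i, z, hz⟩ := 𝒰.exists_eq y
    exact ⟨Sigma.ι 𝒰.X i z, by rw [← Scheme.Hom.comp_apply, Sigma.ι_desc, hz]⟩⟩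
  refine enoughCharts_of_refine (h := r ≫ g') r (Category.comp_id _)
    (univSubmersive_comp (univSubmersive_of_flat r) (Submersive.univSubmersive_of_univSSubtrusive g' hg'))
    ?_
  let D'' := restrict D' (r ≫ g') r (𝟙 _) (Category.comp_id _)
  haveI : Etale D''.obj.hom := inferInstanceAs (Etale (pullback.snd D'.obj.hom r))
  haveI : IsSeparated D''.obj.hom := inferInstanceAs (IsSeparated (pullback.snd D'.obj.hom r))
  haveI : QuasiCompact D''.obj.hom := inferInstanceAs (QuasiCompact (pullback.snd D'.obj.hom r))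
  haveI : ∀ i, IsAffine (𝒰.X i) := fun i ↦ inferInstance
  haveI : IsAffine T := inferInstance
  exact enoughCharts_of_subtrusive_affine₂ conn
    (Criterion.univSSubtrusive_comp (Criterion.univSSubtrusive_of_flat r) hg') D''

/-- Charts exist along universally open quasi-compact surjections with quasi-separated source. -/
theorem enoughCharts_of_universallyOpen_qc (conn : Data.SteinConn.{u}) [QuasiSeparatedSpace S']
    [QuasiCompact g] [UniversallyOpen g] [Surjective g] (D : Desc.SchDD g) [Etale D.obj.hom]
    [IsSeparated D.obj.hom] : EnoughCharts D := fun x ↦ by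
  obtain ⟨O, hO, hx, -⟩ := exists_isAffineOpen_mem_and_subset (U := ⊤) (show x ∈ ⊤ from trivial)
  haveI : UniversallyOpen (pr D) :=
    MorphismProperty.pullback_fst (P := @UniversallyOpen) _ _ inferInstance
  haveI : QuasiCompact (pr D) := MorphismProperty.pullback_fst (P := @QuasiCompact) _ _ inferInstance
  haveI : QuasiCompact (act D) := by
    rw [← swap_pr D]
    exact inferInstanceAs (QuasiCompact (swap D ≫ pr D))
  have ho : IsOpenMap (pr D) := (pr D).isOpenMap
  let W := saturation D ho O
  have hW : Invariant D W := invariant_saturation D ho O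
  haveI : CompactSpace (W : Scheme.{u}) :=
    isCompact_iff_compactSpace.1 (isCompact_saturation D ho hO.isCompact)
  let D' := subDatum D hW
  haveI : Etale D'.obj.hom := inferInstanceAs (Etale (W.ι ≫ D.obj.hom))
  haveI : IsSeparated D'.obj.hom := inferInstanceAs (IsSeparated (W.ι ≫ D.obj.hom))
  haveI : QuasiCompact D'.obj.hom :=
    inferInstanceAs (QuasiCompact (W.ι ≫ D.obj.hom))
  obtain ⟨C, hC⟩ := enoughCharts_of_subtrusive_qc conn
    (Criterion.univSSubtrusive_of_universallyOpen g) D' ⟨x, le_saturation D ho O hx⟩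
  obtain ⟨C', hC'⟩ := exists_chart_of_subDatum hW C
  exact ⟨C', hC' ⟨_, hC, rfl⟩⟩

/-- Charts exist along universally open surjections with quasi-separated source. -/
theorem enoughCharts_of_universallyOpen (conn : Data.SteinConn.{u}) [QuasiSeparatedSpace S']
    [UniversallyOpen g] [Surjective g] (D : Desc.SchDD g) [Etale D.obj.hom]
    [IsSeparated D.obj.hom] : EnoughCharts D := by
  refine enoughCharts_of_etale_cover D fun a ↦ ?_
  obtain ⟨V, hV, ha, -⟩ := exists_isAffineOpen_mem_and_subset (U := ⊤) (show a ∈ ⊤ from trivial)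
  refine ⟨V, V.ι, inferInstance, ⟨⟨a, ha⟩, rfl⟩, ?_⟩
  haveI : IsAffine (V : Scheme.{u}) := hV
  let g' := pullback.snd g V.ι
  haveI : QuasiSeparatedSpace ↥(pullback g V.ι) :=
    (pullback.fst g V.ι).isOpenEmbedding.quasiSeparatedSpace
  let D' := restrict D g' (pullback.fst g V.ι) V.ι pullback.condition.symm
  haveI : Etale D'.obj.hom := inferInstanceAs (Etale (pullback.snd D.obj.hom (pullback.fst g V.ι)))
  haveI : IsSeparated D'.obj.hom :=
    inferInstanceAs (IsSeparated (pullback.snd D.obj.hom (pullback.fst g V.ι)))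
  change EnoughCharts D'
  -- a quasi-compact open of the source surjecting to the base
  obtain ⟨T, hTc, hTs⟩ : ∃ T : (pullback g V.ι).Opens, IsCompact (T : Set ↥(pullback g V.ι)) ∧
      ∀ v, ∃ t ∈ T, g' t = v := by
    have hz : ∀ z : ↥(pullback g V.ι), ∃ W : (pullback g V.ι).Opens, IsAffineOpen W ∧ z ∈ W :=
      fun z ↦ by
        obtain ⟨W, hW, hz, -⟩ := exists_isAffineOpen_mem_and_subset (U := ⊤)
          (show z ∈ ⊤ from trivial)
        exact ⟨W, hW, hz⟩
    choose W hW hzW using hz
    obtain ⟨t, ht⟩ := isCompact_univ.elim_finite_subcover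
      (fun z ↦ g' '' (W z : Set ↥(pullback g V.ι))) (fun z ↦ g'.isOpenMap _ (W z).isOpen)
      (fun v _ ↦ by
        obtain ⟨z, rfl⟩ := g'.surjective v
        exact Set.mem_iUnion.2 ⟨z, z, hzW z, rfl⟩)
    refine ⟨⨆ z ∈ t, W z, ?_, fun v ↦ ?_⟩
    · simp only [TopologicalSpace.Opens.coe_iSup]
      exact t.finite_toSet.isCompact_biUnion fun z _ ↦ (hW z).isCompact
    · obtain ⟨z, hz, y, hy, rfl⟩ := Set.mem_iUnion₂.1 (ht (Set.mem_univ v))
      exact ⟨y, TopologicalSpace.Opens.mem_iSup.2 ⟨z, TopologicalSpace.Opens.mem_iSup.2 ⟨hz, hy⟩⟩,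
        rfl⟩
  haveI : CompactSpace (T : Scheme.{u}) := isCompact_iff_compactSpace.1 hTc
  haveI : QuasiSeparatedSpace (T : Scheme.{u}) := T.ι.isOpenEmbedding.quasiSeparatedSpace
  haveI : Surjective (T.ι ≫ g') := ⟨fun v ↦ by
    obtain ⟨t, ht, rfl⟩ := hTs v
    exact ⟨⟨t, ht⟩, rfl⟩⟩
  refine enoughCharts_of_refine (h := T.ι ≫ g') T.ι (Category.comp_id _)
    (Submersive.univSubmersive_of_univSSubtrusive _
      (Criterion.univSSubtrusive_of_universallyOpen (T.ι ≫ g'))) ?_
  let D'' := restrict D' (T.ι ≫ g') T.ι (𝟙 _) (Category.comp_id _)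
  haveI : Etale D''.obj.hom := inferInstanceAs (Etale (pullback.snd D'.obj.hom T.ι))
  haveI : IsSeparated D''.obj.hom := inferInstanceAs (IsSeparated (pullback.snd D'.obj.hom T.ι))
  haveI : QuasiCompact (T.ι ≫ g') := quasiCompact_of_compactSpace _
  exact enoughCharts_of_universallyOpen_qc conn D''

end Groth.Agent.Lib.EtDescent

namespace Groth.Agent.Lib.EtDescent

theorem univSubmersive_of_universallyOpen {S' S : Scheme.{u}} (g : S' ⟶ S) [UniversallyOpen g]
    [Surjective g] : SGA1.UnivSubmersive g := fun T' T i₁ i₂ f sq ↦ by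
  haveI : UniversallyOpen f := MorphismProperty.of_isPullback sq.flip ‹UniversallyOpen g›
  haveI : Surjective f := MorphismProperty.of_isPullback sq.flip ‹Surjective g›
  exact f.isOpenMap.isQuotientMap f.continuous f.surjective

end Groth.Agent.Lib.EtDescent
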