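import Mathlib.AlgebraicGeometry.Morphisms.Etale
import Mathlib.AlgebraicGeometry.Morphisms.Separated

/-!
# The locus where two sections of a separated unramified morphism agree
-/

set_option autoImplicit false
universe u

open CategoryTheory CategoryTheory.Limits AlgebraicGeometry

namespace Groth.Agent.Lib.EtDescent

variable {X Y T T' : Scheme.{u}} (f : X ⟶ Y)

/-- The locus where two points over the same point of the base agree. -/
def eqSet (a b : T ⟶ X) (h : a ≫ f = b ≫ f) : Set T :=
  pullback.lift a b h ⁻¹' Set.range (pullback.diagonal f)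

theorem eqSet_comp (c : T' ⟶ T) (a b : T ⟶ X) (h : a ≫ f = b ≫ f) :
    eqSet f (c ≫ a) (c ≫ b) (by rw [Category.assoc, h, Category.assoc]) = c ⁻¹' eqSet f a b h := by
  have : pullback.lift (c ≫ a) (c ≫ b) (by rw [Category.assoc, h, Category.assoc]) =
      c ≫ pullback.lift a b h := by
    apply pullback.hom_ext <;> simp [pullback.lift_fst, pullback.lift_snd]
  ext z
  simp [eqSet, this]

theorem eqSet_self (a : T ⟶ X) : eqSet f a a rfl = Set.univ := by
  have : pullback.lift a a (f := f) (g := f) rfl = a ≫ pullback.diagonal f := by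
    apply pullback.hom_ext <;> simp [pullback.lift_fst, pullback.lift_snd]
  refine Set.eq_univ_of_forall fun z ↦ ⟨a z, ?_⟩
  rw [this]
  rfl

theorem eqSet_congr {a a' b b' : T ⟶ X} (h : a ≫ f = b ≫ f) (ha : a = a') (hb : b = b') :
    eqSet f a b h = eqSet f a' b' (by rw [← ha, ← hb, h]) := by
  subst ha hb; rfl

theorem eqSet_of_eq {a b : T ⟶ X} (h : a = b) : eqSet f a b (h ▸ rfl) = Set.univ := by
  subst h
  exact eqSet_self f a

theorem subset_eqSet (c : T' ⟶ T) (a b : T ⟶ X) (h : a ≫ f = b ≫ f) (e : c ≫ a = c ≫ b) :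
    Set.range c ⊆ eqSet f a b h := by
  rintro _ ⟨z, rfl⟩
  have h1 : z ∈ eqSet f (c ≫ a) (c ≫ b) (by rw [e]) := by
    rw [eqSet_of_eq f e]
    trivial
  rwa [eqSet_comp f c a b h] at h1

variable [FormallyUnramified f] [LocallyOfFiniteType f]

theorem isOpen_eqSet (a b : T ⟶ X) (h : a ≫ f = b ≫ f) : IsOpen (eqSet f a b h) :=
  (pullback.diagonal f).isOpenEmbedding.isOpen_range.preimage (pullback.lift a b h).continuous

omit [FormallyUnramified f] [LocallyOfFiniteType f] in
theorem isClosed_eqSet [IsSeparated f] (a b : T ⟶ X) (h : a ≫ f = b ≫ f) :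
    IsClosed (eqSet f a b h) :=
  (pullback.diagonal f).isClosedEmbedding.isClosed_range.preimage (pullback.lift a b h).continuous

theorem eq_of_eqSet_eq_univ {a b : T ⟶ X} (h : a ≫ f = b ≫ f)
    (hu : eqSet f a b h = Set.univ) : a = b := by
  have hr : Set.range (pullback.lift a b h) ⊆ Set.range (pullback.diagonal f) := by
    rintro _ ⟨z, rfl⟩
    exact hu.symm.subset (Set.mem_univ z)
  have hl := IsOpenImmersion.lift_fac (pullback.diagonal f) (pullback.lift a b h) hr
  have h1 := congr($hl ≫ pullback.fst f f)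
  have h2 := congr($hl ≫ pullback.snd f f)
  simp only [Category.assoc, pullback.diagonal_fst, pullback.diagonal_snd, Category.comp_id, pullback.lift_fst, pullback.lift_snd] at h1 h2
  exact h1.symm.trans h2

theorem comp_eq_of_range_subset (c : T' ⟶ T) {a b : T ⟶ X} (h : a ≫ f = b ≫ f)
    (hc : Set.range c ⊆ eqSet f a b h) : c ≫ a = c ≫ b := by
  refine eq_of_eqSet_eq_univ f (by rw [Category.assoc, h, Category.assoc]) ?_
  rw [eqSet_comp f c a b h]
  exact Set.eq_univ_of_forall fun z ↦ hc ⟨z, rfl⟩

end Groth.Agent.Lib.EtDescent
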