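import Groth.Agent.Lib.AlgSpMor.LqfRep
import Groth.Agent.Lib.AlgSpace.Quot

/-!
# Quotients of etale separated schemes by closed etale equivalence relations
-/

set_option autoImplicit false
set_option linter.style.haveILetI false
universe u

open CategoryTheory CategoryTheory.Limits AlgebraicGeometry
open Groth.Agent.Lib.AlgSpace

namespace Groth.Agent.Lib.EtDescent

open AlgSp (Sp yon Representable RepWith IsAlgSpace IsEtaleEqvRel IsSeparatedMor LocP)
open AlgSp
open Groth.Agent.Lib.AlgSpMor

variable {S : Scheme.{u}}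

/-- The quotient of a scheme etale over the base by an etale equivalence relation with closed
graph is a separated etale scheme over the base. -/
theorem exists_scheme_quotient {R W : Over S} {s t : R ⟶ W} (h : IsEtaleEqvRel s t) [Etale W.hom]
    (hc : IsClosedImmersion (prod.lift t s).left) :
    ∃ (U : Over S) (π : W ⟶ U), Etale U.hom ∧ IsSeparated U.hom ∧ Etale π.left ∧
      Surjective π.left ∧ IsPullback t s π π := by
  obtain ⟨F, π₀, hF, he, hs, sq, hloc⟩ : ∃ (F : Sp S) (π₀ : (yon S).obj W ⟶ F), IsAlgSpace F ∧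
      RepWith @Etale π₀ ∧ RepWith @Surjective π₀ ∧
        IsPullback ((yon S).map t) ((yon S).map s) π₀ π₀ ∧ Sheaf.IsLocallySurjective π₀ :=
    ⟨_, quotMap s t, isAlgSpace_quot h, (isPresentation_quot h).etale,
      (isPresentation_quot h).surjective, isPullback_quot h.toIsEqvRel,
      isLocallySurjective_quotMap s t⟩
  haveI := hloc
  let T : Over S := Over.mk (𝟙 S)
  have huniq : ∀ {Z : Sp S} (a b : Z ⟶ (yon S).obj T), a = b := by
    intro Z a b
    refine Sheaf.hom_ext ?_
    ext V x
    refine ULift.ext _ _ (Over.OverMorphism.ext ?_)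
    exact (Category.comp_id _).symm.trans ((Over.w _).trans ((Over.w _).symm.trans
      (Category.comp_id _)))
  let w : W ⟶ T := Over.homMk W.hom (Category.comp_id _)
  obtain ⟨f, hf⟩ := exists_desc π₀ sq ((yon S).map w) (huniq _ _)
  -- separatedness
  haveI : MorphismProperty.IsLocalAtTarget @IsClosedImmersion.{u} Scheme.fppfPrecoverage :=
    isLocalAtTarget_fppf _
  have hdiag : RepWith @IsClosedImmersion (Limits.diag F) :=
    repWith_diag_of_atlas hF.diag he hs sq _ hc
  let c : pullback f f ⟶ F ⨯ F := prod.lift (pullback.fst f f) (pullback.snd f f)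
  haveI : IsIso c := by
    haveI : IsPullback (prod.fst : F ⨯ F ⟶ F) prod.snd f f :=
      isPullback_of_yon (huniq _ _)
        (fun Z a b h1 h2 ↦ prod.hom_ext h1 h2)
        fun Z a b _ ↦ ⟨prod.lift a b, prod.lift_fst _ _, prod.lift_snd _ _⟩
    have : c = this.isoPullback.inv := by
      refine prod.hom_ext ?_ ?_ <;> simp [c, prod.lift_fst, prod.lift_snd]
    rw [this]
    infer_instance
  have hsep : IsSeparatedMor f := by
    have : pullback.diagonal f ≫ c = Limits.diag F :=
      prod.hom_ext (by simp [c]) (by simp [c])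
    rw [← this] at hdiag
    exact (MorphismProperty.cancel_right_of_respectsIso (RepWith @IsClosedImmersion) _ c).1 hdiag
  -- quasi-finiteness
  have hid : RepWith @Etale (𝟙 ((yon S).obj T)) := by
    rw [← (yon S).map_id]
    exact (repWith_yon_map_iff _ _).2 (inferInstanceAs (Etale (𝟙 S)))
  have hqf : LocP (@LocallyQuasiFinite ⊓ @LocallyOfFiniteType) f :=
    LocP.locP_of_chart LocP.lqfLft hF.diag (IsAlgSpace.yon_obj T).diag he hs hid (h := w)
      (by rw [hf, Category.comp_id])
      ⟨SourceDescent.Scheme.locallyQuasiFinite_of_etale W.hom, inferInstanceAs (LocallyOfFiniteType W.hom)⟩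
  obtain ⟨U, ⟨e⟩⟩ := LqfRep.exists_iso hF f hqf hsep
  obtain ⟨π, hπ⟩ := (yon S).map_surjective (π₀ ≫ e.inv)
  have hπe : Etale π.left := (repWith_yon_map_iff _ _).1
    (hπ ▸ MorphismProperty.RespectsIso.postcomp _ _ _ he)
  have hπs : Surjective π.left := (repWith_yon_map_iff _ _).1
    (hπ ▸ MorphismProperty.RespectsIso.postcomp _ _ _ hs)
  have sqU : IsPullback ((yon S).map t) ((yon S).map s) ((yon S).map π) ((yon S).map π) := by
    rw [hπ]
    exact sq.of_iso (Iso.refl _) (Iso.refl _) (Iso.refl _) e.symm (by simp) (by simp) (by simp)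
      (by simp)
  refine ⟨U, π, SourceDescent.Scheme.etale.descends π.left U.hom hπe hπs ?_, ?_, hπe, hπs,
    IsPullback.of_map (yon S) ((yon S).map_injective (by
      rw [Functor.map_comp, Functor.map_comp]; exact sqU.w)) sqU⟩
  · rw [Over.w π]
    infer_instance
  · obtain ⟨g, hg⟩ := (yon S).map_surjective (e.hom ≫ f)
    have h1 : IsSeparatedMor ((yon S).map g) := by
      rw [hg]
      exact Sep.repWith_diagonal_of_eq e (Iso.refl _) (by simp) hsep
    haveI := (isSeparatedMor_yon_map_iff g).1 h1
    rw [← Over.w g]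
    exact (Category.comp_id g.left).symm ▸ (inferInstance : IsSeparated g.left)

end Groth.Agent.Lib.EtDescent
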