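import Groth.Prelude.Def_SGA1
import Groth.Agent.Lib.EtDescent.EqSet
import Groth.Agent.Lib.EtDescent.Quot
import Groth.Agent.Lib.FFDesc.Points

/-!
# Effectivity from etale local invariant sections

A chart of a descent datum is an etale map to the base together with an invariant section of the
datum over it.  If charts are jointly surjective, the datum is effective.
-/

set_option autoImplicit false
set_option linter.style.haveILetI false
universe u

open CategoryTheory CategoryTheory.Limits AlgebraicGeometry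

namespace Groth.Agent.Lib.EtDescent

open Groth.Agent.Lib.FFDesc (IsDescended tr tr_hom tr_self tr_congr tr_tr comp_tr pr pr₁ act
  act_eq_tr)

variable {S' S : Scheme.{u}} {g : S' ⟶ S} (D : Desc.SchDD g)

theorem chart_aux {V : Scheme.{u}} {e : V ⟶ S} {σ : pullback g e ⟶ D.obj.left}
    (hσ : σ ≫ D.obj.hom = pullback.fst g e) {T : Scheme.{u}} (a b : T ⟶ pullback g e)
    (h : a ≫ pullback.snd g e = b ≫ pullback.snd g e) :
    (a ≫ σ) ≫ D.obj.hom ≫ g = (b ≫ pullback.fst g e) ≫ g := by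
  rw [Category.assoc, reassoc_of% hσ, Category.assoc, pullback.condition, ← Category.assoc,
    ← Category.assoc, h]

/-- An invariant section of a descent datum over an etale neighbourhood. -/
structure Chart where
  /-- the neighbourhood -/
  V : Scheme.{u}
  /-- its map to the base -/
  e : V ⟶ S
  etale : Etale e
  /-- the section -/
  σ : pullback g e ⟶ D.obj.left
  σ_hom : σ ≫ D.obj.hom = pullback.fst g e
  inv : ∀ ⦃T : Scheme.{u}⦄ (a b : T ⟶ pullback g e)
    (h : a ≫ pullback.snd g e = b ≫ pullback.snd g e),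
    tr D (a ≫ σ) (b ≫ pullback.fst g e) (chart_aux D σ_hom a b h) = b ≫ σ

variable {D} (C : Chart D)

attribute [instance] Chart.etale

namespace Chart

/-- The base change of the section to a point of the neighbourhood. -/
noncomputable def pt {T : Scheme.{u}} (τ : T ⟶ S) (a : T ⟶ C.V) (ha : a ≫ C.e = τ) :
    pullback g τ ⟶ D.obj.left :=
  pullback.lift (pullback.fst g τ) (pullback.snd g τ ≫ a)
    (by rw [Category.assoc, ha, pullback.condition]) ≫ C.σ

@[reassoc]
theorem pt_hom {T : Scheme.{u}} (τ : T ⟶ S) (a : T ⟶ C.V) (ha : a ≫ C.e = τ) :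
    C.pt τ a ha ≫ D.obj.hom = pullback.fst g τ := by
  rw [pt, Category.assoc, C.σ_hom, pullback.lift_fst]

theorem comp_pt {T T' : Scheme.{u}} (τ : T ⟶ S) (a : T ⟶ C.V) (ha : a ≫ C.e = τ)
    (m : T' ⟶ pullback g τ) (y : T' ⟶ S') (hy : m ≫ pullback.fst g τ = y) :
    m ≫ C.pt τ a ha = pullback.lift y (m ≫ pullback.snd g τ ≫ a)
      (by rw [← hy, Category.assoc, Category.assoc, Category.assoc, ha, pullback.condition]) ≫
        C.σ := by
  rw [pt, ← Category.assoc]
  congr 1
  refine pullback.hom_ext ?_ ?_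
  · rw [Category.assoc, pullback.lift_fst, pullback.lift_fst, hy]
  · rw [Category.assoc, pullback.lift_snd, pullback.lift_snd]

/-- Two points of the neighbourhood give the same section as soon as they agree at one lift. -/
theorem pt_eq_of_lift {T : Scheme.{u}} (τ : T ⟶ S) (a b : T ⟶ C.V) (ha : a ≫ C.e = τ)
    (hb : b ≫ C.e = τ) (y : T ⟶ S') (hy : y ≫ g = τ)
    (h : pullback.lift y a (by rw [hy, ha]) ≫ C.σ = pullback.lift y b (by rw [hy, hb]) ≫ C.σ) :
    C.pt τ a ha = C.pt τ b hb := by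
  let A (c : T ⟶ C.V) (hc : c ≫ C.e = τ) : pullback g τ ⟶ pullback g C.e :=
    pullback.lift (pullback.snd g τ ≫ y) (pullback.snd g τ ≫ c)
      (by rw [Category.assoc, Category.assoc, hy, hc])
  let B (c : T ⟶ C.V) (hc : c ≫ C.e = τ) : pullback g τ ⟶ pullback g C.e :=
    pullback.lift (pullback.fst g τ) (pullback.snd g τ ≫ c)
      (by rw [Category.assoc, hc, pullback.condition])
  have hA : ∀ (c : T ⟶ C.V) (hc : c ≫ C.e = τ),
      A c hc = pullback.snd g τ ≫ pullback.lift y c (by rw [hy, hc]) := fun c hc ↦ by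
    refine pullback.hom_ext ?_ ?_ <;> simp [A, pullback.lift_fst, pullback.lift_snd]
  have hs : ∀ (c : T ⟶ C.V) (hc : c ≫ C.e = τ),
      A c hc ≫ pullback.snd g C.e = B c hc ≫ pullback.snd g C.e := fun c hc ↦ by
    simp [A, B, pullback.lift_snd]
  have hσ : A a ha ≫ C.σ = A b hb ≫ C.σ := by
    rw [hA a ha, hA b hb, Category.assoc, Category.assoc, h]
  have hf : B a ha ≫ pullback.fst g C.e = B b hb ≫ pullback.fst g C.e := by
    simp [B, pullback.lift_fst]
  change B a ha ≫ C.σ = B b hb ≫ C.σ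
  rw [← C.inv (A a ha) (B a ha) (hs a ha), ← C.inv (A b hb) (B b hb) (hs b hb)]
  exact tr_congr D _ hσ hf

theorem lift_eq_of_pt_eq {T : Scheme.{u}} (τ : T ⟶ S) (a b : T ⟶ C.V) (ha : a ≫ C.e = τ)
    (hb : b ≫ C.e = τ) (y : T ⟶ S') (hy : y ≫ g = τ) (h : C.pt τ a ha = C.pt τ b hb) :
    pullback.lift y a (by rw [hy, ha]) ≫ C.σ = pullback.lift y b (by rw [hy, hb]) ≫ C.σ := by
  have := congr(pullback.lift y (𝟙 T) (by rw [hy, Category.id_comp]) ≫ $h)
  rw [comp_pt C τ a ha _ y (pullback.lift_fst _ _ _),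
    comp_pt C τ b hb _ y (pullback.lift_fst _ _ _)] at this
  simpa only [pullback.lift_snd_assoc, Category.id_comp] using this

end Chart

open Chart in
/-- A descent datum with a surjective chart is effective. -/
theorem exists_isDescended_of_chart [Etale D.obj.hom] [IsSeparated D.obj.hom]
    (hg : SGA1.UnivSubmersive g) (hC : Surjective C.σ) :
    ∃ (U : Over S) (q : D.obj.left ⟶ U.left), Etale U.hom ∧ IsSeparated U.hom ∧
      Surjective q ∧ IsDescended D U q := by
  let f := D.obj.hom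
  -- the relation
  let W₂ := pullback C.e C.e
  let t₂ : W₂ ⟶ S := pullback.fst C.e C.e ≫ C.e
  have ht₂ : pullback.snd C.e C.e ≫ C.e = t₂ := pullback.condition.symm
  let Φ₁ := C.pt t₂ (pullback.fst C.e C.e) rfl
  let Φ₂ := C.pt t₂ (pullback.snd C.e C.e) ht₂
  have hΦ : Φ₁ ≫ f = Φ₂ ≫ f := (C.pt_hom _ _ _).trans (C.pt_hom _ _ _).symm
  let p : pullback g t₂ ⟶ W₂ := pullback.snd g t₂
  have hp : Topology.IsQuotientMap p := hg _ _ _ (IsPullback.of_hasPullback g t₂).flip
  let E := eqSet f Φ₁ Φ₂ hΦ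
  have hsat : p ⁻¹' (p '' E) = E := by
    refine Set.Subset.antisymm ?_ (Set.subset_preimage_image _ _)
    rintro y₂ ⟨y₁, hy₁, hy⟩
    obtain ⟨z, hz₁, hz₂⟩ := Scheme.Pullback.exists_preimage_pullback (f := p) (g := p) y₁ y₂ hy
    let k₁ : pullback p p ⟶ pullback g t₂ := pullback.fst p p
    let k₂ : pullback p p ⟶ pullback g t₂ := pullback.snd p p
    let O : (pullback p p).Opens :=
      ⟨k₁ ⁻¹' E, (isOpen_eqSet f Φ₁ Φ₂ hΦ).preimage k₁.continuous⟩
    have hO : O.ι ≫ k₁ ≫ Φ₁ = O.ι ≫ k₁ ≫ Φ₂ := by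
      simp only [← Category.assoc]
      refine comp_eq_of_range_subset f _ hΦ ?_
      rintro _ ⟨w, rfl⟩
      rw [Scheme.Hom.comp_apply]
      exact w.2
    have hcond : ∀ (c : W₂ ⟶ C.V) (hc : c ≫ C.e = t₂), (O.ι ≫ k₂) ≫ C.pt t₂ c hc =
        tr D (O.ι ≫ k₁ ≫ C.pt t₂ c hc) (O.ι ≫ k₂ ≫ pullback.fst g t₂) (by
          simp only [Category.assoc, pt_hom_assoc, pullback.condition]
          exact congr(O.ι ≫ $(pullback.condition (f := p) (g := p)) ≫ t₂)) := fun c hc ↦ by
      rw [C.comp_pt t₂ c hc (O.ι ≫ k₂) _ rfl]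
      let a' : (O : Scheme.{u}) ⟶ pullback g C.e :=
        pullback.lift ((O.ι ≫ k₁) ≫ pullback.fst g t₂) ((O.ι ≫ k₁) ≫ pullback.snd g t₂ ≫ c)
          (by simp [hc, pullback.condition])
      rw [← C.inv a' _ (by
        simp only [a', pullback.lift_snd, Category.assoc]
        exact congr(O.ι ≫ $(pullback.condition (f := p) (g := p)) ≫ c))]
      exact tr_congr D _
        ((C.comp_pt t₂ c hc (O.ι ≫ k₁) _ rfl).symm.trans (Category.assoc _ _ _))
        ((pullback.lift_fst _ _ _).trans (Category.assoc _ _ _))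
    have hO₂ : (O.ι ≫ k₂) ≫ Φ₁ = (O.ι ≫ k₂) ≫ Φ₂ := by
      rw [hcond, hcond]
      exact tr_congr D _ hO rfl
    have hzO : z ∈ O := show k₁ z ∈ E by rwa [hz₁]
    have := subset_eqSet f (O.ι ≫ k₂) Φ₁ Φ₂ hΦ hO₂ ⟨⟨z, hzO⟩, rfl⟩
    rw [Scheme.Hom.comp_apply] at this
    exact hz₂ ▸ this
  let R : W₂.Opens := ⟨p '' E, by
    rw [← hp.isOpen_preimage, hsat]; exact isOpen_eqSet f Φ₁ Φ₂ hΦ⟩
  have hRc : IsClosed (R : Set W₂) := by
    rw [← hp.isClosed_preimage]
    exact hsat.symm ▸ isClosed_eqSet f Φ₁ Φ₂ hΦ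
  let WO : Over S := Over.mk C.e
  let RO : Over S := Over.mk (R.ι ≫ t₂)
  let s : RO ⟶ WO := Over.homMk (R.ι ≫ pullback.snd C.e C.e)
    (by change (R.ι ≫ _) ≫ C.e = R.ι ≫ t₂; rw [Category.assoc, ht₂])
  let t : RO ⟶ WO := Over.homMk (R.ι ≫ pullback.fst C.e C.e) (Category.assoc _ _ _)
  have hRR : ∀ {T : Scheme.{u}} (τ : T ⟶ S) (a b : T ⟶ C.V) (ha : a ≫ C.e = τ)
      (hb : b ≫ C.e = τ),
      Set.range (pullback.lift a b (ha.trans hb.symm)) ⊆ (R : Set W₂) ↔
        C.pt τ a ha = C.pt τ b hb := by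
    intro T τ a b ha hb
    let m : pullback g τ ⟶ pullback g t₂ :=
      pullback.lift (pullback.fst g τ) (pullback.snd g τ ≫ pullback.lift a b (ha.trans hb.symm))
        (by rw [Category.assoc, pullback.lift_fst_assoc, ha]; exact pullback.condition)
    have hm₁ : m ≫ Φ₁ = C.pt τ a ha := by
      rw [C.comp_pt _ _ _ m _ rfl, Chart.pt]
      congr 1
      refine pullback.hom_ext ?_ ?_ <;>
        simp [m, pullback.lift_fst, pullback.lift_snd_assoc, pullback.lift_snd]
    have hm₂ : m ≫ Φ₂ = C.pt τ b hb := by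
      rw [C.comp_pt _ _ _ m _ rfl, Chart.pt]
      congr 1
      refine pullback.hom_ext ?_ ?_ <;>
        simp [m, pullback.lift_fst, pullback.lift_snd_assoc, pullback.lift_snd]
    have hmp : m ≫ p = pullback.snd g τ ≫ pullback.lift a b (ha.trans hb.symm) :=
      pullback.lift_snd _ _ _
    constructor
    · intro hr
      rw [← hm₁, ← hm₂]
      refine comp_eq_of_range_subset f m hΦ ?_
      rintro _ ⟨z, rfl⟩
      refine hsat.subset ?_
      change p (m z) ∈ p '' E
      rw [← Scheme.Hom.comp_apply, hmp, Scheme.Hom.comp_apply]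
      exact hr ⟨_, rfl⟩
    · rintro he _ ⟨z, rfl⟩
      obtain ⟨z, rfl⟩ := (hg _ _ _ (IsPullback.of_hasPullback g τ).flip).surjective z
      rw [← Scheme.Hom.comp_apply, ← hmp, Scheme.Hom.comp_apply]
      exact ⟨m z, subset_eqSet f m Φ₁ Φ₂ hΦ (by rw [hm₁, hm₂, he]) ⟨z, rfl⟩, rfl⟩
  have hrel : ∀ (T : Over S) (a b : T ⟶ WO), (∃ r : T ⟶ RO, r ≫ t = a ∧ r ≫ s = b) ↔
      C.pt T.hom a.left (Over.w a) = C.pt T.hom b.left (Over.w b) := by
    intro T a b
    rw [← hRR]
    constructor
    · rintro ⟨r, rfl, rfl⟩ _ ⟨z, rfl⟩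
      have : pullback.lift (r ≫ t).left (r ≫ s).left
          ((Over.w (r ≫ t)).trans (Over.w (r ≫ s)).symm) = r.left ≫ R.ι := by
        refine pullback.hom_ext ?_ ?_ <;> simp [s, t, pullback.lift_fst, pullback.lift_snd] <;> rfl
      erw [this, Scheme.Hom.comp_apply]
      exact (r.left z).2
    · intro hr
      let l := IsOpenImmersion.lift R.ι (pullback.lift a.left b.left ((Over.w a).trans (Over.w b).symm))
        (by rw [Scheme.Opens.range_ι]; exact hr)
      have hl : l ≫ R.ι = _ := IsOpenImmersion.lift_fac _ _ _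
      refine ⟨Over.homMk l ?_, ?_, ?_⟩
      · change l ≫ R.ι ≫ t₂ = T.hom
        rw [reassoc_of% hl, pullback.lift_fst_assoc]
        exact Over.w a
      · ext
        change l ≫ R.ι ≫ _ = _
        rw [reassoc_of% hl, pullback.lift_fst]
      · ext
        change l ≫ R.ι ≫ _ = _
        rw [reassoc_of% hl, pullback.lift_snd]
  have hE : AlgSp.IsEtaleEqvRel s t :=
    { injective := fun T r r' h1 h2 ↦ by
        ext
        refine (cancel_mono R.ι).1 (pullback.hom_ext ?_ ?_)
        · simpa [t] using congr($(h1).left)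
        · simpa [s] using congr($(h2).left)
      equivalence := fun T ↦
        ⟨fun a ↦ (hrel T a a).2 rfl, fun h ↦ (hrel T _ _).2 ((hrel T _ _).1 h).symm,
          fun h h' ↦ (hrel T _ _).2 (((hrel T _ _).1 h).trans ((hrel T _ _).1 h'))⟩
      etale_left := inferInstanceAs (Etale (R.ι ≫ pullback.snd C.e C.e))
      etale_right := inferInstanceAs (Etale (R.ι ≫ pullback.fst C.e C.e)) }
  have hcl : IsClosedImmersion (prod.lift t s).left := by
    haveI : IsClosedImmersion R.ι :=
      .of_isPreimmersion _ (by rw [Scheme.Opens.range_ι]; exact hRc)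
    have e : (prod.lift t s).left ≫ (Over.prodLeftIsoPullback WO WO).hom = R.ι := by
      refine pullback.hom_ext ?_ ?_
      · rw [Category.assoc, Over.prodLeftIsoPullback_hom_fst, ← Over.comp_left, prod.lift_fst]
        rfl
      · rw [Category.assoc, Over.prodLeftIsoPullback_hom_snd, ← Over.comp_left, prod.lift_snd]
        rfl
    rw [← MorphismProperty.cancel_right_of_respectsIso @IsClosedImmersion _
      (Over.prodLeftIsoPullback WO WO).hom, e]
    infer_instance
  haveI : Etale WO.hom := C.etale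
  obtain ⟨U, π, hUe, hUs, hπe, hπs, sqU⟩ := exists_scheme_quotient hE hcl
  have hπ : ∀ {T : Scheme.{u}} (τ : T ⟶ S) (a b : T ⟶ C.V) (ha : a ≫ C.e = τ) (hb : b ≫ C.e = τ),
      a ≫ π.left = b ≫ π.left ↔ C.pt τ a ha = C.pt τ b hb := by
    intro T τ a b ha hb
    let a' : Over.mk τ ⟶ WO := Over.homMk a ha
    let b' : Over.mk τ ⟶ WO := Over.homMk b hb
    refine Iff.trans ?_ (hrel _ a' b')
    constructor
    · intro h
      obtain ⟨r, h1, h2⟩ := sqU.exists_lift a' b' (Over.OverMorphism.ext h)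
      exact ⟨r, h1, h2⟩
    · rintro ⟨r, h1, h2⟩
      have : a' ≫ π = b' ≫ π := by rw [← h1, ← h2, Category.assoc, Category.assoc, sqU.w]
      exact congr($(this).left)
  -- the map to the quotient
  haveI : Etale C.σ := by
    refine MorphismProperty.of_postcomp (W := @Etale) (W' := @Etale) C.σ D.obj.hom inferInstance ?_
    rw [C.σ_hom]
    infer_instance
  haveI := hC
  have hcov := FFDesc.fpqcCover_of_lfp C.σ
  haveI := hcov.effectiveEpi
  have hP : ∀ {T : Scheme.{u}} (a : T ⟶ pullback g C.e),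
      a = pullback.lift (a ≫ pullback.fst g C.e) (a ≫ pullback.snd g C.e)
        (by rw [Category.assoc, pullback.condition, Category.assoc]) := fun a ↦ by
    refine pullback.hom_ext ?_ ?_ <;> simp [pullback.lift_fst, pullback.lift_snd]
  obtain ⟨q, hq⟩ : ∃ q : D.obj.left ⟶ U.left, C.σ ≫ q = pullback.snd g C.e ≫ π.left := by
    refine ⟨EffectiveEpi.desc C.σ (pullback.snd g C.e ≫ π.left) ?hker, EffectiveEpi.fac C.σ _ ?hker⟩
    intro T a b h
    have hfst : a ≫ pullback.fst g C.e = b ≫ pullback.fst g C.e := by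
      rw [← C.σ_hom, reassoc_of% h]
    rw [← Category.assoc, ← Category.assoc]
    refine (hπ ((a ≫ pullback.fst g C.e) ≫ g) _ _
      (by simp [pullback.condition]) (by rw [hfst]; simp [pullback.condition])).2 ?_
    refine C.pt_eq_of_lift _ _ _ _ _ (a ≫ pullback.fst g C.e) rfl ?_
    rw [← hP a]
    refine h.trans (congrArg (· ≫ C.σ) ?_)
    refine pullback.hom_ext ?_ ?_ <;> simp [pullback.lift_fst, pullback.lift_snd, hfst]
  have hqs : Surjective q := ⟨fun x ↦ by
    obtain ⟨w, rfl⟩ := π.left.surjective x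
    obtain ⟨z, rfl⟩ := (hg _ _ _ (IsPullback.of_hasPullback g C.e).flip).surjective w
    exact ⟨C.σ z, by rw [← Scheme.Hom.comp_apply, hq, Scheme.Hom.comp_apply]⟩⟩
  -- the square is cartesian
  have hw : D.obj.hom ≫ g = q ≫ U.hom := by
    apply (cancel_epi C.σ).1
    rw [reassoc_of% hq, reassoc_of% C.σ_hom, Over.w π]
    exact pullback.condition
  let π' : pullback g C.e ⟶ pullback g U.hom :=
    pullback.lift (pullback.fst g C.e) (pullback.snd g C.e ≫ π.left)
      (by rw [Category.assoc, Over.w π]; exact pullback.condition)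
  have sqπ : IsPullback π' (pullback.snd g C.e) (pullback.snd g U.hom) π.left := by
    refine IsPullback.of_right ?_ (pullback.lift_snd _ _ _) (IsPullback.of_hasPullback g U.hom)
    rw [pullback.lift_fst, Over.w π]
    exact IsPullback.of_hasPullback g C.e
  haveI := hπe
  haveI := hπs
  haveI : Etale π' := MorphismProperty.of_isPullback sqπ.flip hπe
  haveI : Surjective π' := MorphismProperty.of_isPullback sqπ.flip hπs
  haveI := (FFDesc.fpqcCover_of_lfp π').effectiveEpi
  let m : D.obj.left ⟶ pullback g U.hom := pullback.lift D.obj.hom q hw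
  obtain ⟨n, hn⟩ : ∃ n, π' ≫ n = C.σ := by
    refine ⟨EffectiveEpi.desc π' C.σ ?hker2, EffectiveEpi.fac π' _ ?hker2⟩
    intro T a b h
    have hfst : a ≫ pullback.fst g C.e = b ≫ pullback.fst g C.e := by
      simpa [π', pullback.lift_fst] using congr($h ≫ pullback.fst g U.hom)
    have hsnd : (a ≫ pullback.snd g C.e) ≫ π.left = (b ≫ pullback.snd g C.e) ≫ π.left := by
      simpa [π', pullback.lift_snd] using congr($h ≫ pullback.snd g U.hom)
    have := C.lift_eq_of_pt_eq _ _ _ _ _ (a ≫ pullback.fst g C.e) rfl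
      ((hπ ((a ≫ pullback.fst g C.e) ≫ g) _ _ (by simp [pullback.condition])
        (by rw [hfst]; simp [pullback.condition])).1 hsnd)
    rw [← hP a] at this
    refine this.trans (congrArg (· ≫ C.σ) ?_)
    refine pullback.hom_ext ?_ ?_ <;> simp [pullback.lift_fst, pullback.lift_snd, hfst]
  have hσm : C.σ ≫ m = π' := by
    refine pullback.hom_ext ?_ ?_ <;>
      simp [m, π', pullback.lift_fst, pullback.lift_snd, C.σ_hom, hq]
  haveI : IsIso m := ⟨n, (cancel_epi C.σ).1 (by rw [reassoc_of% hσm, hn, Category.comp_id]),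
    (cancel_epi π').1 (by rw [reassoc_of% hn, hσm, Category.comp_id])⟩
  refine ⟨U, q, hUe, hUs, hqs, ⟨(IsPullback.of_hasPullback g U.hom).of_iso (asIso m).symm
    (Iso.refl _) (Iso.refl _) (Iso.refl _) ?_ ?_ (by simp) (by simp), ?_⟩⟩
  · simp [m, pullback.lift_fst]
  · simp [m, pullback.lift_snd]
  -- invariance
  let k₁ := pullback.fst C.σ (pr D)
  let k₂ := pullback.snd C.σ (pr D)
  have hk : k₁ ≫ C.σ = k₂ ≫ pr D := pullback.condition
  haveI := (FFDesc.fpqcCover_of_lfp k₂).effectiveEpi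
  apply (cancel_epi k₂).1
  let b : pullback C.σ (pr D) ⟶ pullback g C.e :=
    pullback.lift (k₂ ≫ pr₁ D) (k₁ ≫ pullback.snd g C.e) (by
      rw [Category.assoc, Category.assoc, ← pullback.condition (f := D.obj.hom ≫ g) (g := g),
        ← pullback.condition (f := g) (g := C.e), ← C.σ_hom]
      simp only [Category.assoc]
      rw [reassoc_of% hk])
  have hb : k₁ ≫ pullback.snd g C.e = b ≫ pullback.snd g C.e := (pullback.lift_snd _ _ _).symm
  have hact : k₂ ≫ act D = b ≫ C.σ := by
    rw [← C.inv k₁ b hb, act_eq_tr, comp_tr]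
    exact tr_congr D _ hk.symm (pullback.lift_fst _ _ _).symm
  rw [← reassoc_of% hk, reassoc_of% hact, hq, reassoc_of% hb]

end Groth.Agent.Lib.EtDescent
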