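import Mathlib.AlgebraicGeometry.Limits
import Groth.Agent.Lib.EtDescent.Chart

/-!
# Combining charts; effectivity from jointly surjective charts
-/

set_option autoImplicit false
set_option linter.style.haveILetI false
universe u

open CategoryTheory CategoryTheory.Limits AlgebraicGeometry

namespace Groth.Agent.Lib.EtDescent

open Groth.Agent.Lib.FFDesc (IsDescended tr tr_congr comp_tr)

variable {S' S : Scheme.{u}} {g : S' ⟶ S} {D : Desc.SchDD g}

/-- A family of charts gives one chart whose section covers all their images. -/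
theorem exists_chart_sigma {ι : Type u} (C : ι → Chart D) :
    ∃ C' : Chart D, ∀ i, Set.range (C i).σ ⊆ Set.range C'.σ := by
  let V : ι → Scheme.{u} := fun i ↦ (C i).V
  let e : (∐ V) ⟶ S := Sigma.desc fun i ↦ (C i).e
  let P := pullback g e
  let m : ∀ i, pullback g (C i).e ⟶ P := fun i ↦
    pullback.lift (pullback.fst g (C i).e) (pullback.snd g (C i).e ≫ Sigma.ι V i)
      (by simp [e, pullback.condition])
  have hsq : ∀ i, IsPullback (m i) (pullback.snd g (C i).e) (pullback.snd g e) (Sigma.ι V i) :=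
    fun i ↦ IsPullback.of_right
      (by rw [show m i ≫ pullback.fst g e = pullback.fst g (C i).e from pullback.lift_fst _ _ _,
            show Sigma.ι V i ≫ e = (C i).e from Sigma.ι_desc _ _]
          exact IsPullback.of_hasPullback g (C i).e)
      (pullback.lift_snd _ _ _) (IsPullback.of_hasPullback g e)
  haveI : ∀ i, IsOpenImmersion (m i) := fun i ↦
    MorphismProperty.of_isPullback (hsq i).flip (inferInstanceAs (IsOpenImmersion (Sigma.ι V i)))
  have hr : ∀ i, Set.range (m i) = pullback.snd g e ⁻¹' Set.range (Sigma.ι V i) := fun i ↦ by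
    ext y
    constructor
    · rintro ⟨z, rfl⟩
      exact ⟨pullback.snd g (C i).e z, by
        rw [← Scheme.Hom.comp_apply, ← (hsq i).w, Scheme.Hom.comp_apply]⟩
    · rintro ⟨w, hw⟩
      obtain ⟨z, hz, -⟩ := Scheme.exists_preimage_of_isPullback (hsq i) y w hw.symm
      exact ⟨z, hz⟩
  have hcov : ∀ y : P, ∃ i, y ∈ Set.range (m i) := fun y ↦ by
    obtain ⟨⟨i, w⟩, hw⟩ := (sigmaMk V).surjective (pullback.snd g e y)
    rw [sigmaMk_mk] at hw
    exact ⟨i, (hr i).symm.subset ⟨w, hw⟩⟩
  obtain ⟨hm⟩ : Nonempty (IsColimit (Cofan.mk P m)) := by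
    refine nonempty_isColimit_cofanMk_of m ?_ fun i j hij ↦ ?_
    · rw [eq_top_iff]
      exact fun y _ ↦ TopologicalSpace.Opens.mem_iSup.2 (hcov y)
    · intro O hi hj y hy
      have h1 : y ∈ Set.range (m i) := hi hy
      have h2 : y ∈ Set.range (m j) := hj hy
      rw [hr] at h1 h2
      exact eq_bot_iff.mp (disjoint_iff.mp (disjoint_opensRange_sigmaι V i j hij)) ⟨h1, h2⟩
  let σ : P ⟶ D.obj.left := Cofan.IsColimit.desc hm fun i ↦ (C i).σ
  have hσ : ∀ i, m i ≫ σ = (C i).σ := fun i ↦ Cofan.IsColimit.fac hm _ i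
  have hσhom : σ ≫ D.obj.hom = pullback.fst g e := by
    refine Cofan.IsColimit.hom_ext hm _ _ fun i ↦ ?_
    change m i ≫ σ ≫ _ = m i ≫ _
    rw [← Category.assoc, hσ, (C i).σ_hom]
    exact (pullback.lift_fst _ _ _).symm
  haveI : Etale e := IsZariskiLocalAtSource.sigmaDesc (P := @Etale) fun i ↦ (C i).etale
  refine ⟨⟨∐ V, e, inferInstance, σ, hσhom, fun T a b h ↦ ?_⟩, fun i ↦ ?_⟩
  · let O : ι → T.Opens := fun i ↦ (a ≫ pullback.snd g e) ⁻¹ᵁ (Sigma.ι V i).opensRange
    have hO : TopologicalSpace.IsOpenCover O := by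
      refine eq_top_iff.2 fun t _ ↦ TopologicalSpace.Opens.mem_iSup.2 ?_
      obtain ⟨⟨i, w⟩, hw⟩ := (sigmaMk V).surjective ((a ≫ pullback.snd g e) t)
      rw [sigmaMk_mk] at hw
      exact ⟨i, w, hw⟩
    refine (T.openCoverOfIsOpenCover O hO).hom_ext _ _ fun i ↦ ?_
    let c : (O i : Scheme.{u}) ⟶ T := (O i).ι
    change c ≫ _ = c ≫ _
    let w := IsOpenImmersion.lift (Sigma.ι V i) (c ≫ a ≫ pullback.snd g e) (by
      rintro _ ⟨t, rfl⟩
      exact t.2)
    have hw : w ≫ Sigma.ι V i = c ≫ a ≫ pullback.snd g e := IsOpenImmersion.lift_fac _ _ _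
    let a' := (hsq i).lift (c ≫ a) w (by rw [Category.assoc, hw])
    let b' := (hsq i).lift (c ≫ b) w (by rw [Category.assoc, hw, h])
    have ha : a' ≫ m i = c ≫ a := (hsq i).lift_fst _ _ _
    have hb : b' ≫ m i = c ≫ b := (hsq i).lift_fst _ _ _
    rw [comp_tr]
    have h1 : c ≫ a ≫ σ = a' ≫ (C i).σ := by rw [← hσ i, reassoc_of% ha]
    have h2 : c ≫ b ≫ pullback.fst g e = b' ≫ pullback.fst g (C i).e := by
      rw [← reassoc_of% hb]
      exact congrArg (b' ≫ ·) (pullback.lift_fst _ _ _)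
    refine (tr_congr D _ h1 h2).trans (((C i).inv a' b' (by simp [a', b'])).trans ?_)
    rw [← hσ i, reassoc_of% hb]
  · rintro _ ⟨z, rfl⟩
    exact ⟨m i z, by rw [← Scheme.Hom.comp_apply, hσ i]⟩

/-- A descent datum with jointly surjective charts is effective. -/
theorem exists_isDescended_of_charts [Etale D.obj.hom] [IsSeparated D.obj.hom]
    (hg : SGA1.UnivSubmersive g) (h : ∀ x : D.obj.left, ∃ C : Chart D, x ∈ Set.range C.σ) :
    ∃ (U : Over S) (q : D.obj.left ⟶ U.left), Etale U.hom ∧ IsSeparated U.hom ∧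
      Surjective q ∧ IsDescended D U q := by
  choose C hC using h
  obtain ⟨C', hC'⟩ := exists_chart_sigma C
  exact exists_isDescended_of_chart C' hg ⟨fun x ↦ hC' x (hC x)⟩

/-- Quasi-compactness of the descended scheme. -/
theorem quasiCompact_of_isDescended [QuasiCompact g] [QuasiCompact D.obj.hom] {U : Over S}
    {q : D.obj.left ⟶ U.left} [Surjective q] (H : IsDescended D U q) : QuasiCompact U.hom := by
  refine ⟨fun O hO hc ↦ ?_⟩
  have hc' : IsCompact ((D.obj.hom ≫ g) ⁻¹' O) :=
    (D.obj.hom ≫ g).isCompact_preimage (U := ⟨O, hO⟩) hc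
  convert hc'.image q.continuous using 1
  rw [show D.obj.hom ≫ g = q ≫ U.hom from H.isPullback.w]
  exact (Set.image_preimage_eq _ q.surjective).symm

end Groth.Agent.Lib.EtDescent

namespace Groth.Agent.Lib.EtDescent

/-- A surjective universally closed morphism is universally submersive. -/
theorem univSubmersive_of_universallyClosed {S' S : Scheme.{u}} (g : S' ⟶ S) [UniversallyClosed g]
    [Surjective g] : SGA1.UnivSubmersive g := fun T' T i₁ i₂ g' sq ↦ by
  haveI : UniversallyClosed g' := MorphismProperty.of_isPullback sq.flip ‹_›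
  haveI : Surjective g' := MorphismProperty.of_isPullback sq.flip ‹_›
  exact g'.isClosedMap.isQuotientMap g'.continuous g'.surjective

end Groth.Agent.Lib.EtDescent
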