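import Groth.Agent.Lib.Bootstrap.QFin.Chart
import Groth.Agent.Lib.EtDescent.Sigma
import Groth.Agent.S3694

/-!
# Charts of a descent datum along a finite morphism
-/

set_option autoImplicit false
set_option linter.style.haveILetI false
universe u

open CategoryTheory CategoryTheory.Limits AlgebraicGeometry

namespace Groth.Agent.Lib.EtDescent

open Groth.Agent.H54.GeomLift (pt Lift pt_comp exists_pt_eq card_pt_eq)
open Groth.Agent.H54
open Groth.Agent.Lib.FFDesc (tr tr_hom tr_congr tr_self tr_tr comp_tr)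

/-- The geometric lifts along a quasi-finite quasi-compact morphism are finite in number. -/
theorem finite_lift {U V : Scheme.{u}} (π : U ⟶ V) [LocallyQuasiFinite π] [QuasiCompact π]
    {k : Type u} [Field k] [IsAlgClosed k] (ξ : Spec (CommRingCat.of k) ⟶ V) :
    Finite (Lift π ξ) := by
  haveI : Finite {u : U // π u = pt ξ} := (π.finite_preimage_singleton (pt ξ)).to_subtype
  haveI : ∀ u : {u : U // π u = pt ξ}, Finite {s : Lift π ξ // pt s.1 = u.1} :=
    fun u ↦ (card_pt_eq π ξ u.1 u.2).1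
  refine Finite.of_surjective
    (fun s : Σ u : {u : U // π u = pt ξ}, {s : Lift π ξ // pt s.1 = u.1} ↦ s.2.1) fun s ↦ ?_
  exact ⟨⟨⟨pt s.1, GeomLift.apply_pt s⟩, ⟨s, rfl⟩⟩, rfl⟩

/-- Every point over a geometric point underlies a lift. -/
theorem exists_lift_pt_eq {U V : Scheme.{u}} (π : U ⟶ V) [LocallyQuasiFinite π]
    {k : Type u} [Field k] [IsAlgClosed k] (ξ : Spec (CommRingCat.of k) ⟶ V) (u : U)
    (hu : π u = pt ξ) : ∃ s : Spec (CommRingCat.of k) ⟶ U, s ≫ π = ξ ∧ pt s = u := by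
  haveI := (card_pt_eq π ξ u hu).1
  obtain ⟨⟨⟨s, hs⟩, h⟩⟩ := (Nat.card_pos_iff.1 (card_pt_eq π ξ u hu).2.1).1
  exact ⟨s, hs, h⟩

/-- An etale neighbourhood with a finite open piece having prescribed geometric fibre. -/
theorem exists_piece {X Y : Scheme.{u}} (f : X ⟶ Y) [IsSeparated f] [LocallyQuasiFinite f]
    [LocallyOfFiniteType f] {k : Type u} [Field k] [IsAlgClosed k]
    (ξ : Spec (CommRingCat.of k) ⟶ Y) {ι : Type u} [Finite ι] [Nonempty ι]
    (L : ι → (Spec (CommRingCat.of k) ⟶ X)) (hL : ∀ i, L i ≫ f = ξ) :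
    ∃ (W : Scheme.{u}) (φ : W ⟶ Y) (_ : Etale φ) (ξ₀ : Spec (CommRingCat.of k) ⟶ W)
      (Z : (pullback f φ).Opens), ξ₀ ≫ φ = ξ ∧ IsFinite (Z.ι ≫ pullback.snd f φ) ∧
      ∀ q : Spec (CommRingCat.of k) ⟶ pullback f φ, q ≫ pullback.snd f φ = ξ₀ →
        (pt q ∈ Z ↔ ∃ i, q ≫ pullback.fst f φ = L i) := by
  classical
  let D : ∀ i, Weighting.Datum f (L i) := fun i ↦ (Weighting.nonempty_datum f _).some
  obtain ⟨W, φ, hφ, ξ₀, c, hξ₀, hca, hcη⟩ := Weighting.exists_common (𝟙 Y) ξ (fun i ↦ (D i).V)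
    (fun i ↦ (D i).a) (fun i ↦ (D i).η) (fun i ↦ by rw [(D i).hη, hL, Category.comp_id])
  have hc : ∀ i, c i ≫ (D i).a = φ := fun i ↦ by rw [hca i, Category.comp_id]
  let A : ι → (pullback f φ).Opens := fun i ↦ ((D i).piece φ (c i) (hc i)).opensRange
  have hA : ∀ i, IsFinite ((A i).ι ≫ pullback.snd f φ) := fun i ↦ by
    rw [← MorphismProperty.cancel_left_of_respectsIso @IsFinite
      ((D i).piece φ (c i) (hc i)).isoOpensRange.hom, ← Category.assoc,
      Scheme.Hom.isoOpensRange_hom_ι]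
    exact (D i).isFinite_piece φ (c i) (hc i)
  haveI := Fintype.ofFinite ι
  let Z := Finset.univ.sup' Finset.univ_nonempty A
  refine ⟨W, φ, hφ, ξ₀, Z, hξ₀, Bootstrap.QFin.isFinite_sup' _ _ _ _ hA, fun q hq ↦ ?_⟩
  have hZ : pt q ∈ Z ↔ ∃ i, pt q ∈ A i := by
    rw [show Z = ⨆ i, A i from (Finset.sup'_eq_sup _ _).trans (Finset.sup_univ_eq_iSup A),
      TopologicalSpace.Opens.mem_iSup]
  rw [hZ]
  refine exists_congr fun i ↦ ⟨fun h ↦ ?_, fun h ↦ ?_⟩
  · exact (D i).uniq_piece φ (c i) (hc i) (hcη i) q hq h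
  · exact (D i).mem_range_piece φ (c i) (hc i) (hcη i) q h hq

/-- An etale morphism has a section over an open over which its points are unique and exist. -/
theorem exists_section {Z P : Scheme.{u}} (h : Z ⟶ P) [Etale h] (O : P.Opens)
    (hinj : ∀ z : ↥(pullback h h), h (pullback.fst h h z) ∈ O →
      z ∈ eqSet h (pullback.fst h h) (pullback.snd h h) pullback.condition)
    (hsurj : (O : Set P) ⊆ Set.range h) :
    ∃ s : (O : Scheme.{u}) ⟶ Z, s ≫ h = O.ι := by
  haveI : Etale (h ∣_ O) := IsZariskiLocalAtTarget.restrict (P := @Etale) ‹_› O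
  haveI : Mono (h ∣_ O) := by
    refine ⟨fun {T} a b hab ↦ ?_⟩
    rw [← cancel_mono (h ⁻¹ᵁ O).ι]
    let l : T ⟶ pullback h h := pullback.lift (a ≫ (h ⁻¹ᵁ O).ι) (b ≫ (h ⁻¹ᵁ O).ι)
      (by rw [Category.assoc, Category.assoc, ← morphismRestrict_ι, reassoc_of% hab])
    have hl : Set.range l ⊆ eqSet h (pullback.fst h h) (pullback.snd h h) pullback.condition := by
      rintro _ ⟨t, rfl⟩
      refine hinj _ ?_
      change h ((l ≫ pullback.fst h h) t) ∈ O
      rw [pullback.lift_fst]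
      exact (a t).2
    have := comp_eq_of_range_subset h l pullback.condition hl
    rwa [pullback.lift_fst, pullback.lift_snd] at this
  haveI : IsOpenImmersion (h ∣_ O) := Groth.Agent.S3694.result _
  haveI : Surjective (h ∣_ O) := ⟨fun y ↦ by
    obtain ⟨z, hz⟩ := hsurj y.2
    refine ⟨⟨z, show h z ∈ O from hz ▸ y.2⟩, O.ι.isOpenEmbedding.injective ?_⟩
    rw [← Scheme.Hom.comp_apply, morphismRestrict_ι, Scheme.Hom.comp_apply]
    exact hz⟩
  haveI : IsIso (h ∣_ O) :=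
    (isIso_iff_isOpenImmersion_and_surjective _).mpr ⟨inferInstance, inferInstance⟩
  exact ⟨inv (h ∣_ O) ≫ (h ⁻¹ᵁ O).ι,
    by rw [Category.assoc, ← morphismRestrict_ι, IsIso.inv_hom_id_assoc]⟩

variable {S' S : Scheme.{u}} {g : S' ⟶ S}

/-- Along a finite morphism every point of a separated etale datum lies on a chart. -/
theorem exists_chart_of_isFinite [IsFinite g] (D : Desc.SchDD g) [Etale D.obj.hom]
    [IsSeparated D.obj.hom] (x : D.obj.left) : ∃ C : Chart D, x ∈ Set.range C.σ := by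
  obtain ⟨Ω, _, _, xb, hxb⟩ := exists_pt_eq x
  let f := D.obj.hom ≫ g
  haveI : LocallyQuasiFinite D.obj.hom := Groth.Agent.Lib.SourceDescent.Scheme.locallyQuasiFinite_of_etale _
  haveI : IsSeparated f := inferInstanceAs (IsSeparated (D.obj.hom ≫ g))
  haveI : LocallyQuasiFinite f := inferInstanceAs (LocallyQuasiFinite (D.obj.hom ≫ g))
  haveI : LocallyOfFiniteType f := inferInstanceAs (LocallyOfFiniteType (D.obj.hom ≫ g))
  let s₀ : Spec (CommRingCat.of Ω) ⟶ S := xb ≫ f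
  haveI := finite_lift g s₀
  let c₀ : Lift g s₀ := ⟨xb ≫ D.obj.hom, Category.assoc _ _ _⟩
  haveI : Nonempty (Lift g s₀) := ⟨c₀⟩
  let L : Lift g s₀ → (Spec (CommRingCat.of Ω) ⟶ D.obj.left) := fun c ↦ tr D xb c.1 c.2.symm
  have hLh : ∀ c, L c ≫ D.obj.hom = c.1 := fun c ↦ tr_hom D _ _ _
  obtain ⟨W, φ, hφ, ξ₀, Z, hξ₀, hfin, hZ⟩ := exists_piece f s₀ L fun c ↦ by
    rw [show f = D.obj.hom ≫ g from rfl, ← Category.assoc, hLh]
    exact c.2
  haveI := hfin
  let P := pullback g φ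
  let η : pullback f φ ⟶ P := pullback.lift (pullback.fst f φ ≫ D.obj.hom) (pullback.snd f φ)
    ((Category.assoc _ _ _).trans pullback.condition)
  have sqη : IsPullback (pullback.fst f φ) η D.obj.hom (pullback.fst g φ) :=
    IsPullback.of_bot (by rw [pullback.lift_snd]; exact IsPullback.of_hasPullback f φ)
      (pullback.lift_fst _ _ _).symm (IsPullback.of_hasPullback g φ)
  haveI : Etale η := MorphismProperty.of_isPullback sqη ‹Etale D.obj.hom›
  let π : (Z : Scheme.{u}) ⟶ W := Z.ι ≫ pullback.snd f φ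
  let h : (Z : Scheme.{u}) ⟶ P := Z.ι ≫ η
  have hπ : h ≫ pullback.snd g φ = π := by
    simp only [h, η, π, Category.assoc, pullback.lift_snd]
  haveI : IsFinite (h ≫ pullback.snd g φ) := by rw [hπ]; exact hfin
  haveI : IsFinite h := IsFinite.of_comp h (pullback.snd g φ)
  haveI : Etale h := inferInstanceAs (Etale (Z.ι ≫ η))
  let ζ : (Z : Scheme.{u}) ⟶ D.obj.left := Z.ι ≫ pullback.fst f φ
  have hζ : h ≫ pullback.fst g φ = ζ ≫ D.obj.hom := by
    simp only [h, η, ζ, Category.assoc, pullback.lift_fst]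
  have hζg : ζ ≫ D.obj.hom ≫ g = π ≫ φ := by
    simp only [ζ, π, Category.assoc]
    exact congrArg (Z.ι ≫ ·) (pullback.condition (f := f) (g := φ))
  have hπdef : π = Z.ι ≫ pullback.snd f φ := rfl
  have hζdef : ζ = Z.ι ≫ pullback.fst f φ := rfl
  have hhdef : h = Z.ι ≫ η := rfl
  -- the geometric points of the piece
  have hlift : ∀ q : Spec (CommRingCat.of Ω) ⟶ (Z : Scheme.{u}), q ≫ π = ξ₀ →
      ∃ c, q ≫ ζ = L c := by
    intro q hq
    obtain ⟨c, hc⟩ := (hZ (q ≫ Z.ι) (by rw [Category.assoc]; exact hq)).1 (q _).2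
    exact ⟨c, by rw [← hc, Category.assoc]⟩
  haveI hπfin : IsFinite π := hfin
  clear_value h π ζ
  -- injectivity
  let E₁ := eqSet h (pullback.fst h h) (pullback.snd h h) pullback.condition
  let π₁ : pullback h h ⟶ W := pullback.fst h h ≫ π
  haveI : IsFinite π₁ := inferInstanceAs (IsFinite (pullback.fst h h ≫ π))
  have hE₁ : ∀ z, π₁ z = pt ξ₀ → z ∈ E₁ := by
    intro z hz
    obtain ⟨q, hq, rfl⟩ := exists_lift_pt_eq π₁ ξ₀ z hz
    refine subset_eqSet h q _ _ pullback.condition ?_ ⟨_, rfl⟩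
    have hq' : (q ≫ pullback.snd h h) ≫ π = ξ₀ := by
      rw [← hπ, Category.assoc, ← pullback.condition_assoc, ← hq]
      simp only [π₁, Category.assoc, hπ]
    obtain ⟨c, hc⟩ := hlift (q ≫ pullback.fst h h) ((Category.assoc _ _ _).trans hq)
    obtain ⟨c', hc'⟩ := hlift (q ≫ pullback.snd h h) hq'
    have : c = c' := Subtype.ext <| by
      rw [← hLh, ← hLh, ← hc, ← hc', Category.assoc, Category.assoc, ← hζ, Category.assoc,
        Category.assoc, pullback.condition_assoc, hζ]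
    subst this
    rw [← cancel_mono Z.ι]
    refine pullback.hom_ext ?_ ?_
    · simpa [hζdef] using hc.trans hc'.symm
    · simpa [hπdef] using ((Category.assoc _ _ _).trans hq).trans hq'.symm
  -- surjectivity
  have hrange : IsOpen (Set.range h) := h.isOpenMap.isOpen_range
  have hE₂ : ∀ y : P, pullback.snd g φ y = pt ξ₀ → y ∈ Set.range h := by
    intro y hy
    obtain ⟨c', hc', rfl⟩ := exists_lift_pt_eq (pullback.snd g φ) ξ₀ y hy
    let c : Lift g s₀ := ⟨c' ≫ pullback.fst g φ, by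
      rw [Category.assoc, pullback.condition, reassoc_of% hc', hξ₀]⟩
    let q : Spec (CommRingCat.of Ω) ⟶ pullback f φ := pullback.lift (L c) ξ₀ (by
      rw [hξ₀, show f = D.obj.hom ≫ g from rfl, ← Category.assoc, hLh]; exact c.2)
    have hmem : pt q ∈ Z := (hZ q (pullback.lift_snd _ _ _)).2 ⟨c, pullback.lift_fst _ _ _⟩
    have hq : q ≫ η = c' := by
      refine pullback.hom_ext ?_ ?_
      · rw [Category.assoc, pullback.lift_fst, pullback.lift_fst_assoc, hLh]
      · rw [Category.assoc, pullback.lift_snd, pullback.lift_snd, hc']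
    refine ⟨⟨pt q, hmem⟩, ?_⟩
    rw [hhdef]
    exact congrArg pt hq
  -- invariance
  let T₂ := pullback π π
  have haux : (pullback.fst π π ≫ ζ) ≫ D.obj.hom ≫ g =
      ((pullback.snd π π ≫ ζ) ≫ D.obj.hom) ≫ g := by
    simp only [Category.assoc, hζg, pullback.condition_assoc]
  let E₃ := eqSet D.obj.hom (tr D (pullback.fst π π ≫ ζ) ((pullback.snd π π ≫ ζ) ≫ D.obj.hom) haux)
    (pullback.snd π π ≫ ζ) (tr_hom D _ _ _)
  let π₃ : T₂ ⟶ W := pullback.fst π π ≫ π
  haveI : IsFinite π₃ := inferInstanceAs (IsFinite (pullback.fst π π ≫ π))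
  have hE₃ : ∀ z, π₃ z = pt ξ₀ → z ∈ E₃ := by
    intro z hz
    obtain ⟨q, hq, rfl⟩ := exists_lift_pt_eq π₃ ξ₀ z hz
    refine subset_eqSet D.obj.hom q _ _ (tr_hom D _ _ _) ?_ ⟨_, rfl⟩
    obtain ⟨c, hc⟩ := hlift (q ≫ pullback.fst π π) ((Category.assoc _ _ _).trans hq)
    obtain ⟨c', hc'⟩ := hlift (q ≫ pullback.snd π π) (by
      rw [Category.assoc, ← pullback.condition]; exact hq)
    rw [Category.assoc] at hc hc'
    have hx : q ≫ (pullback.snd π π ≫ ζ) ≫ D.obj.hom = c'.1 := by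
      rw [← Category.assoc, hc', hLh]
    rw [comp_tr, tr_congr D _ hc hx, tr_tr, hc']
  -- shrinking
  let K₁ := π₁ '' E₁ᶜ
  let K₂ := pullback.snd g φ '' (Set.range h)ᶜ
  let K₃ := π₃ '' E₃ᶜ
  have hK₁ : IsClosed K₁ :=
    π₁.isClosedMap _ (isOpen_eqSet h _ _ pullback.condition).isClosed_compl
  have hK₂ : IsClosed K₂ := (pullback.snd g φ).isClosedMap _ hrange.isClosed_compl
  have hK₃ : IsClosed K₃ :=
    π₃.isClosedMap _ (isOpen_eqSet D.obj.hom _ _ (tr_hom D _ _ _)).isClosed_compl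
  let N : W.Opens := ⟨(K₁ ∪ K₂ ∪ K₃)ᶜ, ((hK₁.union hK₂).union hK₃).isOpen_compl⟩
  have hv : pt ξ₀ ∈ N := by
    rintro ((⟨z, hz, e⟩ | ⟨z, hz, e⟩) | ⟨z, hz, e⟩)
    · exact hz (hE₁ z e)
    · exact hz (hE₂ z e)
    · exact hz (hE₃ z e)
  let O : P.Opens := pullback.snd g φ ⁻¹ᵁ N
  obtain ⟨s, hs⟩ := exists_section h O
    (fun z hz ↦ by
      by_contra hc
      refine hz (Or.inl (Or.inl ⟨z, hc, ?_⟩))
      change (pullback.fst h h ≫ π) z = _
      rw [← hπ, Scheme.Hom.comp_apply, Scheme.Hom.comp_apply])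
    (fun y hy ↦ by
      by_contra hc
      exact hy (Or.inl (Or.inr ⟨y, hc, rfl⟩)))
  let e : (N : Scheme.{u}) ⟶ S := N.ι ≫ φ
  let l₀ : pullback g e ⟶ P := pullback.lift (pullback.fst g e) (pullback.snd g e ≫ N.ι)
    (by rw [Category.assoc]; exact pullback.condition)
  have hl₀ : Set.range l₀ ⊆ Set.range O.ι := by
    rw [Scheme.Opens.range_ι]
    rintro _ ⟨z, rfl⟩
    change pullback.snd g φ (l₀ z) ∈ N
    rw [← Scheme.Hom.comp_apply, pullback.lift_snd, Scheme.Hom.comp_apply]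
    exact (pullback.snd g e z).2
  let l := IsOpenImmersion.lift O.ι l₀ hl₀
  have hl : l ≫ O.ι = l₀ := IsOpenImmersion.lift_fac _ _ _
  let k : pullback g e ⟶ (Z : Scheme.{u}) := l ≫ s
  have hk : k ≫ h = l₀ := by rw [Category.assoc, hs, hl]
  clear_value k
  have hkπ : k ≫ π = pullback.snd g e ≫ N.ι := by
    rw [← hπ, reassoc_of% hk, pullback.lift_snd]
  have hkζ : (k ≫ ζ) ≫ D.obj.hom = pullback.fst g e := by
    rw [Category.assoc, ← hζ, reassoc_of% hk, pullback.lift_fst]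
  refine ⟨⟨N, e, inferInstance, k ≫ ζ, hkζ, fun T a b hab ↦ ?_⟩, ?_⟩
  · let m : T ⟶ T₂ := pullback.lift (a ≫ k) (b ≫ k)
      (by rw [Category.assoc, Category.assoc, hkπ, reassoc_of% hab])
    have hm : Set.range m ⊆ E₃ := by
      rintro _ ⟨t, rfl⟩
      by_contra hc
      refine ((a ≫ pullback.snd g e) t).2 (Or.inr ⟨m t, hc, ?_⟩)
      rw [← Scheme.Hom.comp_apply, pullback.lift_fst_assoc, Category.assoc, hkπ, ← Category.assoc,
        Scheme.Hom.comp_apply]
      rfl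
    have := comp_eq_of_range_subset D.obj.hom m (tr_hom D _ _ _) hm
    rw [comp_tr] at this
    have h2 : m ≫ pullback.snd π π ≫ ζ = b ≫ k ≫ ζ := by
      rw [pullback.lift_snd_assoc, Category.assoc]
    rw [h2] at this
    refine Eq.trans ?_ this
    refine (tr_congr D _ ?_ ?_).symm
    · rw [pullback.lift_fst_assoc, Category.assoc]
    · rw [← Category.assoc, h2, Category.assoc, hkζ]
  · let ξ' : Spec (CommRingCat.of Ω) ⟶ (N : Scheme.{u}) := IsOpenImmersion.lift N.ι ξ₀ (by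
      rw [Scheme.Opens.range_ι]
      rintro _ ⟨t, rfl⟩
      rwa [Subsingleton.elim t (IsLocalRing.closedPoint Ω)])
    have hξ' : ξ' ≫ N.ι = ξ₀ := IsOpenImmersion.lift_fac _ _ _
    let p : Spec (CommRingCat.of Ω) ⟶ pullback g e := pullback.lift c₀.1 ξ'
      (by rw [c₀.2, reassoc_of% hξ', hξ₀])
    obtain ⟨c, hc⟩ := hlift (p ≫ k) (by rw [Category.assoc, hkπ, pullback.lift_snd_assoc, hξ'])
    have hcc : c = c₀ := Subtype.ext <| by
      rw [← hLh c, ← hc, Category.assoc, Category.assoc, hζ.symm, reassoc_of% hk, pullback.lift_fst,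
        pullback.lift_fst]
    refine ⟨pt p, ?_⟩
    rw [← hxb, ← pt_comp]
    refine congrArg pt ?_
    rw [← Category.assoc, hc, hcc]
    exact tr_self D _ _ rfl

end Groth.Agent.Lib.EtDescent
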