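import Groth.Agent.Lib.Stein36.Data
import Groth.Agent.Lib.EtDescent.Finite
import Mathlib.RingTheory.TensorProduct.Finite

/-!
# Clopen subsets of geometric fibres of proper morphisms extend to etale neighbourhoods
-/

set_option autoImplicit false
set_option linter.style.haveILetI false
universe u

open CategoryTheory CategoryTheory.Limits AlgebraicGeometry
open scoped TensorProduct

namespace Groth.Agent.Lib.EtDescent

open Groth.Agent.H54.GeomLift (pt Lift)
open Groth.Agent.Lib.Stein36 (Data.SteinConn)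

/-- A clopen subset of a fibre product with a field is separated at a finite level. -/
theorem exists_finite_separating (conn : Data.SteinConn.{u}) {A : CommRingCat.{u}} {X : Scheme.{u}}
    (f : X ⟶ Spec A) [IsProper f] {k : Type u} [Field k] (φ : A ⟶ CommRingCat.of k)
    {Z : Scheme.{u}} {p₁ : Z ⟶ X} {p₂ : Z ⟶ Spec (CommRingCat.of k)}
    (sq : IsPullback p₁ p₂ f (Spec.map φ)) {C : Set Z} (hC : IsClopen C) :
    ∃ (N₀ : Scheme.{u}) (q : X ⟶ N₀) (f₀ : N₀ ⟶ Spec A) (_ : IsFinite f₀) (hq : q ≫ f₀ = f),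
      ∀ z ∈ C, ∀ z' ∉ C,
        pullback.lift (p₁ ≫ q) p₂ (by rw [Category.assoc, hq]; exact sq.w) z ≠
          (pullback.lift (p₁ ≫ q) p₂ (by rw [Category.assoc, hq]; exact sq.w) :
            Z ⟶ pullback f₀ (Spec.map φ)) z' := by
  haveI := conn f
  haveI : IsAffine f.normalization := isAffine_of_isAffineHom f.fromNormalization
  let e := f.normalization.isoSpec
  obtain ⟨ψ, hψ⟩ := Spec.map_surjective (e.inv ≫ f.fromNormalization)
  haveI : IsIntegralHom (Spec.map ψ) := hψ ▸ inferInstance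
  let B := Γ(f.normalization, ⊤)
  let h : X ⟶ Spec B := f.toNormalization ≫ e.hom
  have hfac : h ≫ Spec.map ψ = f := by
    rw [hψ, Category.assoc, e.hom_inv_id_assoc, f.toNormalization_fromNormalization]
  haveI : GeometricallyConnected h :=
    (MorphismProperty.cancel_right_of_respectsIso @GeometricallyConnected f.toNormalization e.hom).2
      inferInstance
  haveI : IsProper (h ≫ Spec.map ψ) := by rw [hfac]; infer_instance
  haveI : IsProper h := IsProper.of_comp h (Spec.map ψ)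
  algebraize [ψ.hom, φ.hom]
  haveI : Algebra.IsIntegral A B := ⟨IsIntegralHom.SpecMap_iff.mp inferInstance⟩
  let NK := pullback (Spec.map ψ) (Spec.map φ)
  let hk : Z ⟶ NK := pullback.lift (p₁ ≫ h) p₂ (by rw [Category.assoc, hfac]; exact sq.w)
  have sqh : IsPullback p₁ hk h (pullback.fst (Spec.map ψ) (Spec.map φ)) :=
    IsPullback.of_bot (by rw [pullback.lift_snd, hfac]; exact sq) (pullback.lift_fst _ _ _).symm
      (IsPullback.of_hasPullback _ _)
  haveI : IsProper hk := MorphismProperty.of_isPullback sqh ‹IsProper h›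
  haveI : GeometricallyConnected hk := MorphismProperty.of_isPullback sqh ‹GeometricallyConnected h›
  let ι : NK ≅ Spec (CommRingCat.of (B ⊗[A] k)) := pullbackSpecIso A B k
  -- the images of the two pieces are closed and disjoint
  let P : Set ↥(Spec (CommRingCat.of (B ⊗[A] k))) := ι.hom '' (hk '' C)
  let Q : Set ↥(Spec (CommRingCat.of (B ⊗[A] k))) := ι.hom '' (hk '' Cᶜ)
  have hP : IsClosed P := ι.hom.isClosedMap _ (hk.isClosedMap _ hC.1)
  have hQ : IsClosed Q := ι.hom.isClosedMap _ (hk.isClosedMap _ hC.compl.1)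
  have hPQ : Disjoint P Q := by
    rw [Set.disjoint_left]
    rintro _ ⟨n, ⟨z, hz, rfl⟩, rfl⟩ ⟨n', ⟨z', hz', rfl⟩, he⟩
    have he' : hk z' = hk z := ι.hom.homeomorph.injective he
    exact hz' (((hk.isConnected_preimage_singleton (hk z)).isPreconnected.subset_isClopen hC
      ⟨z, rfl, hz⟩) he')
  obtain ⟨b, hbP, hbQ⟩ : ∃ b : B ⊗[A] k, (∀ p ∈ P, b ∈ p.asIdeal) ∧ ∀ p ∈ Q, b ∉ p.asIdeal := by
    let I := PrimeSpectrum.vanishingIdeal P
    let J := PrimeSpectrum.vanishingIdeal Q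
    have htop : I ⊔ J = ⊤ := by
      rw [← PrimeSpectrum.zeroLocus_empty_iff_eq_top, PrimeSpectrum.zeroLocus_sup,
        PrimeSpectrum.zeroLocus_vanishingIdeal_eq_closure,
        PrimeSpectrum.zeroLocus_vanishingIdeal_eq_closure]
      erw [hP.closure_eq, hQ.closure_eq]
      exact hPQ.inter_eq
    obtain ⟨i, hi, j, hj, hij⟩ := Submodule.mem_sup.1
      (show (1 : B ⊗[A] k) ∈ I ⊔ J by rw [htop]; trivial)
    refine ⟨i, fun p hp ↦ (PrimeSpectrum.mem_vanishingIdeal _ _).1 hi p hp, fun p hp h' ↦ ?_⟩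
    exact p.2.ne_top ((Ideal.eq_top_iff_one _).2
      (hij ▸ p.asIdeal.add_mem h' ((PrimeSpectrum.mem_vanishingIdeal _ _).1 hj p hp)))
  -- the finite level
  classical
  obtain ⟨s, hs⟩ := TensorProduct.exists_finset b
  let B₀ := Algebra.adjoin A ((s.image Prod.fst : Finset B) : Set B)
  haveI : Module.Finite A B₀ :=
    ⟨(Submodule.fg_top _).2 (fg_adjoin_of_finite (Finset.finite_toSet _)
      fun x _ ↦ Algebra.IsIntegral.isIntegral x)⟩
  let m : B₀ ⊗[A] k →ₐ[A] B ⊗[A] k := Algebra.TensorProduct.map B₀.val (AlgHom.id A k)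
  obtain ⟨b₀, hb₀⟩ : ∃ b₀, m b₀ = b := by
    refine ⟨∑ x ∈ s.attach, (⟨x.1.1, Algebra.subset_adjoin
      (Finset.mem_image_of_mem _ x.2)⟩ : B₀) ⊗ₜ x.1.2, ?_⟩
    rw [hs, map_sum]
    simp only [m, Algebra.TensorProduct.map_tmul]
    exact Finset.sum_attach s fun x ↦ (x.1 ⊗ₜ[A] x.2 : B ⊗[A] k)
  let f₀ : Spec (CommRingCat.of B₀) ⟶ Spec A := Spec.map (CommRingCat.ofHom (algebraMap A B₀))
  haveI : IsFinite f₀ := (IsFinite.SpecMap_iff _).2 (RingHom.finite_algebraMap.2 inferInstance)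
  let q : X ⟶ Spec (CommRingCat.of B₀) := h ≫ Spec.map (CommRingCat.ofHom B₀.val.toRingHom)
  have hq : q ≫ f₀ = f := by
    rw [Category.assoc, ← Spec.map_comp]
    refine Eq.trans ?_ hfac
    congr 2
  refine ⟨_, q, f₀, inferInstance, hq, fun z hz z' hz' he ↦ ?_⟩
  let ρ : Z ⟶ pullback f₀ (Spec.map φ) :=
    pullback.lift (p₁ ≫ q) p₂ (by rw [Category.assoc, hq]; exact sq.w)
  change ρ z = ρ z' at he
  let ι₀ : pullback f₀ (Spec.map φ) ≅ Spec (CommRingCat.of (B₀ ⊗[A] k)) := pullbackSpecIso A B₀ k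
  have hρ : ρ ≫ ι₀.hom = hk ≫ ι.hom ≫ Spec.map (CommRingCat.ofHom m.toRingHom) := by
    rw [← Iso.eq_comp_inv]
    refine pullback.hom_ext ?_ ?_
    · simp only [ρ, ι, ι₀, pullback.lift_fst, Category.assoc]
      erw [pullbackSpecIso_inv_fst A B₀ k, ← Spec.map_comp]
      rw [show CommRingCat.ofHom Algebra.TensorProduct.includeLeftRingHom ≫
        CommRingCat.ofHom m.toRingHom = CommRingCat.ofHom B₀.val.toRingHom ≫
          CommRingCat.ofHom (Algebra.TensorProduct.includeLeftRingHom : B →+* B ⊗[A] k) from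
        CommRingCat.hom_ext (RingHom.ext fun x ↦ by simp [m])]
      rw [Spec.map_comp]
      erw [pullbackSpecIso_hom_fst_assoc A B k]
      exact ((congrArg (· ≫ Spec.map (CommRingCat.ofHom B₀.val.toRingHom))
        (pullback.lift_fst (p₁ ≫ h) p₂ _)).trans (Category.assoc _ _ _)).symm
    · simp only [ρ, ι, ι₀, pullback.lift_snd, Category.assoc]
      erw [pullbackSpecIso_inv_snd A B₀ k, ← Spec.map_comp]
      refine Eq.trans ?_ (congrArg (fun t ↦ hk ≫ ι.hom ≫ Spec.map t)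
        (show CommRingCat.ofHom (Algebra.TensorProduct.includeRight (R := A) (A := B)
          (B := k)).toRingHom = CommRingCat.ofHom (Algebra.TensorProduct.includeRight (R := A)
          (A := B₀) (B := k)).toRingHom ≫ CommRingCat.ofHom m.toRingHom from
          CommRingCat.hom_ext (RingHom.ext fun x ↦ by simp [m])))
      erw [pullbackSpecIso_hom_snd A B k]
      exact (pullback.lift_snd (p₁ ≫ h) p₂ _).symm
  have key : ∀ w, b₀ ∈ PrimeSpectrum.asIdeal (ι₀.hom (ρ w)) ↔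
      b ∈ PrimeSpectrum.asIdeal (ι.hom (hk w)) := fun w ↦ by
    rw [← Scheme.Hom.comp_apply, hρ, Scheme.Hom.comp_apply, Scheme.Hom.comp_apply,
      Spec.map_apply, ← hb₀]
    rfl
  have h1 := (key z).2 (hbP _ ⟨_, ⟨z, hz, rfl⟩, rfl⟩)
  rw [he, key] at h1
  exact hbQ _ ⟨_, ⟨z', hz', rfl⟩, rfl⟩ h1

/-- A clopen subset of a geometric fibre of a proper morphism extends to an etale neighbourhood. -/
theorem exists_etale_clopen (conn : Data.SteinConn.{u}) {A : CommRingCat.{u}} {X : Scheme.{u}}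
    (f : X ⟶ Spec A) [IsProper f] {k : Type u} [Field k] [IsAlgClosed k]
    (sb : Spec (CommRingCat.of k) ⟶ Spec A)
    {Z : Scheme.{u}} {p₁ : Z ⟶ X} {p₂ : Z ⟶ Spec (CommRingCat.of k)}
    (sq : IsPullback p₁ p₂ f sb) {C : Set Z} (hC : IsClopen C) :
    ∃ (V : Scheme.{u}) (e : V ⟶ Spec A) (_ : Etale e) (vb : Spec (CommRingCat.of k) ⟶ V)
      (hv : vb ≫ e = sb) (CV : Set ↥(pullback f e)), IsClopen CV ∧
      (pullback.lift p₁ (p₂ ≫ vb) (by rw [Category.assoc, hv]; exact sq.w) :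
        Z ⟶ pullback f e) ⁻¹' CV = C := by
  obtain ⟨φ, rfl⟩ := Spec.map_surjective sb
  rcases C.eq_empty_or_nonempty with rfl | ⟨z₀, hz₀⟩
  · exact ⟨_, 𝟙 _, inferInstance, Spec.map φ, Category.comp_id _, ∅, isClopen_empty, rfl⟩
  obtain ⟨N₀, q, f₀, hf₀, hq, hsep⟩ := exists_finite_separating conn f φ sq hC
  let NK := pullback f₀ (Spec.map φ)
  let ρ : Z ⟶ NK := pullback.lift (p₁ ≫ q) p₂ (by rw [Category.assoc, hq]; exact sq.w)
  haveI := finite_lift f₀ (Spec.map φ)
  let pn : Lift f₀ (Spec.map φ) → NK := fun c ↦ pt (pullback.lift c.1 (𝟙 _)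
    (by rw [c.2, Category.id_comp]))
  let M := {c : Lift f₀ (Spec.map φ) // pn c ∈ ρ '' C}
  have hlift : ∀ n : NK, ∃ s : Spec (CommRingCat.of k) ⟶ NK,
      s ≫ pullback.snd f₀ (Spec.map φ) = 𝟙 _ ∧ pt s = n := fun n ↦
    exists_lift_pt_eq _ _ n (Subsingleton.elim _ _)
  haveI : Nonempty M := by
    obtain ⟨s, hs, hsn⟩ := hlift (ρ z₀)
    refine ⟨⟨⟨s ≫ pullback.fst _ _, by
      rw [Category.assoc, pullback.condition, ← Category.assoc, hs, Category.id_comp]⟩,
      ⟨z₀, hz₀, ?_⟩⟩⟩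
    rw [← hsn]
    refine congrArg pt (pullback.hom_ext ?_ ?_)
    · rw [pullback.lift_fst]
    · rw [pullback.lift_snd, hs]
  obtain ⟨W, φW, hφW, ξ₀, Z₀, hξ, hfin, hZ⟩ :=
    exists_piece f₀ (Spec.map φ) (fun c : M ↦ c.1.1) fun c ↦ c.1.2
  have hcl : IsClopen (Z₀ : Set ↥(pullback f₀ φW)) := by
    refine ⟨?_, Z₀.isOpen⟩
    haveI := hfin
    haveI : IsFinite Z₀.ι := IsFinite.of_comp Z₀.ι (pullback.snd f₀ φW)
    rw [← Scheme.Opens.range_ι Z₀]
    exact Z₀.ι.isClosedMap.isClosed_range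
  let r : pullback f φW ⟶ pullback f₀ φW :=
    pullback.lift (pullback.fst f φW ≫ q) (pullback.snd f φW)
      (by rw [Category.assoc, hq]; exact pullback.condition)
  refine ⟨W, φW, hφW, ξ₀, hξ, r ⁻¹' Z₀, hcl.preimage r.continuous, ?_⟩
  ext z
  let μ : NK ⟶ pullback f₀ φW := pullback.lift (pullback.fst f₀ (Spec.map φ))
    (pullback.snd f₀ (Spec.map φ) ≫ ξ₀) (by rw [Category.assoc, hξ]; exact pullback.condition)
  have hμ : pullback.lift p₁ (p₂ ≫ ξ₀) (by rw [Category.assoc, hξ]; exact sq.w) ≫ r = ρ ≫ μ := by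
    refine pullback.hom_ext ?_ ?_ <;>
      simp [r, μ, ρ, pullback.lift_fst, pullback.lift_snd, pullback.lift_fst_assoc,
        pullback.lift_snd_assoc]
  rw [Set.mem_preimage, Set.mem_preimage, ← Scheme.Hom.comp_apply, hμ, Scheme.Hom.comp_apply]
  obtain ⟨s, hs, hsn⟩ := hlift (ρ z)
  rw [← hsn, show μ (pt s) = pt (s ≫ μ) from rfl, SetLike.mem_coe,
    hZ (s ≫ μ) (by rw [Category.assoc, pullback.lift_snd, ← Category.assoc, hs, Category.id_comp])]
  have hμf : (s ≫ μ) ≫ pullback.fst f₀ φW = s ≫ pullback.fst f₀ (Spec.map φ) := by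
    rw [Category.assoc, pullback.lift_fst]
  constructor
  · rintro ⟨⟨c, z', hz', hc⟩, hi⟩
    by_contra hzC
    refine hsep z' hz' z hzC ?_
    change ρ z' = ρ z
    rw [hc, ← hsn]
    refine congrArg pt (pullback.hom_ext ?_ ?_)
    · rw [pullback.lift_fst, ← hμf]; exact hi.symm
    · rw [pullback.lift_snd, hs]
  · intro hzC
    refine ⟨⟨⟨s ≫ pullback.fst _ _, by
      rw [Category.assoc, pullback.condition, ← Category.assoc, hs, Category.id_comp]⟩,
      ⟨z, hzC, ?_⟩⟩, hμf⟩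
    rw [← hsn]
    refine congrArg pt (pullback.hom_ext ?_ ?_)
    · rw [pullback.lift_fst]
    · rw [pullback.lift_snd, hs]

end Groth.Agent.Lib.EtDescent
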