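import Groth.Agent.Lib.Stein36.Data
import Groth.Agent.S0388

/-!
# Connected fibres of the Stein factorization
-/

universe u

open AlgebraicGeometry

namespace Groth.Agent.Lib.EtDescent

theorem steinConn : Stein36.Data.SteinConn.{u} :=
  fun f _ => (Groth.Agent.S0388.result f).1

end Groth.Agent.Lib.EtDescent
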