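import Groth.Agent.Lib.EtDescent.Refine

/-!
# Charts for a composite of an etale surjection and a second map
-/

set_option autoImplicit false
set_option linter.style.haveILetI false
universe u

open CategoryTheory CategoryTheory.Limits AlgebraicGeometry

namespace Groth.Agent.Lib.EtDescent

open Groth.Agent.Lib.FFDesc (IsDescended restrict tr tr_hom tr_hom_assoc tr_congr tr_self tr_tr comp_tr φ_eq_tr)

variable {T Y S : Scheme.{u}}

theorem univSubmersive_of_flat (c : T ⟶ Y) [Flat c] [LocallyOfFinitePresentation c]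
    [Surjective c] : SGA1.UnivSubmersive c := fun T' Y' i₁ i₂ c' sq ↦ by
  haveI : Flat c' := MorphismProperty.of_isPullback sq.flip ‹_›
  haveI : LocallyOfFinitePresentation c' := MorphismProperty.of_isPullback sq.flip ‹_›
  haveI : Surjective c' := MorphismProperty.of_isPullback sq.flip ‹_›
  exact c'.isOpenMap.isQuotientMap c'.continuous c'.surjective

theorem univSubmersive_comp {c : T ⟶ Y} {q : Y ⟶ S} (hc : SGA1.UnivSubmersive c)
    (hq : SGA1.UnivSubmersive q) : SGA1.UnivSubmersive (c ≫ q) := fun T' S' i₁ i₂ f sq ↦ by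
  let j : T' ⟶ pullback i₂ q := pullback.lift f (i₁ ≫ c) (by rw [sq.w, Category.assoc])
  have sqj : IsPullback j i₁ (pullback.snd i₂ q) c :=
    IsPullback.of_right (by rw [pullback.lift_fst]; exact sq) (pullback.lift_snd _ _ _)
      (IsPullback.of_hasPullback i₂ q)
  have h1 : Topology.IsQuotientMap j := hc i₁ (pullback.snd i₂ q) j sqj
  have h2 : Topology.IsQuotientMap (pullback.fst i₂ q) :=
    hq (pullback.snd i₂ q) i₂ (pullback.fst i₂ q) (IsPullback.of_hasPullback i₂ q)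
  have h3 := h2.comp h1
  rwa [show (pullback.fst i₂ q : _ → _) ∘ j = f from by
    rw [show f = j ≫ pullback.fst i₂ q from (pullback.lift_fst _ _ _).symm]; rfl] at h3

/-- Charts exist for a composite if they exist along the second map. -/
theorem enoughCharts_of_comp {c : T ⟶ Y} {q : Y ⟶ S} [Etale c] [Surjective c]
    (D : Desc.SchDD (c ≫ q)) [Etale D.obj.hom] [IsSeparated D.obj.hom]
    (H : ∀ Dq : Desc.SchDD q, Etale Dq.obj.hom → IsSeparated Dq.obj.hom → EnoughCharts Dq) :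
    EnoughCharts D := by
  let Dc := restrict D c (𝟙 T) q (Category.id_comp _).symm
  haveI : Etale Dc.obj.hom := inferInstanceAs (Etale (pullback.snd D.obj.hom (𝟙 T)))
  haveI : IsSeparated Dc.obj.hom := inferInstanceAs (IsSeparated (pullback.snd D.obj.hom (𝟙 T)))
  obtain ⟨U, π₀, hUe, hUs, -, hπ₀⟩ :=
    exists_isDescended_of_charts (D := Dc) (univSubmersive_of_flat c) enoughCharts_of_etale
  let i : D.obj.left ⟶ pullback D.obj.hom (𝟙 T) :=
    pullback.lift (𝟙 _) D.obj.hom (by rw [Category.id_comp, Category.comp_id])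
  haveI : IsIso i := ⟨pullback.fst _ _, pullback.lift_fst _ _ _, pullback.hom_ext
    (by rw [Category.assoc, pullback.lift_fst, Category.comp_id, Category.id_comp])
    (by rw [Category.assoc, pullback.lift_snd, pullback.condition, Category.comp_id,
      Category.id_comp])⟩
  let π : D.obj.left ⟶ U.left := i ≫ π₀
  have hif : i ≫ pullback.fst D.obj.hom (𝟙 T) = 𝟙 _ := pullback.lift_fst _ _ _
  have his : i ≫ pullback.snd D.obj.hom (𝟙 T) = D.obj.hom := pullback.lift_snd _ _ _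
  have sq : IsPullback D.obj.hom π c U.hom :=
    hπ₀.isPullback.of_iso (asIso i).symm (Iso.refl _) (Iso.refl _) (Iso.refl _)
      (by simp only [Iso.refl_hom, Category.comp_id, Iso.symm_hom, asIso_inv]
          exact (IsIso.eq_inv_comp i).2 his)
      (by simp only [π, Iso.symm_hom, asIso_inv, Iso.refl_hom, Category.comp_id]
          exact (IsIso.inv_hom_id_assoc i π₀).symm) (by simp) (by simp)
  have hπtr : ∀ {Z : Scheme.{u}} (v : Z ⟶ D.obj.left) (x : Z ⟶ T)
      (h : v ≫ D.obj.hom ≫ c ≫ q = x ≫ c ≫ q), v ≫ D.obj.hom ≫ c = x ≫ c →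
        tr D v x h ≫ π = v ≫ π := by
    intro Z v x h hc
    have h' : (v ≫ i) ≫ pullback.snd D.obj.hom (𝟙 T) ≫ c = x ≫ c := by
      rw [Category.assoc, pullback.lift_snd_assoc, hc]
    have e : tr Dc (v ≫ i) x h' = tr D v x h ≫ i := by
      refine pullback.hom_ext ?_ ?_
      · refine (restrict_tr_fst D c (𝟙 T) q _ _ x h' (by
          refine ((congrArg (· ≫ D.obj.hom ≫ c ≫ q) ((Category.assoc v i _).trans
            ((congrArg (v ≫ ·) hif).trans (Category.comp_id v)))).trans h).trans ?_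
          rw [Category.comp_id])).trans ?_
        refine Eq.trans ?_ (((congrArg (tr D v x h ≫ ·) hif).trans (Category.comp_id _)).symm.trans
          (Category.assoc _ _ _).symm)
        exact tr_congr D _ ((Category.assoc v i _).trans
          ((congrArg (v ≫ ·) hif).trans (Category.comp_id v))) (Category.comp_id _)
      · refine (tr_hom Dc _ _ h').trans ?_
        exact ((Category.assoc _ _ _).trans ((congrArg (tr D v x h ≫ ·) his).trans
          (tr_hom D _ _ _))).symm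
    exact (Category.assoc _ _ _).symm.trans ((congrArg (· ≫ π₀) e.symm).trans
      ((hπ₀.tr_comp Dc _ _ h').trans (Category.assoc _ _ _)))
  clear_value π
  haveI : Etale π := MorphismProperty.of_isPullback sq ‹Etale c›
  haveI : Surjective π := MorphismProperty.of_isPullback sq ‹Surjective c›
  have hπU : π ≫ U.hom = D.obj.hom ≫ c := sq.w.symm
  have hker : ∀ {Z : Scheme.{u}} (a a' : Z ⟶ D.obj.left), a ≫ π = a' ≫ π →
      ∃ h, tr D a (a' ≫ D.obj.hom) h = a' := fun a a' e ↦ by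
    have hc : a ≫ D.obj.hom ≫ c = (a' ≫ D.obj.hom) ≫ c := by
      rw [← hπU, reassoc_of% e, Category.assoc, hπU]
    have h : a ≫ D.obj.hom ≫ c ≫ q = (a' ≫ D.obj.hom) ≫ c ≫ q := by
      simpa only [Category.assoc] using congr($hc ≫ q)
    exact ⟨h, sq.hom_ext (tr_hom D _ _ _) ((hπtr a _ h hc).trans e)⟩
  -- the transport on the descended scheme
  have haux : ∀ {Z Z' : Scheme.{u}} {v : Z ⟶ U.left} {y : Z ⟶ Y}, v ≫ U.hom ≫ q = y ≫ q →
      ∀ {k : Z' ⟶ Z} {a : Z' ⟶ D.obj.left} {b : Z' ⟶ T}, a ≫ π = k ≫ v → b ≫ c = k ≫ y →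
        a ≫ D.obj.hom ≫ c ≫ q = b ≫ c ≫ q := fun h k a b ha hb ↦ by
    rw [← reassoc_of% hπU, reassoc_of% ha, reassoc_of% hb, h]
  have hdesc : ∀ {Z : Scheme.{u}} (v : Z ⟶ U.left) (y : Z ⟶ Y) (h : v ≫ U.hom ≫ q = y ≫ q),
      ∃ w : Z ⟶ U.left, w ≫ U.hom = y ∧ ∀ {Z' : Scheme.{u}} (k : Z' ⟶ Z) (a : Z' ⟶ D.obj.left)
        (b : Z' ⟶ T) (ha : a ≫ π = k ≫ v) (hb : b ≫ c = k ≫ y),
        k ≫ w = tr D a b (haux h ha hb) ≫ π := by
    intro Z v y h
    let k₁ := pullback.fst v π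
    let k₂ := pullback.fst (k₁ ≫ y) c
    let k := k₂ ≫ k₁
    let a := k₂ ≫ pullback.snd v π
    let b := pullback.snd (k₁ ≫ y) c
    have ha : a ≫ π = k ≫ v := by simp only [a, k, k₁, Category.assoc, pullback.condition]
    have hb : b ≫ c = k ≫ y := by
      simp only [b, k, k₂, Category.assoc]
      exact pullback.condition.symm
    haveI : Surjective k₁ := inferInstanceAs (Surjective (pullback.fst v π))
    haveI : Surjective k₂ := inferInstanceAs (Surjective (pullback.fst _ c))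
    haveI : Etale k₁ := inferInstanceAs (Etale (pullback.fst v π))
    haveI : Etale k₂ := inferInstanceAs (Etale (pullback.fst _ c))
    haveI : Etale k := inferInstanceAs (Etale (k₂ ≫ k₁))
    haveI : Surjective k := inferInstanceAs (Surjective (k₂ ≫ k₁))
    have hind : ∀ {Z' : Scheme.{u}} (a a' : Z' ⟶ D.obj.left) (b b' : Z' ⟶ T) (h₁ h₂),
        a ≫ π = a' ≫ π → b ≫ c = b' ≫ c → tr D a b h₁ ≫ π = tr D a' b' h₂ ≫ π := by
      intro Z' a a' b b' h₁ h₂ e e'
      obtain ⟨h', e''⟩ := hker a a' e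
      have h₃ : a ≫ D.obj.hom ≫ c ≫ q = b' ≫ c ≫ q := by rw [h₁, reassoc_of% e']
      have h₄ : tr D a' b' h₂ = tr D a b' h₃ :=
        (tr_congr D _ e''.symm rfl).trans (tr_tr D _ _ _ _ _)
      have h₅ : tr D a b h₁ ≫ D.obj.hom ≫ c ≫ q = b' ≫ c ≫ q := by
        rw [tr_hom_assoc, reassoc_of% e']
      have h₆ : tr D (tr D a b h₁) b' h₅ = tr D a b' h₃ := tr_tr D _ _ _ _ _
      rw [h₄, ← h₆, hπtr _ _ h₅ (by rw [tr_hom_assoc, e'])]
    haveI := (FFDesc.fpqcCover_of_lfp k).effectiveEpi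
    have hkdef : k = k₂ ≫ k₁ := rfl
    have hadef : a = k₂ ≫ pullback.snd v π := rfl
    have hbdef : b = pullback.snd (k₁ ≫ y) c := rfl
    clear_value k a b
    have hk : ∀ {Z' : Scheme.{u}} (m m' : Z' ⟶ pullback (k₁ ≫ y) c), m ≫ k = m' ≫ k →
        m ≫ tr D a b (haux h ha hb) ≫ π = m' ≫ tr D a b (haux h ha hb) ≫ π := by
      intro Z' m m' e
      rw [← Category.assoc m, ← Category.assoc m', comp_tr, comp_tr]
      refine hind _ _ _ _ _ _ ?_ ?_
      · rw [Category.assoc, Category.assoc, ha, reassoc_of% e]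
      · rw [Category.assoc, Category.assoc, hb, reassoc_of% e]
    refine ⟨EffectiveEpi.desc k _ hk, ?_, fun {Z'} l a' b' ha' hb' ↦ ?_⟩
    · rw [← cancel_epi k, EffectiveEpi.fac_assoc, Category.assoc, hπU, tr_hom_assoc, hb]
    · have e₁ : a' ≫ π = l ≫ v := ha'
      let m₁ : Z' ⟶ pullback v π := pullback.lift l a' e₁.symm
      let m : Z' ⟶ pullback (k₁ ≫ y) c := pullback.lift m₁ b' (by
        rw [pullback.lift_fst_assoc, hb'])
      have hm : m ≫ k = l := by
        simp only [hkdef, m, m₁, k₁, k₂, pullback.lift_fst_assoc, pullback.lift_fst]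
      refine (congrArg (fun x ↦ x ≫ _) hm.symm).trans ((Category.assoc _ _ _).trans
        ((congrArg (m ≫ ·) (EffectiveEpi.fac k _ hk)).trans ?_))
      rw [← Category.assoc, comp_tr]
      refine hind _ _ _ _ _ _ ?_ ?_
      · simp only [hadef, m, m₁, k₂, pullback.lift_fst_assoc, pullback.lift_snd]
      · simp only [hbdef, m, pullback.lift_snd]
  choose w hw hspec using @hdesc
  -- uniqueness
  have huniq : ∀ {Z : Scheme.{u}} (v : Z ⟶ U.left) (y : Z ⟶ Y) (h : v ≫ U.hom ≫ q = y ≫ q)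
      (x : Z ⟶ U.left), (∀ {Z' : Scheme.{u}} (k : Z' ⟶ Z) (a : Z' ⟶ D.obj.left)
        (b : Z' ⟶ T) (ha : a ≫ π = k ≫ v) (hb : b ≫ c = k ≫ y),
        k ≫ x = tr D a b (haux h ha hb) ≫ π) → x = w v y h := by
    intro Z v y h x hx
    let k₁ := pullback.fst v π
    let k₂ := pullback.fst (k₁ ≫ y) c
    haveI : Surjective (k₂ ≫ k₁) := inferInstanceAs (Surjective (pullback.fst _ c ≫ pullback.fst v π))
    haveI : Etale (k₂ ≫ k₁) := inferInstanceAs (Etale (pullback.fst _ c ≫ pullback.fst v π))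
    haveI := (FFDesc.fpqcCover_of_lfp (k₂ ≫ k₁)).effectiveEpi
    have ha : (k₂ ≫ pullback.snd v π) ≫ π = (k₂ ≫ k₁) ≫ v := by
      simp only [k₁, Category.assoc, pullback.condition]
    have hb : pullback.snd (k₁ ≫ y) c ≫ c = (k₂ ≫ k₁) ≫ y := by
      rw [Category.assoc]
      exact pullback.condition.symm
    rw [← cancel_epi (k₂ ≫ k₁), hx _ _ _ ha hb, hspec v y h _ _ _ ha hb]
  have hv : ∀ {Z : Scheme.{u}} {y₀ y₁ : Z ⟶ Y}, y₀ ≫ q = y₁ ≫ q → ∀ v : Desc.Lifts U y₀,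
      v.1 ≫ U.hom ≫ q = y₁ ≫ q := fun h v ↦ by rw [← Category.assoc, v.2, h]
  have hself : ∀ {Z : Scheme.{u}} (v : Z ⟶ U.left) (y : Z ⟶ Y) (h), v ≫ U.hom = y →
      w v y h = v := fun v y h e ↦ by
    refine (huniq v y h v fun k a b ha hb ↦ ?_).symm
    rw [hπtr a b _ (by rw [← hπU, reassoc_of% ha, hb, e]), ha]
  have hcomp : ∀ {Z : Scheme.{u}} (v : Z ⟶ U.left) (y₁ y₂ : Z ⟶ Y) (h₁) (h₂) (h₃),
      w (w v y₁ h₁) y₂ h₂ = w v y₂ h₃ := fun {Z} v y₁ y₂ h₁ h₂ h₃ ↦ by
    refine huniq v y₂ h₃ _ fun {Z'} k a b ha hb ↦ ?_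
    let l := pullback.fst (k ≫ y₁) c
    haveI : Etale l := inferInstanceAs (Etale (pullback.fst _ c))
    haveI : Surjective l := inferInstanceAs (Surjective (pullback.fst _ c))
    haveI := (FFDesc.fpqcCover_of_lfp l).effectiveEpi
    have ha₁ : (l ≫ a) ≫ π = (l ≫ k) ≫ v := by rw [Category.assoc, ha, Category.assoc]
    have hb₁ : pullback.snd (k ≫ y₁) c ≫ c = (l ≫ k) ≫ y₁ := by
      rw [Category.assoc]
      exact pullback.condition.symm
    have hb₂ : (l ≫ b) ≫ c = (l ≫ k) ≫ y₂ := by rw [Category.assoc, hb, Category.assoc]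
    rw [← cancel_epi l, ← Category.assoc,
      hspec _ _ h₂ (l ≫ k) (tr D (l ≫ a) (pullback.snd (k ≫ y₁) c) (haux h₁ ha₁ hb₁)) (l ≫ b)
        (hspec v y₁ h₁ _ _ _ ha₁ hb₁).symm hb₂, tr_tr]
    rw [← Category.assoc l, comp_tr]
  let E : ∀ {Z : Scheme.{u}} (y₀ y₁ : Z ⟶ Y), y₀ ≫ q = y₁ ≫ q →
      (Desc.Lifts U y₀ ≃ Desc.Lifts U y₁) := fun y₀ y₁ h ↦
    { toFun := fun v ↦ ⟨w v.1 y₁ (hv h v), hw _ _ _⟩
      invFun := fun v ↦ ⟨w v.1 y₀ (hv h.symm v), hw _ _ _⟩
      left_inv := fun v ↦ Subtype.ext ((hcomp _ _ _ _ _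
        (by rw [← Category.assoc, v.2])).trans (hself _ _ _ v.2))
      right_inv := fun v ↦ Subtype.ext ((hcomp _ _ _ _ _
        (by rw [← Category.assoc, v.2])).trans (hself _ _ _ v.2)) }
  let Dq : Desc.SchDD q :=
    { obj := U
      φ := fun Z ↦ E
      φ_natural := fun Z Z' g y₀ y₁ h h' v v' hv' ↦ by
        change w v'.1 (g ≫ y₁) _ = g ≫ w v.1 y₁ _
        refine (huniq _ _ _ _ fun {Z''} k a b ha hb ↦ ?_).symm
        rw [← Category.assoc]
        exact hspec v.1 y₁ _ (k ≫ g) a b (by rw [ha, hv', Category.assoc])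
          (by rw [hb, Category.assoc])
      φ_self := fun Z y v ↦ Subtype.ext (hself _ _ _ v.2)
      φ_comp := fun Z y₀ y₁ y₂ h₀₁ h₁₂ v ↦ Subtype.ext (hcomp _ _ _ _ _ _) }
  have htr : ∀ {Z : Scheme.{u}} (v : Z ⟶ U.left) (y : Z ⟶ Y) (h : v ≫ U.hom ≫ q = y ≫ q),
      tr Dq v y h = w v y h := fun v y h ↦
    (φ_eq_tr Dq (v ≫ U.hom) y ((Category.assoc _ _ _).trans h) ⟨v, rfl⟩).symm
  -- charts
  intro x
  obtain ⟨C, z, hz⟩ := H Dq hUe hUs (π x)
  let j : pullback (c ≫ q) C.e ⟶ pullback q C.e :=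
    pullback.lift (pullback.fst _ _ ≫ c) (pullback.snd _ _)
      (by rw [Category.assoc, pullback.condition])
  have hj : j ≫ pullback.fst q C.e = pullback.fst (c ≫ q) C.e ≫ c := pullback.lift_fst _ _ _
  have hjσ : pullback.fst (c ≫ q) C.e ≫ c = (j ≫ C.σ) ≫ U.hom := by
    rw [Category.assoc]
    exact hj.symm.trans (congrArg (j ≫ ·) C.σ_hom.symm)
  let σ := sq.lift (pullback.fst (c ≫ q) C.e) (j ≫ C.σ) hjσ
  have hσ₁ : σ ≫ D.obj.hom = pullback.fst (c ≫ q) C.e := sq.lift_fst _ _ _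
  have hσ₂ : σ ≫ π = j ≫ C.σ := sq.lift_snd _ _ _
  refine ⟨⟨C.V, C.e, C.etale, σ, hσ₁, fun Z a b e ↦ ?_⟩, ?_⟩
  · refine sq.hom_ext (by rw [tr_hom, Category.assoc, hσ₁]) ?_
    have hh : (a ≫ j) ≫ pullback.snd q C.e = (b ≫ j) ≫ pullback.snd q C.e := by
      simp only [j, Category.assoc, pullback.lift_snd, e]
    have hd : (a ≫ j ≫ C.σ) ≫ U.hom ≫ q = ((b ≫ j) ≫ pullback.fst q C.e) ≫ q := by
      have := chart_aux Dq C.σ_hom (a ≫ j) (b ≫ j) hh
      simpa only [Category.assoc] using this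
    have key : w (a ≫ j ≫ C.σ) ((b ≫ j) ≫ pullback.fst q C.e) hd = (b ≫ j) ≫ C.σ := by
      rw [← htr]
      exact (tr_congr Dq _ (Category.assoc _ _ _).symm rfl).trans (C.inv (a ≫ j) (b ≫ j) hh)
    have := hspec (a ≫ j ≫ C.σ) ((b ≫ j) ≫ pullback.fst q C.e) hd (𝟙 Z) (a ≫ σ)
      (b ≫ pullback.fst (c ≫ q) C.e) (by rw [Category.id_comp, Category.assoc, hσ₂])
      (by rw [Category.id_comp, Category.assoc, Category.assoc, hj])
    rw [Category.id_comp, key] at this
    rw [Category.assoc, hσ₂, ← Category.assoc b]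
    exact this.symm
  · have sq₁ : IsPullback j (pullback.fst (c ≫ q) C.e) (pullback.fst q C.e) c :=
      IsPullback.of_right (by rw [pullback.lift_snd]; exact (IsPullback.of_hasPullback _ _).flip)
        hj (IsPullback.of_hasPullback q C.e).flip
    have sq₂ : IsPullback j σ C.σ π :=
      IsPullback.of_bot (by rw [hσ₁, show C.σ ≫ U.hom = _ from C.σ_hom]; exact sq₁) hσ₂.symm
        sq.flip
    obtain ⟨t, -, ht⟩ := Scheme.exists_preimage_of_isPullback sq₂ z x hz
    exact ⟨t, ht⟩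

end Groth.Agent.Lib.EtDescent
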