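import Mathlib.RingTheory.Localization.AtPrime.Basic
import Mathlib.RingTheory.Ideal.Pointwise
import Mathlib.Algebra.Ring.Action.Invariant
import Mathlib.Algebra.Ring.Subring.Basic
import Mathlib.GroupTheory.GroupAction.Quotient
import Mathlib.Algebra.Polynomial.BigOperators
import Mathlib.Algebra.Polynomial.GroupRingAction
import Mathlib.RingTheory.LocalRing.RingHom.Basic
import Groth.Prelude.Def_SGA1

/-!
# Local rings of invariants of subgroups containing the decomposition group
-/

set_option autoImplicit false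
universe u
open scoped Pointwise
open Polynomial

namespace Groth.Agent.Lib.EtDescent.DecompInvariants

variable {G R : Type u} [Group G] [Finite G] [CommRing R] [MulSemiringAction G R]
  (H : Subgroup G)

/-- The conjugate of an invariant element by a coset. -/
noncomputable def conj (c : G ⧸ H) : FixedPoints.subring R H →+* R :=
  (MulSemiringAction.toRingHom G R c.out).comp (FixedPoints.subring R H).subtype

theorem conj_mk (g : G) (b : FixedPoints.subring R H) : conj H (g : G ⧸ H) b = g • (b : R) := by
  obtain ⟨h, hh⟩ := QuotientGroup.mk_out_eq_mul H g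
  change (g : G ⧸ H).out • (b : R) = _
  rw [hh, mul_smul]
  congr 1
  exact b.2 h

theorem conj_one (b : FixedPoints.subring R H) : conj H ((1 : G) : G ⧸ H) b = (b : R) := by
  rw [conj_mk, one_smul]

theorem smul_conj (g : G) (c : G ⧸ H) (b : FixedPoints.subring R H) :
    g • conj H c b = conj H (g • c) b := by
  obtain ⟨k, rfl⟩ := QuotientGroup.mk_surjective c
  rw [show g • (k : G ⧸ H) = ((g * k : G) : G ⧸ H) from rfl, conj_mk, conj_mk, mul_smul]

variable (hle : FixedPoints.subring R G ≤ FixedPoints.subring R H)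

theorem conj_inclusion (c : G ⧸ H) (a : FixedPoints.subring R G) :
    conj H c (Subring.inclusion hle a) = (a : R) :=
  a.2 c.out

theorem sum_conj_mem [Fintype (G ⧸ H)] (b : FixedPoints.subring R H) :
    ∑ c : G ⧸ H, conj H c b ∈ FixedPoints.subring R G := fun g ↦ by
  simp only [Finset.smul_sum, smul_conj]
  exact Equiv.sum_comp (MulAction.toPerm g) fun c ↦ conj H c b

/-- The trace to the invariants. -/
noncomputable def trc [Fintype (G ⧸ H)] (b : FixedPoints.subring R H) : FixedPoints.subring R G :=
  ⟨∑ c : G ⧸ H, conj H c b, sum_conj_mem H b⟩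

theorem trc_add [Fintype (G ⧸ H)] (a b : FixedPoints.subring R H) :
    trc H (a + b) = trc H a + trc H b :=
  Subtype.ext (by simp [trc, Finset.sum_add_distrib])

theorem trc_inclusion_mul [Fintype (G ⧸ H)] (a : FixedPoints.subring R G)
    (b : FixedPoints.subring R H) : trc H (Subring.inclusion hle a * b) = a * trc H b :=
  Subtype.ext (by simp [trc, map_mul, conj_inclusion H hle, Finset.mul_sum])

variable (q : Ideal R) [q.IsPrime]

/-- An element which is a unit at the prime and vanishes at the other conjugates. -/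
def Good (z : FixedPoints.subring R H) : Prop :=
  (z : R) ∉ q ∧ ∀ c : G ⧸ H, c ≠ ((1 : G) : G ⧸ H) → conj H c z ∈ q

theorem Good.trc_sub_mem [Fintype (G ⧸ H)] {z : FixedPoints.subring R H}
    (hz : ∀ c : G ⧸ H, c ≠ ((1 : G) : G ⧸ H) → conj H c z ∈ q) : (trc H z : R) - z ∈ q := by
  classical
  change ∑ c : G ⧸ H, conj H c z - (z : R) ∈ q
  rw [Finset.sum_eq_add_sum_sdiff_singleton_of_mem (Finset.mem_univ ((1 : G) : G ⧸ H)), conj_one,
    add_sub_cancel_left]
  exact Ideal.sum_mem _ fun c hc ↦ hz c (Finset.notMem_singleton.mp (Finset.mem_sdiff.mp hc).2)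

omit [q.IsPrime] in
theorem eq_of_smul_le {g : G} (h : g • q ≤ q) : g • q = q := by
  refine le_antisymm h ?_
  have key : ∀ n : ℕ, g ^ n • q ≤ q := fun n ↦ by
    induction n with
    | zero => simp
    | succ n ih =>
      rw [pow_succ', mul_smul]
      exact (Ideal.pointwise_smul_le_pointwise_smul_iff.mpr ih).trans h
  have hn := key (orderOf g - 1)
  have := Ideal.pointwise_smul_le_pointwise_smul_iff (a := g) |>.mpr hn
  rwa [← mul_smul, ← pow_succ', Nat.sub_add_cancel (orderOf_pos g), pow_orderOf_eq_one,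
    one_smul] at this

theorem exists_good (hD : MulAction.stabilizer G q ≤ H) :
    ∃ z : FixedPoints.subring R H, Good H q z := by
  classical
  haveI := Fintype.ofFinite G
  haveI := Fintype.ofFinite H
  let J : Ideal R := (Finset.univ.filter fun g : G ↦ g ∉ H).inf fun g ↦ g⁻¹ • q
  have hJ : ¬ (J : Set R) ⊆ ⋃ h ∈ (↑(Finset.univ : Finset H) : Set H), ((h : G)⁻¹ • q : Ideal R) := by
    intro hsub
    obtain ⟨h, -, hh⟩ := (Ideal.subset_union_prime (1 : H) (1 : H) fun h _ _ _ ↦
      inferInstanceAs (((h : G)⁻¹ • q : Ideal R).IsPrime)).mp hsub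
    obtain ⟨g, hg, hgh⟩ := (Ideal.IsPrime.inf_le'
      (inferInstanceAs (((h : G)⁻¹ • q : Ideal R).IsPrime))).mp hh
    have := (eq_of_smul_le q (g := (h : G) * g⁻¹) (by
      rw [mul_smul]
      exact (Ideal.pointwise_smul_le_pointwise_smul_iff (a := (h : G))).mpr hgh |>.trans (by
        rw [smul_inv_smul])))
    have hmem := hD (MulAction.mem_stabilizer_iff.mpr this)
    refine (Finset.mem_filter.mp hg).2 ?_
    have h2 := H.mul_mem (H.inv_mem hmem) h.2
    simpa using h2
  obtain ⟨w, hwJ, hw⟩ := Set.not_subset.mp hJ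
  have hwJ' : ∀ g : G, g ∉ H → g • w ∈ q := fun g hg ↦ by
    have := (Finset.inf_le (Finset.mem_filter.mpr ⟨Finset.mem_univ g, hg⟩) : J ≤ g⁻¹ • q) hwJ
    rwa [Ideal.mem_inv_pointwise_smul_iff] at this
  have hw' : ∀ h : H, (h : G) • w ∉ q := fun h hh ↦ hw (Set.mem_biUnion (Finset.mem_coe.mpr
    (Finset.mem_univ h)) (Ideal.mem_inv_pointwise_smul_iff.mpr hh))
  refine ⟨⟨∏ h : H, (h : G) • w, fun k ↦ ?_⟩, ?_, fun c hc ↦ ?_⟩
  · change (k : G) • ∏ h : H, (h : G) • w = _
    rw [Finset.smul_prod']
    refine (Finset.prod_congr rfl fun h _ ↦ ?_).trans (Equiv.prod_comp (Equiv.mulLeft k) fun h : H ↦ (h : G) • w)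
    rw [← mul_smul]; rfl
  · intro hmem
    obtain ⟨h, -, hh⟩ := (‹q.IsPrime›.prod_mem_iff).mp hmem
    exact hw' h hh
  · obtain ⟨g, rfl⟩ := QuotientGroup.mk_surjective c
    rw [conj_mk]
    change g • ∏ h : H, (h : G) • w ∈ q
    rw [Finset.smul_prod']
    refine (‹q.IsPrime›.prod_mem_iff).mpr ⟨1, Finset.mem_univ _, ?_⟩
    rw [Subgroup.coe_one, one_smul]
    refine hwJ' g fun hg ↦ hc ?_
    exact QuotientGroup.eq.mpr (by simpa using hg)

/-- The prime of the intermediate invariants. -/
abbrev q' : Ideal (FixedPoints.subring R H) := Ideal.comap (FixedPoints.subring R H).subtype q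

/-- The prime of the invariants. -/
abbrev pG : Ideal (FixedPoints.subring R G) := Ideal.comap (Subring.inclusion hle) (q' H q)

/-- The map of local rings. -/
noncomputable abbrev φ : Localization.AtPrime (pG H hle q) →+* Localization.AtPrime (q' H q) :=
  Localization.localRingHom (pG H hle q) (q' H q) (Subring.inclusion hle) rfl

/-- The extended maximal ideal. -/
noncomputable abbrev J : Ideal (Localization.AtPrime (q' H q)) :=
  (IsLocalRing.maximalIdeal (Localization.AtPrime (pG H hle q))).map (φ H hle q)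

theorem φ_algebraMap (a : FixedPoints.subring R G) :
    φ H hle q (algebraMap _ _ a) =
      algebraMap (FixedPoints.subring R H) _ (Subring.inclusion hle a) :=
  Localization.localRingHom_to_map _ _ _ _ _

theorem algebraMap_inclusion_mem_J {a : FixedPoints.subring R G} (ha : (a : R) ∈ q) :
    algebraMap (FixedPoints.subring R H) (Localization.AtPrime (q' H q)) (Subring.inclusion hle a) ∈
      J H hle q := by
  rw [← φ_algebraMap H hle q]
  exact Ideal.mem_map_of_mem _
    ((IsLocalization.AtPrime.to_map_mem_maximal_iff _ (pG H hle q) a).mpr ha)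

theorem sub_trc_mem_J [Fintype (G ⧸ H)] {z : FixedPoints.subring R H} (hz : Good H q z) :
    algebraMap (FixedPoints.subring R H) (Localization.AtPrime (q' H q)) z -
      φ H hle q (algebraMap _ _ (trc H z)) ∈ J H hle q := by
  classical
  nontriviality R
  let c₁ : G ⧸ H := ((1 : G) : G ⧸ H)
  let F : R[X] := ∏ c : G ⧸ H, (X - C (conj H c z))
  have hfix : ∀ i, F.coeff i ∈ FixedPoints.subring R G := fun i g ↦ by
    have hg : F.map (MulSemiringAction.toRingHom G R g) = F := by
      simp only [F, Polynomial.map_prod, Polynomial.map_sub, map_X, map_C,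
        MulSemiringAction.toRingHom_apply, smul_conj]
      exact Equiv.prod_comp (MulAction.toPerm g) fun c ↦ X - C (conj H c z)
    conv_rhs => rw [← hg, coeff_map]
    rfl
  let a : ℕ → FixedPoints.subring R G := fun i ↦ ⟨F.coeff i, hfix i⟩
  obtain ⟨r, hr⟩ : ∃ r, Fintype.card (G ⧸ H) = r + 1 :=
    ⟨_, (Nat.succ_pred_eq_of_pos Fintype.card_pos).symm⟩
  have hdeg : F.natDegree = r + 1 := by
    rw [natDegree_prod_of_monic _ _ fun c _ ↦ monic_X_sub_C _]
    simp [hr]
  have hmon : F.Monic := monic_prod_of_monic _ _ fun c _ ↦ monic_X_sub_C _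
  have hlow : ∀ i < r, (a i : R) ∈ q := fun i hi ↦ by
    have hmap : F.map (Ideal.Quotient.mk q) =
        (X - C (Ideal.Quotient.mk q (z : R))) * X ^ r := by
      simp only [F, Polynomial.map_prod, Polynomial.map_sub, map_X, map_C]
      rw [← Finset.mul_prod_erase _ _ (Finset.mem_univ c₁), conj_one]
      congr 1
      rw [Finset.prod_congr rfl fun c hc ↦ show X - C (Ideal.Quotient.mk q (conj H c z)) = X by
        rw [Ideal.Quotient.eq_zero_iff_mem.mpr (hz.2 c (Finset.mem_erase.mp hc).1), map_zero,
          sub_zero], Finset.prod_const, Finset.card_erase_of_mem (Finset.mem_univ _),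
        Finset.card_univ, hr, Nat.add_sub_cancel]
    have := congrArg (fun P ↦ coeff P i) hmap
    simp only [coeff_map, sub_mul, coeff_sub, coeff_C_mul, coeff_X_pow, coeff_X_pow, ← pow_succ',
      hi.ne, if_neg, show i ≠ r + 1 by omega, if_false, mul_zero, sub_zero] at this
    exact Ideal.Quotient.eq_zero_iff_mem.mp this
  have htop : a (r + 1) = 1 := Subtype.ext (by
    change F.coeff (r + 1) = 1
    rw [← hdeg]
    exact hmon)
  have hnext : a r = - trc H z := Subtype.ext (by
    have := prod_X_sub_C_nextCoeff (s := (Finset.univ : Finset (G ⧸ H))) fun c ↦ conj H c z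
    rw [show nextCoeff (∏ c : G ⧸ H, (X - C (conj H c z))) = F.coeff r by
      change F.nextCoeff = _
      rw [nextCoeff_of_natDegree_pos (by omega), hdeg, Nat.add_sub_cancel]] at this
    exact this)
  have heval : ∑ i ∈ Finset.range (r + 2), Subring.inclusion hle (a i) * z ^ i = 0 := by
    apply Subtype.ext
    simp only [AddSubmonoidClass.coe_finsetSum, MulMemClass.coe_mul, SubmonoidClass.coe_pow,
      ZeroMemClass.coe_zero]
    rw [show ∑ i ∈ Finset.range (r + 2), ((Subring.inclusion hle (a i) : _) : R) * (z : R) ^ i =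
      F.eval (z : R) by rw [eval_eq_sum_range, hdeg]; rfl]
    simp only [F, eval_prod, eval_sub, eval_X, eval_C]
    exact Finset.prod_eq_zero (Finset.mem_univ c₁) (by rw [conj_one, sub_self])
  let ψ := algebraMap (FixedPoints.subring R H) (Localization.AtPrime (q' H q))
  have h := congrArg ψ heval
  rw [map_zero, Finset.sum_range_succ, Finset.sum_range_succ, htop, hnext] at h
  simp only [map_add, map_sum, map_mul, map_pow, map_neg, map_one, one_mul] at h
  have hlowJ : ∑ i ∈ Finset.range r, ψ (Subring.inclusion hle (a i)) * ψ z ^ i ∈ J H hle q :=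
    Ideal.sum_mem _ fun i hi ↦ Ideal.mul_mem_right _ _
      (algebraMap_inclusion_mem_J H hle q (hlow i (Finset.mem_range.mp hi)))
  have hu : IsUnit (ψ z) := IsLocalization.map_units _ (⟨z, hz.1⟩ : (q' H q).primeCompl)
  refine (Ideal.unit_mul_mem_iff_mem _ (hu.pow r)).mp ?_
  rw [φ_algebraMap]
  have e : ψ z ^ r * (ψ z - ψ (Subring.inclusion hle (trc H z))) =
      -(∑ i ∈ Finset.range r, ψ (Subring.inclusion hle (a i)) * ψ z ^ i) := by
    linear_combination h
  rw [e]
  exact neg_mem hlowJ

theorem exists_sub_mem_J (hD : MulAction.stabilizer G q ≤ H)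
    (y : Localization.AtPrime (q' H q)) :
    ∃ a, y - φ H hle q a ∈ J H hle q := by
  classical
  haveI := Fintype.ofFinite (G ⧸ H)
  obtain ⟨z, hz⟩ := exists_good H q hD
  let ψ := algebraMap (FixedPoints.subring R H) (Localization.AtPrime (q' H q))
  let ι := algebraMap (FixedPoints.subring R G) (Localization.AtPrime (pG H hle q))
  have hgood : ∀ x : FixedPoints.subring R H, (x : R) ∉ q → Good H q (z * x) := fun x hx ↦
    ⟨fun h ↦ (‹q.IsPrime›.mem_or_mem h).elim hz.1 hx, fun c hc ↦ by
      rw [map_mul]; exact Ideal.mul_mem_right _ _ (hz.2 c hc)⟩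
  have hmain : ∀ x, ψ (z * x) - φ H hle q (ι (trc H (z * x))) ∈ J H hle q := fun x ↦ by
    by_cases hx : (x : R) ∈ q
    · have h1 := sub_trc_mem_J H hle q (hgood (1 + x) fun h ↦ ‹q.IsPrime›.one_notMem (by
        have := sub_mem h hx
        simpa using this))
      have h2 := sub_trc_mem_J H hle q hz
      convert sub_mem h1 h2 using 1
      simp only [ψ, ι, mul_add, mul_one, trc_add, map_add]
      ring
    · exact sub_trc_mem_J H hle q (hgood x hx)
  obtain ⟨⟨x, s⟩, hy⟩ := IsLocalization.surj (q' H q).primeCompl y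
  have hs : (s : FixedPoints.subring R H).1 ∉ q := s.2
  have hβ : IsUnit (ι (trc H (z * (s : FixedPoints.subring R H)))) := by
    refine IsLocalization.map_units _ (⟨_, fun hmem ↦ ?_⟩ : (pG H hle q).primeCompl)
    have h1 := Good.trc_sub_mem H q (hgood _ hs).2
    exact (hgood _ hs).1 (by
      have := sub_mem (show (trc H (z * (s : FixedPoints.subring R H)) : R) ∈ q from hmem) h1
      simpa using this)
  obtain ⟨u, hu⟩ := hβ.exists_left_inv
  refine ⟨ι (trc H (z * x)) * u, ?_⟩
  refine (Ideal.unit_mul_mem_iff_mem _ (hβ.map (φ H hle q))).mp ?_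
  have h1 := hmain x
  have h2 := Ideal.mul_mem_left _ y (hmain s)
  have hu' : φ H hle q (ι (trc H (z * (s : FixedPoints.subring R H)))) * φ H hle q u = 1 := by
    rw [← map_mul, mul_comm, hu, map_one]
  have hyz : ψ (z * x) = y * ψ (z * (s : FixedPoints.subring R H)) := by
    rw [map_mul, map_mul, ← hy]; ring
  convert sub_mem h1 h2 using 1
  rw [map_mul, hyz]
  linear_combination -(φ H hle q (ι (trc H (z * x)))) * hu'

theorem J_eq (hD : MulAction.stabilizer G q ≤ H) :
    J H hle q = IsLocalRing.maximalIdeal (Localization.AtPrime (q' H q)) := by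
  haveI : IsLocalHom (φ H hle q) := Localization.isLocalHom_localRingHom _ _ _ _
  have h1 : J H hle q ≤ IsLocalRing.maximalIdeal _ :=
    Ideal.map_le_iff_le_comap.mpr fun a ha hu ↦ ha (isUnit_of_map_unit (φ H hle q) a hu)
  refine le_antisymm h1 fun y hy ↦ ?_
  obtain ⟨a, ha⟩ := exists_sub_mem_J H hle q hD y
  have hφa : φ H hle q a ∈ IsLocalRing.maximalIdeal _ := by simpa using sub_mem hy (h1 ha)
  have ham : a ∈ IsLocalRing.maximalIdeal _ := fun hu ↦ hφa (hu.map (φ H hle q))
  simpa using add_mem ha (Ideal.mem_map_of_mem (φ H hle q) ham)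

theorem exists_sub_mem_pow (hD : MulAction.stabilizer G q ≤ H) (n : ℕ)
    (y : Localization.AtPrime (q' H q)) : ∃ a, y - φ H hle q a ∈ J H hle q ^ n := by
  induction n generalizing y with
  | zero => exact ⟨0, by simp⟩
  | succ n ih =>
    obtain ⟨a, ha⟩ := ih y
    suffices ∀ j ∈ J H hle q ^ n, ∃ b, j - φ H hle q b ∈ J H hle q ^ (n + 1) by
      obtain ⟨b, hb⟩ := this _ ha
      exact ⟨a + b, by rwa [map_add, ← sub_sub]⟩
    intro j hj
    rw [← Ideal.map_pow, Ideal.map] at hj
    induction hj using Submodule.span_induction with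
    | mem x hx =>
      obtain ⟨c, -, rfl⟩ := hx
      exact ⟨c, by simp⟩
    | zero => exact ⟨0, by simp⟩
    | add x x' _ _ hx hx' =>
      obtain ⟨b, hb⟩ := hx
      obtain ⟨b', hb'⟩ := hx'
      exact ⟨b + b', by rw [map_add, add_sub_add_comm]; exact add_mem hb hb'⟩
    | smul r x hmem hx =>
      obtain ⟨b, hb⟩ := hx
      obtain ⟨r', hr'⟩ := exists_sub_mem_J H hle q hD r
      refine ⟨r' * b, ?_⟩
      have hxn : x ∈ J H hle q ^ n := by
        rw [← Ideal.map_pow, Ideal.map]; exact hmem
      rw [pow_succ'] at hb ⊢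
      convert add_mem (Ideal.mul_mem_mul hr' hxn)
        (Ideal.mul_mem_left _ (φ H hle q r') hb) using 1
      rw [map_mul, smul_eq_mul]; ring

theorem comap_pow (hD : MulAction.stabilizer G q ≤ H) (n : ℕ) :
    Ideal.comap (φ H hle q) (J H hle q ^ n) =
      IsLocalRing.maximalIdeal (Localization.AtPrime (pG H hle q)) ^ n := by
  classical
  haveI := Fintype.ofFinite (G ⧸ H)
  refine le_antisymm (fun a ha ↦ ?_) (Ideal.le_comap_pow _ n |>.trans' ?_)
  · obtain ⟨z, hz⟩ := exists_good H q hD
    obtain ⟨⟨α, s⟩, hs⟩ := IsLocalization.surj (pG H hle q).primeCompl a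
    have h1 : algebraMap (FixedPoints.subring R H) (Localization.AtPrime (q' H q))
        (Subring.inclusion hle α) ∈ J H hle q ^ n := by
      rw [← φ_algebraMap H hle q, ← hs, map_mul]
      exact Ideal.mul_mem_right _ _ ha
    have hJn : J H hle q ^ n = ((pG H hle q ^ n).map (Subring.inclusion hle)).map
        (algebraMap (FixedPoints.subring R H) (Localization.AtPrime (q' H q))) := by
      rw [Ideal.map_map, J, ← Localization.AtPrime.map_eq_maximalIdeal, ← Ideal.map_pow,
        ← Ideal.map_pow, Ideal.map_map]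
      congr 1
      exact RingHom.ext fun x ↦ φ_algebraMap H hle q x
    rw [hJn, IsLocalization.algebraMap_mem_map_algebraMap_iff (q' H q).primeCompl] at h1
    obtain ⟨t, ht, hmem⟩ := h1
    have key : ∀ b ∈ (pG H hle q ^ n).map (Subring.inclusion hle), ∀ w,
        trc H (w * b) ∈ pG H hle q ^ n := by
      intro b hb
      rw [Ideal.map] at hb
      induction hb using Submodule.span_induction with
      | mem x hx =>
        obtain ⟨c, hc, rfl⟩ := hx
        intro w
        rw [mul_comm w, trc_inclusion_mul]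
        exact Ideal.mul_mem_right _ _ hc
      | zero =>
        intro w
        rw [mul_zero, show trc H (0 : FixedPoints.subring R H) = 0 from
          Subtype.ext (by simp [trc])]
        exact zero_mem _
      | add x x' _ _ hx hx' =>
        intro w
        rw [mul_add, trc_add]
        exact add_mem (hx w) (hx' w)
      | smul r x _ hx =>
        intro w
        rw [smul_eq_mul, ← mul_assoc]
        exact hx (w * r)
    have h2 := key _ hmem z
    rw [show z * (t * Subring.inclusion hle α) = Subring.inclusion hle α * (z * t) by ring,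
      trc_inclusion_mul] at h2
    have hu : IsUnit (algebraMap _ (Localization.AtPrime (pG H hle q)) (trc H (z * t))) := by
      refine IsLocalization.map_units _ (⟨_, fun hm ↦ ?_⟩ : (pG H hle q).primeCompl)
      have h3 := Good.trc_sub_mem H q (z := z * t) fun c hc ↦ by
        rw [map_mul]; exact Ideal.mul_mem_right _ _ (hz.2 c hc)
      have h4 : (z : R) * (t : R) ∈ q := by
        have := sub_mem (show (trc H (z * t) : R) ∈ q from hm) h3
        simpa using this
      exact (‹q.IsPrime›.mem_or_mem h4).elim hz.1 ht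
    have h5 := Ideal.mem_map_of_mem (algebraMap _ (Localization.AtPrime (pG H hle q))) h2
    rw [Ideal.map_pow, Localization.AtPrime.map_eq_maximalIdeal, map_mul,
      Ideal.mul_unit_mem_iff_mem _ hu, ← hs] at h5
    exact (Ideal.mul_unit_mem_iff_mem _ (IsLocalization.map_units _ s)).mp h5
  · exact Ideal.pow_right_mono Ideal.le_comap_map n

end Groth.Agent.Lib.EtDescent.DecompInvariants
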