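import Groth.Prelude.Def_DescFam
import Groth.Agent.Lib.FFDesc.Points
import Mathlib.AlgebraicGeometry.Morphisms.Etale

/-!
# Effectiveness of descent data for one-member families
-/

set_option autoImplicit false
set_option linter.style.haveILetI false
universe u

open CategoryTheory CategoryTheory.Limits AlgebraicGeometry

namespace Groth.Agent.Lib.EtDescent

open Groth.Agent.Lib.FFDesc (restrict IsDescended exists_isDescended_of_iso φ_eq_tr)

variable {S' S : Scheme.{u}} {g : S' ⟶ S}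

/-- The datum of a one-member family. -/
def ofFam (D : Desc.SchDDFam (fun _ : PUnit.{1} => g)) : Desc.SchDD g where
  obj := D.obj PUnit.unit
  φ T x₀ x₁ h := D.φ (i := PUnit.unit) (j := PUnit.unit) x₀ x₁ h
  φ_natural T T' k x₀ x₁ h h' v v' hv := D.φ_natural k x₀ x₁ h _ _ rfl rfl h' v v' hv
  φ_self T x v := D.φ_self x v
  φ_comp T x₀ x₁ x₂ h₀₁ h₁₂ v := D.φ_comp x₀ x₁ x₂ h₀₁ h₁₂ v

/-- The datum is descended to an etale scheme. -/
def Effective (D : Desc.SchDD g) : Prop :=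
  ∃ (U : Over S) (q : D.obj.left ⟶ U.left), Etale U.hom ∧ IsDescended D U q

theorem effective_iff (D : Desc.SchDD g) :
    Effective D ↔ ∃ U : Over S, Etale U.hom ∧ Nonempty ((Desc.toDD g).obj U ≅ D) :=
  ⟨fun ⟨U, _, hU, H⟩ ↦ ⟨U, hU, ⟨H.iso⟩⟩,
    fun ⟨U, hU, ⟨e⟩⟩ ↦ ⟨U, _, hU, exists_isDescended_of_iso D e⟩⟩

theorem fam_iso_iff (D : Desc.SchDDFam (fun _ : PUnit.{1} => g)) (U : Over S) :
    Nonempty ((Desc.toDDFam (fun _ : PUnit.{1} => g)).obj U ≅ D) ↔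
      Nonempty ((Desc.toDD g).obj U ≅ ofFam D) := by
  constructor
  · rintro ⟨e⟩
    exact ⟨{ hom := ⟨e.hom.hom PUnit.unit, fun T x₀ x₁ h v w hw ↦ e.hom.comm x₀ x₁ h v w hw⟩
             inv := ⟨e.inv.hom PUnit.unit, fun T x₀ x₁ h v w hw ↦ e.inv.comm x₀ x₁ h v w hw⟩
             hom_inv_id := Desc.SchDD.hom_ext congr($(e.hom_inv_id).hom PUnit.unit)
             inv_hom_id := Desc.SchDD.hom_ext congr($(e.inv_hom_id).hom PUnit.unit) }⟩
  · rintro ⟨e⟩
    exact ⟨{ hom := ⟨fun _ ↦ e.hom.hom, fun T i j x₀ x₁ h v w hw ↦ e.hom.comm x₀ x₁ h v w hw⟩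
             inv := ⟨fun _ ↦ e.inv.hom, fun T i j x₀ x₁ h v w hw ↦ e.inv.comm x₀ x₁ h v w hw⟩
             hom_inv_id := Desc.SchDDFam.hom_ext (funext fun _ ↦ congr($(e.hom_inv_id).hom))
             inv_hom_id := Desc.SchDDFam.hom_ext (funext fun _ ↦ congr($(e.inv_hom_id).hom)) }⟩

theorem fam_effective_iff (D : Desc.SchDDFam (fun _ : PUnit.{1} => g)) :
    (∃ U : Over S, Etale U.hom ∧ Nonempty ((Desc.toDDFam (fun _ : PUnit.{1} => g)).obj U ≅ D)) ↔
      Effective (ofFam D) := by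
  simp only [effective_iff, fam_iso_iff]

/-- Pulling back a one-member datum is restricting it. -/
noncomputable def ofFamPullIso {S₁ S₁' : Scheme.{u}} {p : S₁ ⟶ S} {g₁ : S₁' ⟶ S₁} {p' : S₁' ⟶ S'}
    (w : p' ≫ g = g₁ ≫ p) (D : Desc.SchDDFam (fun _ : PUnit.{1} => g)) :
    ofFam ((Desc.pullDDFam (f := fun _ : PUnit.{1} => g) (f' := fun _ : PUnit.{1} => g₁) (α := id)
      (p := p) (p' := fun _ => p') (fun _ => w)).obj D) ≅ restrict (ofFam D) g₁ p' p w.symm := by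
  have key : ∀ {T : Scheme.{u}} (x₀ x₁ : T ⟶ S₁') (h : x₀ ≫ g₁ = x₁ ≫ g₁)
      (v : Desc.Lifts (Over.mk (pullback.snd (D.obj PUnit.unit).hom p')) x₀),
      ((restrict (ofFam D) g₁ p' p w.symm).φ x₀ x₁ h v).1 =
        ((ofFam ((Desc.pullDDFam (f := fun _ : PUnit.{1} => g) (f' := fun _ : PUnit.{1} => g₁)
          (α := id) (p := p) (p' := fun _ => p') (fun _ => w)).obj D)).φ x₀ x₁ h v).1 := by
    intro T x₀ x₁ h v
    refine pullback.hom_ext ((pullback.lift_fst _ _ _).trans (Eq.trans ?_ (pullback.lift_fst _ _ _).symm))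
      ((pullback.lift_snd _ _ _).trans (pullback.lift_snd _ _ _).symm)
    exact (φ_eq_tr (ofFam D) (x₀ ≫ p') (x₁ ≫ p') _
      (Desc.liftsPullbackEquiv (D.obj PUnit.unit) p' x₀ v)).symm
  exact
    { hom := ⟨𝟙 (Over.mk (pullback.snd (D.obj PUnit.unit).hom p')), fun T x₀ x₁ h v v' hw ↦ by
        have hv : v' = v := Subtype.ext (hw.trans (Category.comp_id _))
        subst hv
        exact (key x₀ x₁ h _).trans (Category.comp_id _).symm⟩
      inv := ⟨𝟙 (Over.mk (pullback.snd (D.obj PUnit.unit).hom p')), fun T x₀ x₁ h v v' hw ↦ by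
        have hv : v' = v := Subtype.ext (hw.trans (Category.comp_id _))
        subst hv
        exact (key x₀ x₁ h _).symm.trans (Category.comp_id _).symm⟩
      hom_inv_id := Desc.SchDD.hom_ext (Category.id_comp _)
      inv_hom_id := Desc.SchDD.hom_ext (Category.id_comp _) }

theorem fam_pull_effective_iff {S₁ S₁' : Scheme.{u}} {p : S₁ ⟶ S} {g₁ : S₁' ⟶ S₁} {p' : S₁' ⟶ S'}
    (w : p' ≫ g = g₁ ≫ p) (D : Desc.SchDDFam (fun _ : PUnit.{1} => g)) :
    (∃ U : Over S₁, Etale U.hom ∧ Nonempty ((Desc.toDDFam (fun _ : PUnit.{1} => g₁)).obj U ≅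
      (Desc.pullDDFam (f := fun _ : PUnit.{1} => g) (f' := fun _ : PUnit.{1} => g₁) (α := id)
        (p := p) (p' := fun _ => p') (fun _ => w)).obj D)) ↔
      Effective (restrict (ofFam D) g₁ p' p w.symm) := by
  rw [fam_effective_iff, effective_iff, effective_iff]
  exact ⟨fun ⟨U, hU, ⟨e⟩⟩ ↦ ⟨U, hU, ⟨e ≪≫ ofFamPullIso w D⟩⟩,
    fun ⟨U, hU, ⟨e⟩⟩ ↦ ⟨U, hU, ⟨e ≪≫ (ofFamPullIso w D).symm⟩⟩⟩

end Groth.Agent.Lib.EtDescent
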