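import Groth.Agent.Lib.EtDescent.GlueEtale
import Groth.Agent.Lib.EtDescent.FamEff

/-!
# Effectiveness passes to base changes and is local on the base
-/

set_option autoImplicit false
set_option linter.style.haveILetI false
universe u

open CategoryTheory CategoryTheory.Limits AlgebraicGeometry TopologicalSpace

namespace Groth.Agent.Lib.EtDescent

open Groth.Agent.Lib.FFDesc (restrict restrict_tr IsDescended piece pr act act_eq_tr tr tr_congr
  tr_hom comp_tr)

variable {S' S : Scheme.{u}} {g : S' ⟶ S} (D : Desc.SchDD g)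

/-- The base change of a descended scheme is the descended scheme of the restricted datum. -/
theorem isDescended_restrict {U : Over S} {q : D.obj.left ⟶ U.left} (H : IsDescended D U q)
    {T' T : Scheme.{u}} (p' : T' ⟶ T) (r : T' ⟶ S') (s : T ⟶ S) (w : p' ≫ s = r ≫ g) :
    IsDescended (restrict D p' r s w) (Over.mk (pullback.snd U.hom s))
      (pullback.lift (pullback.fst D.obj.hom r ≫ q) (pullback.snd D.obj.hom r ≫ p') (by
        rw [Category.assoc, Category.assoc, w, ← H.isPullback.w]
        exact pullback.condition_assoc g)) := by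
  set q' : pullback D.obj.hom r ⟶ pullback U.hom s :=
    pullback.lift (pullback.fst D.obj.hom r ≫ q) (pullback.snd D.obj.hom r ≫ p') (by
      rw [Category.assoc, Category.assoc, w, ← H.isPullback.w]
      exact pullback.condition_assoc g)
  refine ⟨?_, ?_⟩
  · have h1 : IsPullback (pullback.fst D.obj.hom r ≫ q) (pullback.snd D.obj.hom r) U.hom (r ≫ g) :=
      (IsPullback.of_hasPullback D.obj.hom r).paste_horiz H.isPullback.flip
    rw [← w] at h1
    have h2 : IsPullback (q' ≫ pullback.fst U.hom s) (pullback.snd D.obj.hom r) U.hom (p' ≫ s) := by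
      simpa only [q', pullback.lift_fst] using h1
    exact (IsPullback.of_right h2 (pullback.lift_snd _ _ _)
      (IsPullback.of_hasPullback U.hom s)).flip
  · let D' := restrict D p' r s w
    let v : FFDesc.V₂ D' ⟶ pullback D.obj.hom r := pr D'
    let y : FFDesc.V₂ D' ⟶ T' := FFDesc.pr₁ D'
    have hv : v ≫ pullback.snd D.obj.hom r ≫ p' = y ≫ p' := pullback.condition
    change v ≫ q' = (act D' : FFDesc.V₂ D' ⟶ pullback D.obj.hom r) ≫ q'
    have e : (act D' : FFDesc.V₂ D' ⟶ pullback D.obj.hom r) =
        tr D' v y hv := act_eq_tr D'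
    have hv' : (v ≫ pullback.fst D.obj.hom r) ≫ D.obj.hom ≫ g = (y ≫ r) ≫ g := by
      rw [Category.assoc, pullback.condition_assoc, ← w, Category.assoc, ← w]
      exact (reassoc_of% hv) s
    let z : FFDesc.V₂ D' ⟶ pullback D.obj.hom r :=
      pullback.lift (tr D (v ≫ pullback.fst D.obj.hom r) (y ≫ r) hv') y (tr_hom ..)
    have hz1 : z ≫ pullback.fst D.obj.hom r ≫ q = v ≫ pullback.fst D.obj.hom r ≫ q := by
      rw [pullback.lift_fst_assoc, H.tr_comp, Category.assoc]
    have hz2 : z ≫ pullback.snd D.obj.hom r ≫ p' = v ≫ pullback.snd D.obj.hom r ≫ p' := by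
      rw [pullback.lift_snd_assoc, hv]
    have key : v ≫ q' = z ≫ q' := by
      refine pullback.hom_ext ?_ ?_
      · simp only [q', Category.assoc, pullback.lift_fst, hz1]
      · simp only [q', Category.assoc, pullback.lift_snd, hz2]
    rw [e.trans (restrict_tr D p' r s w v y hv)]
    exact key

theorem Effective.restrict {D : Desc.SchDD g} (h : Effective D) {T' T : Scheme.{u}} (p' : T' ⟶ T)
    (r : T' ⟶ S') (s : T ⟶ S) (w : p' ≫ s = r ≫ g) : Effective (FFDesc.restrict D p' r s w) := by
  obtain ⟨U, q, hU, H⟩ := h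
  exact ⟨_, _, inferInstanceAs (Etale (pullback.snd U.hom s)), isDescended_restrict D H p' r s w⟩

/-- Effectiveness is local on the base. -/
theorem effective_of_cover (hg : SGA1.UnivSubmersive g) {ι : Type*} (V : ι → S.Opens)
    (hV : ⨆ i, V i = ⊤) (h : ∀ i, Effective (piece D (V i))) : Effective D := by
  let B : Set S.Opens := {W | ∃ i, W ≤ V i}
  have hB : Opens.IsBasis B := Opens.isBasis_iff_nbhd.mpr fun {U x} hx ↦ by
    obtain ⟨i, hi⟩ := Opens.mem_iSup.mp (hV.ge (Opens.mem_top x))
    exact ⟨U ⊓ V i, ⟨i, inf_le_right⟩, ⟨hx, hi⟩, inf_le_left⟩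
  have hW : ∀ W : BasisIdx B, ∃ (U : Over (W.1 : Scheme.{u}))
      (q : pullback D.obj.hom (pullback.fst g W.1.ι) ⟶ U.left),
      Etale U.hom ∧ IsDescended (piece D W.1) U q := fun W ↦ by
    obtain ⟨i, hi⟩ := W.2
    obtain ⟨U, q, hU, H⟩ := h i
    let j := S.homOfLE hi
    let j' : pullback g W.1.ι ⟶ pullback g (V i).ι :=
      pullback.lift (pullback.fst _ _) (pullback.snd _ _ ≫ j)
        (by rw [Category.assoc, Scheme.homOfLE_ι]; exact pullback.condition)
    let a : pullback D.obj.hom (pullback.fst g W.1.ι) ⟶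
        pullback D.obj.hom (pullback.fst g (V i).ι) :=
      pullback.lift (pullback.fst _ _) (pullback.snd _ _ ≫ j')
        (by rw [Category.assoc, pullback.lift_fst]; exact pullback.condition)
    let q' := pullback.lift (a ≫ q) (pullback.snd D.obj.hom (pullback.fst g W.1.ι) ≫
      pullback.snd g W.1.ι) (by
        have h0 : a ≫ q ≫ U.hom = a ≫ pullback.snd D.obj.hom (pullback.fst g (V i).ι) ≫
            pullback.snd g (V i).ι := congrArg (a ≫ ·) H.isPullback.w.symm
        rw [Category.assoc, h0]
        simp only [a, j', pullback.lift_snd_assoc, pullback.lift_snd, Category.assoc]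
        rfl)
    have sqa : IsPullback a (pullback.snd D.obj.hom (pullback.fst g W.1.ι))
        (pullback.snd D.obj.hom (pullback.fst g (V i).ι)) j' := by
      refine IsPullback.of_right ?_ (pullback.lift_snd _ _ _) (IsPullback.of_hasPullback _ _)
      rw [pullback.lift_fst, pullback.lift_fst]
      exact IsPullback.of_hasPullback _ _
    have hA : ∀ {T : Scheme.{u}} (v : T ⟶ pullback D.obj.hom (pullback.fst g W.1.ι))
        (x : T ⟶ pullback g W.1.ι) (hx : v ≫ pullback.snd D.obj.hom (pullback.fst g W.1.ι) ≫
          pullback.snd g W.1.ι = x ≫ pullback.snd g W.1.ι),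
        tr (piece D W.1) v x hx ≫ a ≫ q = v ≫ a ≫ q := by
      intro T v x hx
      have hx' : (v ≫ a) ≫ pullback.snd D.obj.hom (pullback.fst g (V i).ι) ≫
          pullback.snd g (V i).ι = (x ≫ j') ≫ pullback.snd g (V i).ι := by
        simp only [a, j', Category.assoc, pullback.lift_snd_assoc, pullback.lift_snd,
          reassoc_of% hx]
      have e : tr (piece D W.1) v x hx ≫ a = tr (piece D (V i)) (v ≫ a) (x ≫ j') hx' := by
        refine Eq.trans ?_ (restrict_tr D _ _ _ _ _ _ hx').symm
        refine (congrArg (· ≫ a) (restrict_tr D _ _ _ _ _ _ hx)).trans ?_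
        refine pullback.hom_ext ?_ ?_
        · refine (Category.assoc _ _ _).trans ((congrArg (_ ≫ ·) (pullback.lift_fst _ _ _)).trans
            ((pullback.lift_fst _ _ _).trans (Eq.trans ?_ (pullback.lift_fst _ _ _).symm)))
          exact tr_congr D _ ((Category.assoc _ _ _).trans
              (congrArg (v ≫ ·) (pullback.lift_fst _ _ _))).symm
            ((Category.assoc _ _ _).trans (congrArg (x ≫ ·) (pullback.lift_fst _ _ _))).symm
        · exact ((Category.assoc _ _ _).trans ((congrArg (_ ≫ ·) (pullback.lift_snd _ _ _)).trans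
            ((Category.assoc _ _ _).symm.trans (congrArg (· ≫ j') (pullback.lift_snd _ _ _))))).trans
              (pullback.lift_snd _ _ _).symm
      rw [← Category.assoc, e]
      exact (H.tr_comp (piece D (V i)) (v ≫ a) (x ≫ j') hx').trans (Category.assoc _ _ _)
    refine ⟨Over.mk (pullback.snd U.hom j), q', inferInstanceAs (Etale (pullback.snd U.hom j)),
      ?_, ?_⟩
    · have h1 := sqa.paste_horiz H.isPullback.flip
      have h2 : IsPullback (q' ≫ pullback.fst U.hom j)
          (pullback.snd D.obj.hom (pullback.fst g W.1.ι)) U.hom (pullback.snd g W.1.ι ≫ j) := by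
        simp only [q', pullback.lift_fst]
        rwa [show j' ≫ pullback.snd g (V i).ι = pullback.snd g W.1.ι ≫ j from
          pullback.lift_snd _ _ _] at h1
      exact (IsPullback.of_right h2 (pullback.lift_snd _ _ _)
        (IsPullback.of_hasPullback U.hom j)).flip
    · let v : FFDesc.V₂ (piece D W.1) ⟶ pullback D.obj.hom (pullback.fst g W.1.ι) :=
        pr (piece D W.1)
      let y : FFDesc.V₂ (piece D W.1) ⟶ pullback g W.1.ι := FFDesc.pr₁ (piece D W.1)
      have hv : v ≫ pullback.snd D.obj.hom (pullback.fst g W.1.ι) ≫ pullback.snd g W.1.ι =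
          y ≫ pullback.snd g W.1.ι := pullback.condition
      let z : FFDesc.V₂ (piece D W.1) ⟶ pullback D.obj.hom (pullback.fst g W.1.ι) :=
        tr (piece D W.1) v y hv
      have hz2 : z ≫ pullback.snd D.obj.hom (pullback.fst g W.1.ι) ≫ pullback.snd g W.1.ι =
          v ≫ pullback.snd D.obj.hom (pullback.fst g W.1.ι) ≫ pullback.snd g W.1.ι := by
        refine ((Category.assoc _ _ _).symm.trans ?_).trans hv.symm
        exact congrArg (· ≫ pullback.snd g W.1.ι) (tr_hom (piece D W.1) v y hv)
      have key : v ≫ q' = z ≫ q' := by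
        refine pullback.hom_ext ?_ ?_
        · simp only [q', Category.assoc, pullback.lift_fst]
          exact (hA v y hv).symm
        · simp only [q', Category.assoc, pullback.lift_snd]
          exact hz2.symm
      exact key.trans (congrArg (· ≫ q') (act_eq_tr (piece D W.1)).symm)
  choose UW qW hUW HW using hW
  obtain ⟨U, q, H, hU⟩ := exists_isDescended_of_etale_pieces D hB hg UW qW hUW HW
  exact ⟨U, q, hU, H⟩

theorem effective_iff_cover (hg : SGA1.UnivSubmersive g) {ι : Type*} (V : ι → S.Opens)
    (hV : ⨆ i, V i = ⊤) : Effective D ↔ ∀ i, Effective (piece D (V i)) :=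
  ⟨fun h _ ↦ h.restrict _ _ _ _, effective_of_cover D hg V hV⟩

end Groth.Agent.Lib.EtDescent
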