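import Groth.Agent.Lib.EtDescent.GlueEtale
import Mathlib.AlgebraicGeometry.Morphisms.FlatMono
import Mathlib.AlgebraicGeometry.Morphisms.QuasiSeparated

/-!
# An étale morphism that is bijective over the generizations of a point
-/

set_option autoImplicit false
set_option linter.style.haveILetI false
universe u

open CategoryTheory CategoryTheory.Limits AlgebraicGeometry TopologicalSpace

namespace Groth.Agent.Lib.EtDescent

/-- A closed set of a quasi-compact scheme that avoids the generizations of a point avoids a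
neighbourhood of it. -/
theorem exists_nhd_forall_notMem {R : CommRingCat.{u}} {P : Scheme.{u}} [CompactSpace P]
    (π : P ⟶ Spec R) {Z : Set P} (hZ : IsClosed Z) (p : (Spec R : Scheme.{u}))
    (h : ∀ z ∈ Z, ¬ π z ⤳ p) :
    ∃ W : (Spec R).Opens, p ∈ W ∧ ∀ z ∈ Z, π z ∉ W := by
  obtain ⟨B, e, he⟩ := compactSpace_iff_exists.mp ‹CompactSpace P›
  obtain ⟨φ, hφ⟩ := Spec.homEquiv.symm.surjective (e ≫ π)
  obtain ⟨J, hJ⟩ := (PrimeSpectrum.isClosed_iff_zeroLocus_ideal (R := B) (e ⁻¹' Z)).mp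
    (hZ.preimage e.continuous)
  have hpt : ∀ q : PrimeSpectrum B, π (e q) = PrimeSpectrum.comap φ.hom q := fun q ↦ by
    rw [← Scheme.Hom.comp_apply, ← hφ]; rfl
  obtain ⟨r, hr, hrJ⟩ : ∃ r, r ∉ PrimeSpectrum.asIdeal p ∧ φ.hom r ∈ J := by
    by_contra hc
    push Not at hc
    let M : Submonoid B := (PrimeSpectrum.asIdeal p).primeCompl.map φ.hom
    have hd : Disjoint (J : Set B) M := Set.disjoint_left.mpr fun b hb ↦ by
      rintro ⟨r, hr, rfl⟩
      exact hc r hr hb
    obtain ⟨q, hq, hqJ, hqM⟩ := Ideal.exists_le_prime_disjoint J M hd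
    have hmem : (⟨q, hq⟩ : PrimeSpectrum B) ∈ e ⁻¹' Z := hJ.ge hqJ
    refine h _ hmem ?_
    rw [hpt]
    exact (PrimeSpectrum.le_iff_specializes _ _).mp fun r hrq ↦ by_contra fun hr ↦
      Set.disjoint_left.mp hqM hrq ⟨r, hr, rfl⟩
  refine ⟨PrimeSpectrum.basicOpen r, hr, fun z hz hzW ↦ ?_⟩
  obtain ⟨q, rfl⟩ := he z
  rw [hpt] at hzW
  exact hzW (hJ.le hz hrJ)

/-- An étale morphism that is bijective over the generizations of a point (in the strong sense of
the diagonal being surjective there) is an isomorphism over a neighbourhood of the point. -/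
theorem exists_nhd_isIso_baseChange {R : CommRingCat.{u}} {X P : Scheme.{u}} (θ : X ⟶ P) [Etale θ]
    [CompactSpace X] [CompactSpace P] [QuasiSeparatedSpace P] (π : P ⟶ Spec R)
    (p : (Spec R : Scheme.{u})) (h₁ : ∀ z, π z ⤳ p → z ∈ Set.range θ)
    (h₂ : ∀ w, π (θ (pullback.fst θ θ w)) ⤳ p → w ∈ Set.range (pullback.diagonal θ)) :
    ∃ W : (Spec R).Opens, p ∈ W ∧ ∀ {Q Y : Scheme.{u}} (m : Q ⟶ P) (θ' : Y ⟶ Q) (a : Y ⟶ X),
      IsPullback a θ' θ m → (∀ z, π (m z) ∈ W) → IsIso θ' := by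
  haveI : QuasiCompact θ := quasiCompact_of_compactSpace θ
  haveI : CompactSpace (pullback θ θ : Scheme.{u}) :=
    QuasiCompact.compactSpace_of_compactSpace (pullback.fst θ θ)
  obtain ⟨W₁, hp₁, hW₁⟩ := exists_nhd_forall_notMem π (Z := (Set.range θ)ᶜ)
    θ.isOpenMap.isOpen_range.isClosed_compl p fun z hz hs ↦ hz (h₁ z hs)
  obtain ⟨W₂, hp₂, hW₂⟩ := exists_nhd_forall_notMem (pullback.fst θ θ ≫ θ ≫ π)
    (Z := (Set.range (pullback.diagonal θ))ᶜ)
    (pullback.diagonal θ).isOpenMap.isOpen_range.isClosed_compl p fun w hw hs ↦ hw (h₂ w (by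
      simpa only [Scheme.Hom.comp_apply] using hs))
  refine ⟨W₁ ⊓ W₂, ⟨hp₁, hp₂⟩, fun {Q Y} m θ' a sq hm ↦ ?_⟩
  haveI : Etale θ' := MorphismProperty.of_isPullback sq inferInstance
  haveI : QuasiCompact θ' := MorphismProperty.of_isPullback sq inferInstance
  haveI : Surjective θ' := ⟨fun z ↦ by
    obtain ⟨x, hx⟩ := not_not.mp fun hz ↦ hW₁ (m z) hz (hm z).1
    obtain ⟨y, hy₁, hy₂⟩ := Scheme.Pullback.exists_preimage_pullback (f := θ) (g := m) x z hx
    refine ⟨sq.isoPullback.inv y, ?_⟩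
    rw [← Scheme.Hom.comp_apply, sq.isoPullback_inv_snd, hy₂]⟩
  haveI : Mono θ' := ⟨fun {T} x y hxy ↦ by
    refine sq.hom_ext ?_ hxy
    have hθ : (x ≫ a) ≫ θ = (y ≫ a) ≫ θ := by
      rw [Category.assoc, Category.assoc, sq.w, reassoc_of% hxy]
    let d : T ⟶ pullback θ θ := pullback.lift (x ≫ a) (y ≫ a) hθ
    let q : pullback (pullback.diagonal θ) d ⟶ T := pullback.snd _ _
    refine eq_of_surjective_comp θ q ⟨fun t ↦ ?_⟩ hθ ?_
    · have ht : π (θ (pullback.fst θ θ (d t))) ∈ W₂ := by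
        have : pullback.fst θ θ (d t) = a (x t) := by
          rw [← Scheme.Hom.comp_apply, pullback.lift_fst, Scheme.Hom.comp_apply]
        rw [this, ← Scheme.Hom.comp_apply a θ, sq.w, Scheme.Hom.comp_apply]
        exact (hm _).2
      obtain ⟨x₀, hx₀⟩ := not_not.mp fun hw ↦ hW₂ (d t) hw (by
        simpa only [Scheme.Hom.comp_apply] using ht)
      obtain ⟨y₀, -, hy₀⟩ := Scheme.Pullback.exists_preimage_pullback
        (f := pullback.diagonal θ) (g := d) x₀ t hx₀
      exact ⟨y₀, hy₀⟩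
    · have e₁ : q ≫ x ≫ a = pullback.fst (pullback.diagonal θ) d := by
        rw [← pullback.lift_fst (x ≫ a) (y ≫ a) hθ]
        change q ≫ d ≫ _ = _
        rw [← pullback.condition_assoc, pullback.diagonal_fst, Category.comp_id]
      have e₂ : q ≫ y ≫ a = pullback.fst (pullback.diagonal θ) d := by
        rw [← pullback.lift_snd (x ≫ a) (y ≫ a) hθ]
        change q ≫ d ≫ _ = _
        rw [← pullback.condition_assoc, pullback.diagonal_snd, Category.comp_id]
      rw [e₁, e₂]⟩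
  exact Flat.isIso_of_surjective_of_mono θ'

end Groth.Agent.Lib.EtDescent
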