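import Groth.Agent.Lib.EtDescent.Sigma
import Groth.Agent.Lib.FFDesc.SubDatum
import Groth.Agent.S3709

/-!
# Calculus of charts: base change, localisation, refinement
-/

set_option autoImplicit false
set_option linter.style.haveILetI false
universe u

open CategoryTheory CategoryTheory.Limits AlgebraicGeometry

namespace Groth.Agent.Lib.EtDescent

open Groth.Agent.Lib.FFDesc (IsDescended Invariant subDatum subDatum_tr_ι restrict restrict_tr tr
  tr_hom tr_congr tr_self tr_tr comp_tr)

variable {S' S : Scheme.{u}} {g : S' ⟶ S} {D : Desc.SchDD g}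

/-- Charts are jointly surjective. -/
def EnoughCharts (D : Desc.SchDD g) : Prop := ∀ x : D.obj.left, ∃ C : Chart D, x ∈ Set.range C.σ

theorem restrict_tr_fst (D : Desc.SchDD g) {T' T : Scheme.{u}} (p' : T' ⟶ T) (r : T' ⟶ S')
    (s : T ⟶ S) (w : p' ≫ s = r ≫ g) {Z : Scheme.{u}} (v : Z ⟶ pullback D.obj.hom r) (x : Z ⟶ T')
    (h : v ≫ pullback.snd D.obj.hom r ≫ p' = x ≫ p')
    (h' : (v ≫ pullback.fst D.obj.hom r) ≫ D.obj.hom ≫ g = (x ≫ r) ≫ g) :
    tr (restrict D p' r s w) v x h ≫ pullback.fst D.obj.hom r =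
      tr D (v ≫ pullback.fst D.obj.hom r) (x ≫ r) h' := by
  rw [restrict_tr]
  exact pullback.lift_fst _ _ _

theorem enoughCharts_of_etale [Etale g] [Etale D.obj.hom] : EnoughCharts D := fun x ↦ by
  let e : D.obj.left ⟶ S := D.obj.hom ≫ g
  let σ : pullback g e ⟶ D.obj.left :=
    tr D (pullback.snd g e) (pullback.fst g e) pullback.condition.symm
  have hσ : σ ≫ D.obj.hom = pullback.fst g e := tr_hom D _ _ _
  refine ⟨⟨D.obj.left, e, inferInstance, σ, hσ, fun T a b h ↦ ?_⟩, ?_⟩
  · rw [comp_tr D b, tr_congr D _ (comp_tr D a _ _ _) rfl, tr_tr]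
    exact tr_congr D _ h rfl
  · refine ⟨(pullback.lift D.obj.hom (𝟙 _) (by simp [e]) : D.obj.left ⟶ pullback g e) x, ?_⟩
    rw [← Scheme.Hom.comp_apply, comp_tr, tr_congr D _ (pullback.lift_snd _ _ _)
      (pullback.lift_fst _ _ _), tr_self D _ _ (Category.id_comp _)]
    rfl

theorem enoughCharts_of_isDescended {U : Over S} [Etale U.hom] {q : D.obj.left ⟶ U.left}
    (H : IsDescended D U q) : EnoughCharts D := fun x ↦ by
  let i := H.isPullback.isoPullback
  refine ⟨⟨U.left, U.hom, inferInstance, i.inv, H.isPullback.isoPullback_inv_fst,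
    fun T a b h ↦ ?_⟩, i.hom x, by rw [← Scheme.Hom.comp_apply, i.hom_inv_id]; rfl⟩
  refine H.isPullback.hom_ext ?_ ?_
  · rw [tr_hom, Category.assoc]
    exact congrArg (b ≫ ·) H.isPullback.isoPullback_inv_fst.symm
  · rw [H.tr_comp, Category.assoc, Category.assoc]
    exact ((congrArg (a ≫ ·) H.isPullback.isoPullback_inv_snd).trans h).trans
      (congrArg (b ≫ ·) H.isPullback.isoPullback_inv_snd).symm

section RestrictChart

variable {T' T : Scheme.{u}} {p' : T' ⟶ T} {r : T' ⟶ S'} {s : T ⟶ S} (w : p' ≫ s = r ≫ g)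

/-- The composite of a chart of a restricted datum with the projection to the datum. -/
noncomputable def Chart.down {w : p' ≫ s = r ≫ g} (C : Chart (FFDesc.restrict D p' r s w)) :
    pullback p' C.e ⟶ D.obj.left :=
  (C.σ : pullback p' C.e ⟶ pullback D.obj.hom r) ≫ pullback.fst D.obj.hom r

@[reassoc]
theorem Chart.down_hom {w : p' ≫ s = r ≫ g} (C : Chart (FFDesc.restrict D p' r s w)) :
    C.down ≫ D.obj.hom = pullback.fst p' C.e ≫ r := by
  refine (Category.assoc (C.σ : pullback p' C.e ⟶ pullback D.obj.hom r) _ _).trans ?_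
  refine (congrArg ((C.σ : pullback p' C.e ⟶ pullback D.obj.hom r) ≫ ·) pullback.condition).trans ?_
  exact (Category.assoc _ _ _).symm.trans (congrArg (· ≫ r) C.σ_hom)

theorem Chart.down_aux {V : Scheme.{u}} {e : V ⟶ T} {z : pullback p' e ⟶ D.obj.left}
    (hz : z ≫ D.obj.hom = pullback.fst p' e ≫ r) (w : p' ≫ s = r ≫ g) {Z : Scheme.{u}}
    (a b : Z ⟶ pullback p' e) (h : a ≫ pullback.snd p' e = b ≫ pullback.snd p' e) :
    (a ≫ z) ≫ D.obj.hom ≫ g = (b ≫ pullback.fst p' e ≫ r) ≫ g := by
  simp only [Category.assoc]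
  rw [reassoc_of% hz, ← w, pullback.condition_assoc, ← Category.assoc a, h, Category.assoc]

theorem Chart.inv_down {w : p' ≫ s = r ≫ g} (C : Chart (FFDesc.restrict D p' r s w))
    {Z : Scheme.{u}} (a b : Z ⟶ pullback p' C.e)
    (h : a ≫ pullback.snd p' C.e = b ≫ pullback.snd p' C.e) :
    tr D (a ≫ C.down) (b ≫ pullback.fst p' C.e ≫ r) (Chart.down_aux C.down_hom w a b h) =
      b ≫ C.down := by
  refine Eq.trans ?_ ((congrArg (fun v : Z ⟶ pullback D.obj.hom r ↦ v ≫ pullback.fst D.obj.hom r)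
    (C.inv a b h)).trans (Category.assoc _ _ _))
  refine Eq.trans ?_ (restrict_tr_fst D p' r s w (a ≫ C.σ) _ _ ?_).symm
  exact tr_congr D _ (Category.assoc _ _ _).symm (Category.assoc _ _ _).symm

/-- Constructor for charts of restricted data. -/
noncomputable def Chart.mkRestrict {V : Scheme.{u}} (e : V ⟶ T) [Etale e]
    (σ : pullback p' e ⟶ pullback D.obj.hom r)
    (hσ : σ ≫ pullback.snd D.obj.hom r = pullback.fst p' e)
    (hinv : ∀ ⦃Z : Scheme.{u}⦄ (a b : Z ⟶ pullback p' e)
      (h : a ≫ pullback.snd p' e = b ≫ pullback.snd p' e),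
      tr D (a ≫ σ ≫ pullback.fst D.obj.hom r) (b ≫ pullback.fst p' e ≫ r)
        (Chart.down_aux (by rw [Category.assoc, pullback.condition, reassoc_of% hσ]) w a b h) =
        b ≫ σ ≫ pullback.fst D.obj.hom r) :
    Chart (FFDesc.restrict D p' r s w) where
  V := V
  e := e
  etale := ‹_›
  σ := σ
  σ_hom := hσ
  inv Z a b h := by
    refine pullback.hom_ext ?_ ?_
    · refine (restrict_tr_fst D p' r s w (a ≫ σ) _ _ ?_).trans ?_
      · exact (congrArg (· ≫ D.obj.hom ≫ g) (Category.assoc a σ _)).trans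
          ((Chart.down_aux (z := σ ≫ pullback.fst D.obj.hom r)
            (by rw [Category.assoc, pullback.condition, reassoc_of% hσ]) w a b h).trans
            (congrArg (· ≫ g) (Category.assoc _ _ _).symm))
      · exact (tr_congr D _ (Category.assoc a σ _) (Category.assoc _ _ _)).trans
          ((hinv a b h).trans (Category.assoc _ _ _).symm)
    · exact (tr_hom (FFDesc.restrict D p' r s w) (a ≫ σ) _ _).trans
        ((congrArg (b ≫ ·) hσ.symm).trans (Category.assoc _ _ _).symm)

end RestrictChart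

/-- Base change of a chart along a square. -/
theorem Chart.exists_restrict (C : Chart D) {T' T : Scheme.{u}} (p' : T' ⟶ T) (r : T' ⟶ S')
    (s : T ⟶ S) (w : p' ≫ s = r ≫ g) (y : ↑(pullback D.obj.hom r))
    (hy : pullback.fst D.obj.hom r y ∈ Set.range C.σ) :
    ∃ C' : Chart (restrict D p' r s w), y ∈ Set.range C'.σ := by
  let e' := pullback.fst s C.e
  let m : pullback p' e' ⟶ pullback g C.e :=
    pullback.lift (pullback.fst p' e' ≫ r) (pullback.snd p' e' ≫ pullback.snd s C.e) (by
      rw [Category.assoc, ← w, pullback.condition_assoc, Category.assoc, ← pullback.condition])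
  have hm₁ : m ≫ pullback.fst g C.e = pullback.fst p' e' ≫ r := pullback.lift_fst _ _ _
  let σ' : pullback p' e' ⟶ pullback D.obj.hom r := pullback.lift (m ≫ C.σ) (pullback.fst p' e')
    (by rw [Category.assoc, C.σ_hom, hm₁])
  have hσf : σ' ≫ pullback.fst D.obj.hom r = m ≫ C.σ := pullback.lift_fst _ _ _
  have hσs : σ' ≫ pullback.snd D.obj.hom r = pullback.fst p' e' := pullback.lift_snd _ _ _
  refine ⟨Chart.mkRestrict w e' σ' hσs fun Z a b h ↦ ?_, ?_⟩
  · have h1 : a ≫ σ' ≫ pullback.fst D.obj.hom r = (a ≫ m) ≫ C.σ := by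
      rw [hσf, Category.assoc]
    have h2 : b ≫ pullback.fst p' e' ≫ r = (b ≫ m) ≫ pullback.fst g C.e := by
      rw [Category.assoc, hm₁]
    refine (tr_congr D _ h1 h2).trans ((C.inv (a ≫ m) (b ≫ m) ?_).trans ?_)
    · simp only [m, Category.assoc, pullback.lift_snd]
      rw [← Category.assoc a, h, Category.assoc]
    · rw [Category.assoc, hσf]
  · obtain ⟨z, hz⟩ := hy
    have sq : IsPullback (pullback.snd p' e' ≫ pullback.snd s C.e) (pullback.fst p' e') C.e
        (p' ≫ s) :=
      ((IsPullback.of_hasPullback p' e').flip.paste_horiz (IsPullback.of_hasPullback s C.e).flip)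
    have sqm : IsPullback m (pullback.fst p' e') (pullback.fst g C.e) r :=
      IsPullback.of_right (by rw [pullback.lift_snd, ← w]; exact sq)
        hm₁ (IsPullback.of_hasPullback g C.e).flip
    have sqσ : IsPullback m σ' C.σ (pullback.fst D.obj.hom r) :=
      IsPullback.of_bot (by rw [C.σ_hom, hσs]; exact sqm) hσf.symm
        (IsPullback.of_hasPullback D.obj.hom r)
    obtain ⟨t, -, ht⟩ := Scheme.exists_preimage_of_isPullback sqσ z y hz
    exact ⟨t, ht⟩

theorem EnoughCharts.restrict (h : EnoughCharts D) {T' T : Scheme.{u}} (p' : T' ⟶ T)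
    (r : T' ⟶ S') (s : T ⟶ S) (w : p' ≫ s = r ≫ g) :
    EnoughCharts (FFDesc.restrict D p' r s w) := fun y ↦ by
  obtain ⟨C, hC⟩ := h (pullback.fst D.obj.hom r y)
  exact C.exists_restrict p' r s w y hC

/-- A chart over an etale neighbourhood of the base is a chart. -/
theorem exists_chart_of_base {V : Scheme.{u}} (e' : V ⟶ S) [Etale e']
    (C : Chart (restrict D (pullback.snd g e') (pullback.fst g e') e' pullback.condition.symm)) :
    ∃ C' : Chart D, pullback.fst D.obj.hom (pullback.fst g e') '' Set.range C.σ ⊆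
      Set.range C'.σ := by
  let i : pullback g (C.e ≫ e') ⟶ pullback (pullback.snd g e') C.e :=
    pullback.lift (pullback.lift (pullback.fst g (C.e ≫ e')) (pullback.snd g _ ≫ C.e)
      (pullback.condition.trans (Category.assoc _ _ _).symm)) (pullback.snd g _) (pullback.lift_snd _ _ _)
  have hi₁ : i ≫ pullback.fst (pullback.snd g e') C.e ≫ pullback.fst g e' =
      pullback.fst g (C.e ≫ e') := by
    simp [i, pullback.lift_fst_assoc, pullback.lift_fst]
  refine ⟨⟨C.V, C.e ≫ e', inferInstance, i ≫ C.down, ?_, fun T a b h ↦ ?_⟩, ?_⟩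
  · rw [Category.assoc, C.down_hom]
    exact hi₁
  · have hs : (a ≫ i) ≫ pullback.snd (pullback.snd g e') C.e =
        (b ≫ i) ≫ pullback.snd (pullback.snd g e') C.e := by
      simp only [i, Category.assoc, pullback.lift_snd]
      exact h
    refine Eq.trans ?_ ((C.inv_down (a ≫ i) (b ≫ i) hs).trans (Category.assoc _ _ _))
    exact tr_congr D _ (Category.assoc _ _ _).symm
      ((congrArg (b ≫ ·) hi₁.symm).trans (Category.assoc _ _ _).symm)
  · rintro _ ⟨_, ⟨z, rfl⟩, rfl⟩
    let j : pullback (pullback.snd g e') C.e ⟶ pullback g (C.e ≫ e') :=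
      pullback.lift (pullback.fst _ _ ≫ pullback.fst g e') (pullback.snd _ _)
        ((Category.assoc _ _ _).trans <|
          (congrArg (pullback.fst (pullback.snd g e') C.e ≫ ·)
            (pullback.condition (f := g) (g := e'))).trans
          (pullback.condition_assoc (f := pullback.snd g e') (g := C.e) e'))
    have hji : j ≫ i = 𝟙 _ := by
      refine pullback.hom_ext (pullback.hom_ext ?_ ?_) ?_
      · simp [i, j, pullback.lift_fst_assoc, pullback.lift_fst]
      · simp [i, j, pullback.lift_fst_assoc, pullback.lift_snd, pullback.lift_snd_assoc,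
          pullback.condition]
      · simp [i, j, pullback.lift_snd]
    refine ⟨j z, ?_⟩
    change (j ≫ i ≫ C.down) z = _
    rw [reassoc_of% hji]
    rfl

/-- Enough charts can be checked etale locally on the base. -/
theorem enoughCharts_of_etale_cover (D : Desc.SchDD g)
    (h : ∀ a : S, ∃ (V : Scheme.{u}) (e' : V ⟶ S) (_ : Etale e'), a ∈ Set.range e' ∧
      EnoughCharts (restrict D (pullback.snd g e') (pullback.fst g e') e' pullback.condition.symm)) :
    EnoughCharts D := fun x ↦ by
  obtain ⟨V, e', _, ⟨v, hv⟩, hE⟩ := h (g (D.obj.hom x))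
  obtain ⟨y, hy, -⟩ := Scheme.Pullback.exists_preimage_pullback (D.obj.hom x) v hv.symm
    (f := g) (g := e')
  obtain ⟨z, hz, -⟩ := Scheme.Pullback.exists_preimage_pullback x y hy.symm
    (f := D.obj.hom) (g := pullback.fst g e')
  obtain ⟨C, hC⟩ := hE z
  obtain ⟨C', hC'⟩ := exists_chart_of_base e' C
  exact ⟨C', hC' ⟨z, hC, hz⟩⟩

/-- A chart of an invariant open is a chart. -/
theorem exists_chart_of_subDatum {O : D.obj.left.Opens} (hO : Invariant D O)
    (C : Chart (subDatum D hO)) : ∃ C' : Chart D, O.ι '' Set.range C.σ ⊆ Set.range C'.σ := by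
  refine ⟨⟨C.V, C.e, C.etale, C.σ ≫ O.ι, (Category.assoc _ _ _).trans C.σ_hom,
    fun T a b h ↦ ?_⟩, ?_⟩
  · have key := congr($(C.inv a b h) ≫ O.ι)
    rw [subDatum_tr_ι] at key
    refine Eq.trans ?_ (key.trans (Category.assoc _ _ _))
    exact tr_congr D _ (Category.assoc _ _ _).symm rfl
  · rintro _ ⟨_, ⟨z, rfl⟩, rfl⟩
    exact ⟨z, rfl⟩

end Groth.Agent.Lib.EtDescent
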