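import Groth.Agent.Lib.EtDescent.Res
import Groth.Agent.Lib.EtDescent.IsoNhd
import Groth.Agent.Lib.Lim.Basic
import Groth.Agent.Lib.Lim.FPDescend
import Groth.Agent.Lib.Lim.SmoothEtale
import Groth.Agent.Lib.Lim.LocalLimit

/-!
# Effectiveness over a local ring spreads to a neighbourhood
-/

set_option autoImplicit false
set_option linter.style.haveILetI false
universe u

open CategoryTheory CategoryTheory.Limits AlgebraicGeometry TopologicalSpace

namespace Groth.Agent.Lib.EtDescent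

open Groth.Agent.Lib.Lim.Basic (bcDiagram exists_bc_hom exists_bc_comp_eq)
open Groth.Agent.Lib.Lim.LocalLimit (Nhd diag op' toSpec cone cone_π_ι)
open Groth.Agent.Lib.FFDesc (restrict IsDescended pr act act_eq_tr tr tr_congr tr_hom comp_tr)

variable {R : CommRingCat.{u}} (p : PrimeSpectrum R) {S' : Scheme.{u}} {g : S' ⟶ Spec R}
  (D : Desc.SchDD g)

theorem range_toSpec : Set.range (toSpec p) = {x : (Spec R : Scheme.{u}) | x ⤳ p} := by
  ext x
  change x ∈ Set.range (PrimeSpectrum.comap (algebraMap R (Localization.AtPrime p.asIdeal))) ↔ _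
  rw [PrimeSpectrum.localization_comap_range (Localization.AtPrime p.asIdeal) p.asIdeal.primeCompl]
  refine Iff.trans ?_ (PrimeSpectrum.le_iff_specializes _ _)
  simp [Set.disjoint_left, Ideal.primeCompl, not_imp_not]
  rfl

theorem exists_point_of_specializes {Y : Scheme.{u}} (π : Y ⟶ Spec R) {y : Y} (h : π y ⤳ p) :
    ∃ w : (pullback π (toSpec p) : Scheme.{u}), pullback.fst π (toSpec p) w = y := by
  obtain ⟨x, hx⟩ := (range_toSpec p).ge h
  obtain ⟨w, hw, -⟩ := Scheme.Pullback.exists_preimage_pullback (f := π) (g := toSpec p) y x hx.symm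
  exact ⟨w, hw⟩

/-- The stage. -/
noncomputable abbrev stι (r : Nhd p) : ((diag p).obj r : Scheme.{u}) ⟶ Spec R := (op' p r).ι

theorem map_stι {r r' : Nhd p} (φ : r ⟶ r') : (diag p).map φ ≫ stι p r' = stι p r :=
  Scheme.homOfLE_ι _ (leOfHom φ)

/-- The structure morphism of a restricted carrier over the base. -/
noncomputable def resPr {T : Scheme.{u}} (s : T ⟶ Spec R) : resX D s ⟶ T :=
  resStr D s ≫ pullback.snd g s

theorem resPr_eq {T : Scheme.{u}} (s : T ⟶ Spec R) :
    resPr D s = resStr D s ≫ pullback.snd g s := rfl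

variable [QuasiCompact g] [QuasiSeparated g] [QuasiCompact D.obj.hom] [QuasiSeparated D.obj.hom]
  [Etale D.obj.hom]

theorem compactSpace_resX {T : Scheme.{u}} [CompactSpace T] (s : T ⟶ Spec R) :
    CompactSpace (resX D s) :=
  QuasiCompact.compactSpace_of_compactSpace (resStr D s ≫ pullback.snd g s)

theorem quasiSeparatedSpace_resX {T : Scheme.{u}} [QuasiSeparatedSpace T] (s : T ⟶ Spec R) :
    QuasiSeparatedSpace (resX D s) :=
  quasiSeparatedSpace_of_quasiSeparated (resStr D s ≫ pullback.snd g s)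

/-- An étale descended scheme of a quasi-compact quasi-separated datum over an affine base is
quasi-compact and quasi-separated. -/
theorem compact_quasiSeparated_of_surjective {X U : Scheme.{u}} [CompactSpace X]
    [QuasiSeparatedSpace X] (q : X ⟶ U) [Surjective q] [QuasiCompact q] :
    CompactSpace U ∧ QuasiSeparatedSpace U := by
  refine ⟨⟨by simpa [Set.image_univ, q.surjective.range_eq] using
    isCompact_univ.image q.continuous⟩, ⟨fun V W hV hVc hW hWc ↦ ?_⟩⟩
  rw [← Set.image_preimage_eq (V ∩ W) q.surjective, Set.preimage_inter]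
  exact (QuasiSeparatedSpace.inter_isCompact _ _ (hV.preimage q.continuous)
    (QuasiCompact.isCompact_preimage _ hV hVc) (hW.preimage q.continuous)
    (QuasiCompact.isCompact_preimage _ hW hWc)).image q.continuous

theorem exists_effective_nhd (hg : SGA1.UnivSubmersive g) (h : Effective (Res D (toSpec p))) :
    ∃ W : (Spec R).Opens, (p : (Spec R : Scheme.{u})) ∈ W ∧ Effective (Res D W.ι) := by
  obtain ⟨U, qa, hU, H⟩ := h
  let j := toSpec p
  let Xa := resX D j
  let xa : Xa ⟶ Spec (Lim.LocalLimit.loc p) := resStr D j ≫ pullback.snd g j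
  haveI : IsAffine (cone p).pt := inferInstanceAs (IsAffine (Spec _))
  haveI : CompactSpace Xa := compactSpace_resX D j
  haveI : QuasiSeparatedSpace Xa := quasiSeparatedSpace_resX D j
  let qa' : Xa ⟶ U.left := qa
  haveI : Surjective qa' := univSubmersive_surjective (univSubmersive_of_isPullback
    H.isPullback.flip (univSubmersive_of_isPullback (IsPullback.of_hasPullback g j).flip hg))
  haveI : QuasiCompact qa' :=
    MorphismProperty.of_isPullback (P := @QuasiCompact) H.isPullback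
      (inferInstanceAs (QuasiCompact (pullback.snd g j)))
  obtain ⟨hUc, hUq⟩ := compact_quasiSeparated_of_surjective qa'
  haveI := hUc; haveI := hUq
  let uh : U.left ⟶ (cone p).pt := U.hom
  haveI : Etale uh := hU
  have hc := Lim.LocalLimit.isLimit p
  let πr : ∀ r : Nhd p, Spec (Lim.LocalLimit.loc p) ⟶ (diag p).obj r := fun r ↦ (cone p).π.app r
  haveI hAff : ∀ {i k : Nhd p} (f : i ⟶ k), IsAffineHom ((diag p).map f) := fun f ↦ inferInstance
  -- descend the scheme
  obtain ⟨i, Ui, fi, gU, hUic, hUiq, hfi, squ⟩ := Lim.FPDescend.exists_descent hc uh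
  obtain ⟨r₀, φ₀, hf₀⟩ := Lim.SmoothEtale.etale_descends (diag p) (cone p) hc
    (fun _ _ _ ↦ inferInstance) i inferInstance inferInstance fi hUic hUiq hfi uh gU squ
    inferInstance
  have sq₀ := Lim.FPDescend.move squ φ₀
  haveI : CompactSpace Ui := hUic
  haveI : QuasiSeparatedSpace Ui := hUiq
  haveI : CompactSpace (pullback fi ((diag p).map φ₀) : Scheme.{u}) :=
    Lim.FPDescend.compactSpace_stage fi φ₀
  haveI : QuasiSeparatedSpace (pullback fi ((diag p).map φ₀) : Scheme.{u}) :=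
    Lim.FPDescend.quasiSeparatedSpace_stage fi φ₀
  set U₀ := pullback fi ((diag p).map φ₀)
  set f₀ : U₀ ⟶ (diag p).obj r₀ := pullback.snd fi ((diag p).map φ₀)
  haveI : Etale f₀ := hf₀
  let uh' : U.left ⟶ Spec (Lim.LocalLimit.loc p) := U.hom
  obtain ⟨gU₀, sqU⟩ : ∃ gU₀ : U.left ⟶ U₀, IsPullback gU₀ uh' f₀ (πr r₀) := ⟨_, sq₀⟩
  -- spread the quotient map
  let Xr := fun r ↦ resX D (stι p r)
  let xr := fun r ↦ resPr D (stι p r)
  have hπ : ∀ r, πr r ≫ stι p r = j := fun r ↦ cone_π_ι p r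
  let aπ : ∀ r, Xa ⟶ Xr r := fun r ↦ resMap D (πr r) (hπ r)
  have sqπ : ∀ r, IsPullback (aπ r) xa (xr r) (πr r) := fun r ↦
    isPullback_resMap' D _ (hπ r)
  haveI hXrc : ∀ r, CompactSpace (Xr r) := fun r ↦ compactSpace_resX D _
  haveI hXrq : ∀ r, QuasiSeparatedSpace (Xr r) := fun r ↦ quasiSeparatedSpace_resX D _
  obtain ⟨r₁, φ₁, g', hg'₁, hg'₂⟩ := exists_bc_hom hc (sqπ r₀) f₀ (xr r₀) (qa' ≫ gU₀) (by
    rw [Category.assoc, sqU.w, ← (sqπ r₀).w.symm]
    exact (Category.assoc _ _ _).symm.trans (congrArg (· ≫ _) H.isPullback.w.symm))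
  let m₁ := resMap D ((diag p).map φ₁) (map_stι p φ₁)
  have sq₁ : IsPullback m₁ (xr r₁) (xr r₀) ((diag p).map φ₁) := isPullback_resMap' D _ _
  obtain ⟨q₁, hq₁, hq₁a⟩ : ∃ q₁ : Xr r₁ ⟶ U₀, q₁ ≫ f₀ = xr r₁ ≫ (diag p).map φ₁ ∧
      aπ r₁ ≫ q₁ = qa' ≫ gU₀ := by
    refine ⟨pullback.lift m₁ (xr r₁) sq₁.w ≫ g', ?_, ?_⟩
    · rw [Category.assoc, hg'₁, pullback.lift_fst_assoc, sq₁.w]
    · refine ((Category.assoc _ _ _).symm.trans (congrArg (· ≫ g') ?_)).trans hg'₂
      refine pullback.hom_ext ?_ ?_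
      · refine (Category.assoc _ _ _).trans ((congrArg (aπ r₁ ≫ ·) (pullback.lift_fst _ _ _)).trans
          (Eq.trans ?_ (pullback.lift_fst _ _ _).symm))
        exact resMap_resMap D _ _ _ _ _ ((cone p).w φ₁)
      · refine (Category.assoc _ _ _).trans ((congrArg (aπ r₁ ≫ ·) (pullback.lift_snd _ _ _)).trans
          (Eq.trans ?_ (pullback.lift_snd _ _ _).symm))
        exact (sqπ r₁).w
  -- spread the invariance
  let D₁ := Res D (stι p r₁)
  let K : Scheme.{u} := FFDesc.V₂ D₁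
  let v : K ⟶ Xr r₁ := pr D₁
  let y : K ⟶ pullback g (stι p r₁) := FFDesc.pr₁ D₁
  have hvy : v ≫ xr r₁ = y ≫ pullback.snd g (stι p r₁) := pullback.condition
  let k₁ : K ⟶ (diag p).obj r₁ := v ≫ xr r₁
  haveI : QuasiCompact v :=
    MorphismProperty.pullback_fst (P := @QuasiCompact) _ _ (inferInstanceAs
      (QuasiCompact (pullback.snd g (stι p r₁))))
  haveI : CompactSpace K := QuasiCompact.compactSpace_of_compactSpace v
  let t₁ : K ⟶ Xr r₁ := tr D₁ v y hvy
  have ht₁ : t₁ ≫ xr r₁ = k₁ :=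
    ((Category.assoc _ _ _).symm.trans
      (congrArg (· ≫ pullback.snd g (stι p r₁)) (tr_hom D₁ v y hvy))).trans hvy.symm
  obtain ⟨r₂, φ₂, hinv⟩ := exists_bc_comp_eq hc
    (IsPullback.of_hasPullback k₁ (πr r₁)) f₀ (v ≫ q₁) (t₁ ≫ q₁)
    (by rw [Category.assoc, Category.assoc, hq₁, reassoc_of% ht₁]; exact (Category.assoc _ _ _).symm) (by
      set K' := pullback k₁ (πr r₁)
      let k : K' ⟶ K := pullback.fst _ _
      let σ : K' ⟶ Spec (Lim.LocalLimit.loc p) := pullback.snd _ _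
      let v' : K' ⟶ Xa := (sqπ r₁).lift (k ≫ v) σ (by
        rw [Category.assoc]; exact pullback.condition)
      let y' : K' ⟶ pullback g j := (isPullback_resBase (g := g) _ (hπ r₁)).lift (k ≫ y) σ (by
        rw [Category.assoc, ← hvy]; exact pullback.condition)
      have hv' : v' ≫ aπ r₁ = k ≫ v := IsPullback.lift_fst _ _ _ _
      have hy' : y' ≫ resBase (πr r₁) (hπ r₁) = k ≫ y := IsPullback.lift_fst _ _ _ _
      have h' : v' ≫ resStr D j ≫ pullback.snd g j = y' ≫ pullback.snd g j :=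
        ((sqπ r₁).lift_snd _ _ _).trans (IsPullback.lift_snd _ _ _ _).symm
      have hk : (k ≫ v) ≫ resStr D (stι p r₁) ≫ pullback.snd g (stι p r₁) =
          (k ≫ y) ≫ pullback.snd g (stι p r₁) := by
        rw [Category.assoc, Category.assoc]; exact congrArg (k ≫ ·) hvy
      let t' : K' ⟶ Xa := tr (Res D j) v' y' h'
      have e : t' ≫ aπ r₁ = k ≫ t₁ := by
        refine (resMap_tr D _ (hπ r₁) v' y' h' ((congrArg (· ≫ _) hv').trans
          (hk.trans (congrArg (· ≫ _) hy').symm))).trans ?_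
        exact (tr_congr D₁ _ hv' hy').trans (comp_tr D₁ k v y hvy).symm
      calc k ≫ v ≫ q₁ = v' ≫ qa' ≫ gU₀ := by rw [← hq₁a, reassoc_of% hv']
        _ = t' ≫ qa' ≫ gU₀ := by
          simp only [← Category.assoc]
          exact congrArg (· ≫ gU₀) (H.tr_comp (Res D j) v' y' h').symm
        _ = k ≫ t₁ ≫ q₁ := by rw [← hq₁a, reassoc_of% e])
  -- the stage
  let m₂ := resMap D ((diag p).map φ₂) (map_stι p φ₂)
  have sq₂ : IsPullback m₂ (xr r₂) (xr r₁) ((diag p).map φ₂) := isPullback_resMap' D _ _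
  let φ : r₂ ⟶ r₀ := φ₂ ≫ φ₁
  let U₂ := pullback f₀ ((diag p).map φ)
  let f₂ : U₂ ⟶ (diag p).obj r₂ := pullback.snd _ _
  haveI : Etale f₂ := MorphismProperty.pullback_snd (P := @Etale) _ _ hf₀
  let q₂ : Xr r₂ ⟶ U₂ := pullback.lift (m₂ ≫ q₁) (xr r₂) (by
    rw [Category.assoc, hq₁, reassoc_of% sq₂.w, Functor.map_comp])
  have hq₂ : q₂ ≫ f₂ = xr r₂ := pullback.lift_snd _ _ _
  let D₂ := Res D (stι p r₂)
  have hinv₂ : ∀ {T : Scheme.{u}} (v₂ : T ⟶ Xr r₂) (y₂ : T ⟶ pullback g (stι p r₂))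
      (h₂ : v₂ ≫ xr r₂ = y₂ ≫ pullback.snd g (stι p r₂)),
      (tr D₂ v₂ y₂ h₂ : T ⟶ Xr r₂) ≫ q₂ = v₂ ≫ q₂ := by
    intro T v₂ y₂ h₂
    have hb : (v₂ ≫ m₂) ≫ xr r₁ =
        (y₂ ≫ resBase ((diag p).map φ₂) (map_stι p φ₂)) ≫ pullback.snd g (stι p r₁) := by
      rw [Category.assoc, Category.assoc, sq₂.w, reassoc_of% h₂, resBase_snd]
    let t₂ : T ⟶ Xr r₂ := tr D₂ v₂ y₂ h₂
    have ht₂ : t₂ ≫ xr r₂ = v₂ ≫ xr r₂ :=
      ((Category.assoc _ _ _).symm.trans
        (congrArg (· ≫ pullback.snd g (stι p r₂)) (tr_hom D₂ v₂ y₂ h₂))).trans h₂.symm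
    change t₂ ≫ q₂ = v₂ ≫ q₂
    refine pullback.hom_ext ?_ ?_
    · simp only [q₂, Category.assoc, pullback.lift_fst]
      let k : T ⟶ K := pullback.lift (v₂ ≫ m₂) (y₂ ≫ resBase _ (map_stι p φ₂)) hb
      let k' : T ⟶ pullback k₁ ((diag p).map φ₂) := pullback.lift k (v₂ ≫ xr r₂) (by
        exact ((Category.assoc _ _ _).symm.trans (congrArg (· ≫ xr r₁) (pullback.lift_fst _ _ _))).trans
          (((Category.assoc _ _ _).trans (congrArg (v₂ ≫ ·) sq₂.w)).trans (Category.assoc _ _ _).symm))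
      have hk₁ : k ≫ v = v₂ ≫ m₂ := pullback.lift_fst _ _ _
      have hk₂ : k ≫ y = y₂ ≫ resBase _ (map_stι p φ₂) := pullback.lift_snd _ _ _
      have hk₃ : k ≫ t₁ = t₂ ≫ m₂ := by
        refine (comp_tr D₁ k v y hvy).trans (Eq.trans ?_ (resMap_tr D _ _ v₂ y₂ h₂ hb).symm)
        exact tr_congr D₁ _ hk₁ hk₂
      have hk' : k' ≫ pullback.fst k₁ ((diag p).map φ₂) = k := pullback.lift_fst _ _ _
      rw [← reassoc_of% hk₃, ← reassoc_of% hk₁]
      conv_lhs => rw [← hk', Category.assoc, ← hinv, ← Category.assoc, hk']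
    · simp only [q₂, Category.assoc, pullback.lift_snd]
      exact ht₂
  -- the comparison
  let P := pullback f₂ (pullback.snd g (stι p r₂))
  let θ : Xr r₂ ⟶ P := pullback.lift q₂ (resStr D (stι p r₂)) hq₂
  have hθ₁ : θ ≫ pullback.fst _ _ = q₂ := pullback.lift_fst _ _ _
  have hθ₂ : θ ≫ pullback.snd _ _ = resStr D (stι p r₂) := pullback.lift_snd _ _ _
  let pP : P ⟶ pullback g (stι p r₂) := pullback.snd _ _
  haveI : Etale pP := MorphismProperty.pullback_snd (P := @Etale) _ _ inferInstance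
  haveI : Etale (θ ≫ pP) := by rw [hθ₂]; infer_instance
  haveI : Etale θ := Etale.of_comp θ pP
  haveI : CompactSpace U₂ := Lim.FPDescend.compactSpace_stage f₀ φ
  haveI : QuasiSeparatedSpace U₂ := Lim.FPDescend.quasiSeparatedSpace_stage f₀ φ
  haveI : CompactSpace P := QuasiCompact.compactSpace_of_compactSpace (pullback.fst _ _ : P ⟶ U₂)
  haveI : QuasiSeparatedSpace P :=
    quasiSeparatedSpace_of_quasiSeparated (pullback.fst _ _ : P ⟶ U₂)
  let π : P ⟶ Spec R := pullback.fst _ _ ≫ f₂ ≫ stι p r₂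
  -- lifting to the local scheme
  have sqπU : IsPullback (pullback.lift gU₀ (uh' ≫ πr r₂)
      (by rw [sqU.w]; exact (congrArg (uh' ≫ ·) ((cone p).w φ)).symm.trans (Category.assoc _ _ _).symm))
      uh' f₂ (πr r₂) :=
    Lim.FPDescend.move (c := cone p) (f := uh') sqU φ
  set gU₂ : U.left ⟶ U₂ := pullback.lift gU₀ (uh' ≫ πr r₂)
    (by rw [sqU.w]; exact (congrArg (uh' ≫ ·) ((cone p).w φ)).symm.trans (Category.assoc _ _ _).symm)
  have hgU₂ : qa' ≫ gU₂ = aπ r₂ ≫ q₂ := by
    refine pullback.hom_ext ?_ ?_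
    · simp only [gU₂, q₂, Category.assoc, pullback.lift_fst]
      rw [← hq₁a]
      exact ((Category.assoc _ _ _).symm.trans (congrArg (· ≫ q₁)
        (resMap_resMap D _ _ _ _ _ ((cone p).w φ₂)))).symm
    · simp only [gU₂, q₂, Category.assoc, pullback.lift_snd]
      rw [(sqπ r₂).w]
      exact ((Category.assoc _ _ _).symm.trans (congrArg (· ≫ _) H.isPullback.w.symm))
  have hι : ∀ {T : Scheme.{u}} (a b : T ⟶ (diag p).obj r₂), a ≫ stι p r₂ = b ≫ stι p r₂ → a = b :=
    fun a b e ↦ (cancel_mono (op' p r₂).ι).1 e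
  obtain ⟨W, hpW, hW⟩ := exists_nhd_isIso_baseChange θ π p (fun z hz ↦ by
      obtain ⟨z', rfl⟩ := exists_point_of_specializes p π hz
      let k : pullback π j ⟶ P := pullback.fst _ _
      let σ : pullback π j ⟶ Spec (Lim.LocalLimit.loc p) := pullback.snd _ _
      have hkσ : (k ≫ pullback.fst f₂ _) ≫ f₂ = σ ≫ πr r₂ := hι _ _ (by
        simp only [Category.assoc, hπ]; exact pullback.condition)
      let u : pullback π j ⟶ U.left := sqπU.lift _ σ hkσ
      let y₀ : pullback π j ⟶ pullback g j :=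
        (isPullback_resBase (g := g) _ (hπ r₂)).lift (k ≫ pP) σ (by
          rw [← hkσ, Category.assoc, Category.assoc]; exact congrArg (k ≫ ·) pullback.condition.symm)
      let n : pullback π j ⟶ Xa := H.isPullback.lift y₀ u ((IsPullback.lift_snd _ _ _ _).trans
        (sqπU.lift_snd _ _ _).symm)
      refine ⟨(aπ r₂) (n z'), ?_⟩
      rw [← Scheme.Hom.comp_apply, ← Scheme.Hom.comp_apply]
      have e₁ : n ≫ resStr D j = y₀ := H.isPullback.lift_fst _ _ _
      have e₂ : n ≫ qa' = u := H.isPullback.lift_snd _ _ _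
      refine congrArg (fun f : pullback π j ⟶ P ↦ f z') ?_
      refine pullback.hom_ext ?_ ?_
      · rw [Category.assoc, Category.assoc, hθ₁, ← hgU₂, reassoc_of% e₂, IsPullback.lift_fst]
      · rw [Category.assoc, Category.assoc, hθ₂, resMap_snd, reassoc_of% e₁, IsPullback.lift_fst])
    (fun w hw ↦ by
      let κ : pullback θ θ ⟶ Spec R := pullback.fst θ θ ≫ θ ≫ π
      obtain ⟨w', rfl⟩ := exists_point_of_specializes p κ (y := w)
        (by simpa only [κ, Scheme.Hom.comp_apply] using hw)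
      let k : pullback κ j ⟶ pullback θ θ := pullback.fst _ _
      let σ : pullback κ j ⟶ Spec (Lim.LocalLimit.loc p) := pullback.snd _ _
      have hθπ : θ ≫ π = xr r₂ ≫ stι p r₂ := by
        rw [reassoc_of% hθ₁, reassoc_of% hq₂]
      have h₁ : (k ≫ pullback.fst θ θ) ≫ xr r₂ = σ ≫ πr r₂ := hι _ _ (by
        rw [Category.assoc, Category.assoc, ← hθπ, Category.assoc σ, hπ]; exact pullback.condition)
      have h₂ : (k ≫ pullback.snd θ θ) ≫ xr r₂ = σ ≫ πr r₂ := hι _ _ (by
        rw [Category.assoc, Category.assoc, ← hθπ, ← pullback.condition_assoc, Category.assoc σ,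
          hπ]
        exact pullback.condition)
      let n₁ := (sqπ r₂).lift _ σ h₁
      let n₂ := (sqπ r₂).lift _ σ h₂
      have hθθ : (k ≫ pullback.fst θ θ) ≫ θ = (k ≫ pullback.snd θ θ) ≫ θ := by
        rw [Category.assoc, Category.assoc, pullback.condition]
      have hn₁ : n₁ ≫ aπ r₂ = k ≫ pullback.fst θ θ := (sqπ r₂).lift_fst _ _ _
      have hn₂ : n₂ ≫ aπ r₂ = k ≫ pullback.snd θ θ := (sqπ r₂).lift_fst _ _ _
      have hn : n₁ = n₂ := by
        refine H.isPullback.hom_ext ((isPullback_resBase (g := g) _ (hπ r₂)).hom_ext ?_ ?_)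
          (sqπU.hom_ext ?_ ?_)
        · change (n₁ ≫ resStr D j) ≫ resBase _ (hπ r₂) = (n₂ ≫ resStr D j) ≫ resBase _ (hπ r₂)
          rw [Category.assoc, Category.assoc, ← resMap_snd, ← hθ₂]
          change n₁ ≫ aπ r₂ ≫ θ ≫ _ = n₂ ≫ aπ r₂ ≫ θ ≫ _
          simp only [reassoc_of% hn₁, reassoc_of% hn₂, reassoc_of% hθθ]
        · change (n₁ ≫ resStr D j) ≫ pullback.snd g j = (n₂ ≫ resStr D j) ≫ pullback.snd g j
          rw [Category.assoc, Category.assoc]
          exact ((sqπ r₂).lift_snd _ _ _).trans ((sqπ r₂).lift_snd _ _ _).symm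
        · change (n₁ ≫ qa') ≫ gU₂ = (n₂ ≫ qa') ≫ gU₂
          rw [Category.assoc, Category.assoc, hgU₂, ← hθ₁]
          simp only [reassoc_of% hn₁, reassoc_of% hn₂]
          exact congrArg (k ≫ ·) (pullback.condition_assoc _)
        · change (n₁ ≫ qa') ≫ uh' = (n₂ ≫ qa') ≫ uh'
          rw [Category.assoc, Category.assoc]
          refine (congrArg (n₁ ≫ ·) H.isPullback.w.symm).trans
            (Eq.trans ?_ (congrArg (n₂ ≫ ·) H.isPullback.w))
          exact ((sqπ r₂).lift_snd _ _ _).trans ((sqπ r₂).lift_snd _ _ _).symm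
      have hk : k = (k ≫ pullback.fst θ θ) ≫ pullback.diagonal θ := by
        refine pullback.hom_ext (by simp) ?_
        rw [Category.assoc, pullback.diagonal_snd, Category.comp_id,
          ← (sqπ r₂).lift_fst _ σ h₁, ← (sqπ r₂).lift_fst _ σ h₂]
        exact congrArg (· ≫ aπ r₂) hn.symm
      refine ⟨(k ≫ pullback.fst θ θ) w', ?_⟩
      rw [← Scheme.Hom.comp_apply, ← hk])
  -- the neighbourhood
  let W' : (Spec R).Opens := W ⊓ op' p r₂
  refine ⟨W', ⟨hpW, r₂.2⟩, ?_⟩
  let b : (W' : Scheme.{u}) ⟶ (diag p).obj r₂ := (Spec R).homOfLE inf_le_right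
  have hb : b ≫ stι p r₂ = W'.ι := Scheme.homOfLE_ι _ _
  let a := resMap D b hb
  have sqa : IsPullback a (resStr D W'.ι ≫ pullback.snd g W'.ι) (xr r₂) b :=
    isPullback_resMap' D b hb
  let UW := pullback f₂ b
  let qW : resX D W'.ι ⟶ UW := pullback.lift (a ≫ q₂) (resStr D W'.ι ≫ pullback.snd g W'.ι)
    (by rw [Category.assoc, hq₂, sqa.w])
  let PW := pullback (pullback.snd f₂ b) (pullback.snd g W'.ι)
  let θW : resX D W'.ι ⟶ PW := pullback.lift qW (resStr D W'.ι) (pullback.lift_snd _ _ _)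
  let m : PW ⟶ P := pullback.map _ _ _ _ (pullback.fst f₂ b) (resBase b hb) b
    pullback.condition.symm (resBase_snd b hb).symm
  have sqm : IsPullback m (pullback.snd _ _) pP (resBase b hb) := by
    refine IsPullback.of_right ?_ (pullback.lift_snd _ _ _) (IsPullback.of_hasPullback _ _).flip.flip
    rw [pullback.lift_fst, resBase_snd]
    exact (IsPullback.of_hasPullback (pullback.snd f₂ b) (pullback.snd g W'.ι)).paste_horiz
      (IsPullback.of_hasPullback f₂ b)
  have sqθ : IsPullback a θW θ m := by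
    refine IsPullback.of_bot ?_ ?_ sqm
    · rw [pullback.lift_snd, hθ₂]
      exact isPullback_resMap D b hb
    · refine pullback.hom_ext ?_ ?_
      · simp only [θ, θW, m, qW, pullback.map, Category.assoc, pullback.lift_fst,
          pullback.lift_fst_assoc]
      · simp only [θ, θW, m, pullback.map, Category.assoc, pullback.lift_snd,
          pullback.lift_snd_assoc, a, resMap_snd]
  haveI : IsIso θW := hW m θW a sqθ fun z ↦ by
    have e : m ≫ π = (pullback.fst _ _ ≫ pullback.snd f₂ b) ≫ W'.ι := by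
      simp only [m, π, pullback.map, pullback.lift_fst_assoc, pullback.lift_snd_assoc,
        resBase_snd_assoc, Category.assoc, ← hb, pullback.condition_assoc]
    rw [← Scheme.Hom.comp_apply, e, Scheme.Hom.comp_apply]
    exact (W'.range_ι.le ⟨_, rfl⟩).1
  refine ⟨Over.mk (pullback.snd f₂ b), qW,
    MorphismProperty.pullback_snd (P := @Etale) _ _ inferInstance, ?_, ?_⟩
  · exact (IsPullback.of_iso_pullback ⟨pullback.lift_snd _ _ _⟩ (asIso θW)
      (pullback.lift_fst _ _ _) (pullback.lift_snd _ _ _)).flip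
  · let DW := Res D W'.ι
    let v₀ : FFDesc.V₂ DW ⟶ resX D W'.ι := pr DW
    let y₀ : FFDesc.V₂ DW ⟶ pullback g W'.ι := FFDesc.pr₁ DW
    have h₀ : v₀ ≫ resStr D W'.ι ≫ pullback.snd g W'.ι = y₀ ≫ pullback.snd g W'.ι :=
      pullback.condition
    have h₀' : (v₀ ≫ a) ≫ xr r₂ = (y₀ ≫ resBase b hb) ≫ pullback.snd g (stι p r₂) := by
      rw [Category.assoc, Category.assoc, sqa.w, resBase_snd, ← Category.assoc y₀, ← h₀]
      exact (Category.assoc _ _ _).symm
    let t₀ : FFDesc.V₂ DW ⟶ resX D W'.ι := tr DW v₀ y₀ h₀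
    have key : v₀ ≫ qW = t₀ ≫ qW := by
      refine pullback.hom_ext ?_ ?_
      · simp only [qW, Category.assoc, pullback.lift_fst]
        have e : t₀ ≫ a = (tr D₂ (v₀ ≫ a) (y₀ ≫ resBase b hb) h₀' : FFDesc.V₂ DW ⟶ Xr r₂) :=
          resMap_tr D b hb v₀ y₀ h₀ h₀'
        rw [reassoc_of% e]
        exact (Category.assoc _ _ _).symm.trans (hinv₂ _ _ h₀').symm
      · simp only [qW, Category.assoc, pullback.lift_snd]
        refine (h₀.trans ?_).trans (Category.assoc _ _ _)
        exact (congrArg (· ≫ pullback.snd g W'.ι) (tr_hom DW v₀ y₀ h₀)).symm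
    exact key.trans (congrArg (· ≫ qW) (act_eq_tr DW).symm)

end Groth.Agent.Lib.EtDescent

namespace Groth.Agent.Lib.EtDescent

open Groth.Agent.Lib.Lim.LocalLimit (toSpec)

/-- Effectiveness at the local ring spreads to a neighbourhood. -/
theorem exists_effective_nhd_of_stalk {S' S : Scheme.{u}} {g : S' ⟶ S} [QuasiCompact g]
    [QuasiSeparated g] (D : Desc.SchDD g) [QuasiCompact D.obj.hom] [QuasiSeparated D.obj.hom]
    [Etale D.obj.hom] (hg : SGA1.UnivSubmersive g) (a : S)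
    (h : Effective (Res D (S.fromSpecStalk a))) :
    ∃ W : S.Opens, a ∈ W ∧ Effective (Res D W.ι) := by
  obtain ⟨V, hV, ha, -⟩ := exists_isAffineOpen_mem_and_subset (U := ⊤) (x := a) trivial
  let s : Spec Γ(S, V) ⟶ S := hV.fromSpec
  let p : PrimeSpectrum Γ(S, V) := hV.primeIdealOf ⟨a, ha⟩
  letI := TopCat.Presheaf.algebra_section_stalk S.presheaf (⟨a, ha⟩ : V)
  haveI : IsLocalization.AtPrime (S.presheaf.stalk a) p.asIdeal := hV.isLocalization_stalk ⟨a, ha⟩
  let e := IsLocalization.algEquiv p.asIdeal.primeCompl (Localization.AtPrime p.asIdeal)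
    (S.presheaf.stalk a)
  let b : Spec (Lim.LocalLimit.loc p) ≅ Spec (S.presheaf.stalk a) :=
    Scheme.Spec.mapIso e.toRingEquiv.toCommRingCatIso.symm.op
  have hb : b.hom ≫ S.fromSpecStalk a = toSpec p ≫ s := by
    rw [← hV.fromSpecStalk_eq_fromSpecStalk ha]
    change Spec.map _ ≫ Spec.map _ ≫ hV.fromSpec = Spec.map _ ≫ hV.fromSpec
    rw [← Category.assoc, ← Spec.map_comp]
    congr 2
    ext x
    exact e.symm.commutes x
  let D₁ := Res D s
  haveI : QuasiCompact D₁.obj.hom := inferInstanceAs (QuasiCompact (pullback.snd D.obj.hom _))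
  haveI : QuasiSeparated D₁.obj.hom := inferInstanceAs (QuasiSeparated (pullback.snd D.obj.hom _))
  haveI : Etale D₁.obj.hom := inferInstanceAs (Etale (pullback.snd D.obj.hom _))
  have h₁ : Effective (Res D₁ (toSpec p)) :=
    (effective_res_res_iff D s (toSpec p)).mpr (h.res_comp b.hom hb)
  obtain ⟨W, hp, hW⟩ := exists_effective_nhd p D₁
    (univSubmersive_of_isPullback (IsPullback.of_hasPullback g s).flip hg) h₁
  haveI : IsOpenImmersion s := hV.isOpenImmersion_fromSpec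
  refine ⟨s ''ᵁ W, ⟨p, hp, hV.fromSpec_primeIdealOf ⟨a, ha⟩⟩, ?_⟩
  exact ((effective_res_res_iff D s W.ι).mp hW).res_comp (s.isoImage W).inv
    (Scheme.Hom.isoImage_inv_ι s W)

theorem effective_nhd_iff_stalk {S' S : Scheme.{u}} {g : S' ⟶ S} [QuasiCompact g]
    [QuasiSeparated g] (D : Desc.SchDD g) [QuasiCompact D.obj.hom] [QuasiSeparated D.obj.hom]
    [Etale D.obj.hom] (hg : SGA1.UnivSubmersive g) (a : S) :
    (∃ W : S.Opens, a ∈ W ∧ Effective (Res D W.ι)) ↔ Effective (Res D (S.fromSpecStalk a)) := by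
  refine ⟨fun ⟨W, ha, hW⟩ ↦ ?_, exists_effective_nhd_of_stalk D hg a⟩
  have hr : Set.range (S.fromSpecStalk a) ⊆ Set.range W.ι := by
    rw [Scheme.range_fromSpecStalk, W.range_ι]
    exact fun x hx ↦ hx.mem_open W.2 ha
  exact hW.res_comp (IsOpenImmersion.lift W.ι (S.fromSpecStalk a) hr)
    (IsOpenImmersion.lift_fac _ _ _)

end Groth.Agent.Lib.EtDescent
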