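import Groth.Agent.Lib.EtDescent.ClopenLift
import Groth.Agent.Lib.EtDescent.Local
import Groth.Agent.S1477

/-!
# Charts of a descent datum along a proper morphism
-/

set_option autoImplicit false
set_option linter.style.haveILetI false
universe u

open CategoryTheory CategoryTheory.Limits AlgebraicGeometry

namespace Groth.Agent.Lib.EtDescent

open Groth.Agent.H54.GeomLift (pt pt_comp exists_pt_eq)
open Groth.Agent.Lib.FFDesc (tr tr_hom tr_congr tr_self tr_tr comp_tr restrict)
open Groth.Agent.Lib.Stein36 (Data.SteinConn)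

/-- A clopen subset of a geometric fibre inside an open extends inside that open. -/
theorem exists_etale_clopen_subset (conn : Data.SteinConn.{u}) {X S : Scheme.{u}} [IsAffine S]
    (f : X ⟶ S) [IsProper f] {k : Type u} [Field k] [IsAlgClosed k]
    (sb : Spec (CommRingCat.of k) ⟶ S)
    {Z : Scheme.{u}} {p₁ : Z ⟶ X} {p₂ : Z ⟶ Spec (CommRingCat.of k)}
    (sq : IsPullback p₁ p₂ f sb) {C : Set Z} (hC : IsClopen C) (U : X.Opens)
    (hCU : ∀ z ∈ C, p₁ z ∈ U) :
    ∃ (V : Scheme.{u}) (e : V ⟶ S) (_ : Etale e) (vb : Spec (CommRingCat.of k) ⟶ V)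
      (hv : vb ≫ e = sb) (CV : Set ↥(pullback f e)), IsClopen CV ∧
      (∀ w ∈ CV, pullback.fst f e w ∈ U) ∧
      (pullback.lift p₁ (p₂ ≫ vb) (by rw [Category.assoc, hv]; exact sq.w) :
        Z ⟶ pullback f e) ⁻¹' CV = C := by
  haveI : IsProper (f ≫ S.isoSpec.hom) := inferInstance
  obtain ⟨V, e₀, he₀, vb, hv₀, CV₀, hcl₀, hpre₀⟩ :=
    exists_etale_clopen conn (f ≫ S.isoSpec.hom) (sb ≫ S.isoSpec.hom) (p₁ := p₁) (p₂ := p₂)
      (IsPullback.of_iso sq (Iso.refl _) (Iso.refl _) (Iso.refl _) S.isoSpec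
        (by simp) (by simp) (by simp) (by simp)) hC
  let e : V ⟶ S := e₀ ≫ S.isoSpec.inv
  haveI : Etale e := inferInstanceAs (Etale (e₀ ≫ S.isoSpec.inv))
  have hv : vb ≫ e = sb := by simp [e, reassoc_of% hv₀]
  let ι : pullback f e ⟶ pullback (f ≫ S.isoSpec.hom) e₀ :=
    pullback.lift (pullback.fst f e) (pullback.snd f e) (by
      rw [← Category.assoc, pullback.condition, Category.assoc]
      simp [e])
  let μ : Z ⟶ pullback f e := pullback.lift p₁ (p₂ ≫ vb) (by rw [Category.assoc, hv]; exact sq.w)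
  let CV : Set ↥(pullback f e) := ι ⁻¹' CV₀
  have hcl : IsClopen CV := hcl₀.preimage ι.continuous
  have hpre : μ ⁻¹' CV = C := by
    rw [← hpre₀]
    ext z
    rw [Set.mem_preimage, Set.mem_preimage, Set.mem_preimage, ← Scheme.Hom.comp_apply]
    rw [show μ ≫ ι = pullback.lift p₁ (p₂ ≫ vb)
      (by rw [Category.assoc, hv₀, reassoc_of% sq.w]) from pullback.hom_ext
      (by simp [μ, ι, pullback.lift_fst]) (by simp [μ, ι, pullback.lift_snd])]
  let B : Set ↥(pullback f e) := CV ∩ pullback.fst f e ⁻¹' (↑U)ᶜ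
  have hB : IsClosed (pullback.snd f e '' B) :=
    (pullback.snd f e).isClosedMap _
      (hcl.1.inter (U.isOpen.isClosed_compl.preimage (pullback.fst f e).continuous))
  have sqμ : IsPullback μ p₂ (pullback.snd f e) vb :=
    IsPullback.of_right (by rw [pullback.lift_fst, hv]; exact sq) (pullback.lift_snd _ _ _)
      (IsPullback.of_hasPullback f e)
  let N : V.Opens := ⟨(pullback.snd f e '' B)ᶜ, hB.isOpen_compl⟩
  have hvN : pt vb ∈ N := by
    rintro ⟨w, ⟨hw, hwU⟩, hwv⟩
    obtain ⟨z, hz, -⟩ := Scheme.exists_preimage_of_isPullback sqμ w (IsLocalRing.closedPoint k) hwv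
    refine hwU ?_
    rw [← hz, ← Scheme.Hom.comp_apply, pullback.lift_fst]
    refine hCU z ?_
    rw [← hpre, Set.mem_preimage, hz]
    exact hw
  let vN : Spec (CommRingCat.of k) ⟶ (N : Scheme.{u}) := IsOpenImmersion.lift N.ι vb (by
    rw [Scheme.Opens.range_ι]
    rintro _ ⟨t, rfl⟩
    rwa [Subsingleton.elim t (IsLocalRing.closedPoint k)])
  have hvN' : vN ≫ N.ι = vb := IsOpenImmersion.lift_fac _ _ _
  let r : pullback f (N.ι ≫ e) ⟶ pullback f e :=
    pullback.lift (pullback.fst _ _) (pullback.snd _ _ ≫ N.ι)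
      (by rw [Category.assoc]; exact pullback.condition)
  refine ⟨N, N.ι ≫ e, inferInstance, vN, by rw [reassoc_of% hvN', hv], r ⁻¹' CV,
    hcl.preimage r.continuous, fun w hw ↦ ?_, ?_⟩
  · by_contra hc
    refine (pullback.snd f (N.ι ≫ e) w).2 ⟨r w, ⟨hw, ?_⟩, ?_⟩
    · change pullback.fst f e (r w) ∉ U
      rwa [← Scheme.Hom.comp_apply, pullback.lift_fst]
    · rw [← Scheme.Hom.comp_apply, pullback.lift_snd, Scheme.Hom.comp_apply]
      rfl
  · rw [← hpre]
    ext z
    change r _ ∈ CV ↔ μ z ∈ CV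
    rw [← Scheme.Hom.comp_apply]
    rw [show pullback.lift p₁ (p₂ ≫ vN) (by
      rw [Category.assoc, reassoc_of% hvN', hv]; exact sq.w) ≫ r = μ from pullback.hom_ext
      (by simp [μ, r, pullback.lift_fst])
      (by simp [μ, r, pullback.lift_snd, pullback.lift_snd_assoc, hvN'])]

variable {S' S : Scheme.{u}} {g : S' ⟶ S}

/-- Along a proper morphism to an affine scheme every point of a separated etale datum lies on a
chart. -/
theorem exists_chart_of_isProper (conn : Data.SteinConn.{u}) [IsAffine S] [IsProper g]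
    (D : Desc.SchDD g) [Etale D.obj.hom] [IsSeparated D.obj.hom] (x : D.obj.left) :
    ∃ C : Chart D, x ∈ Set.range C.σ := by
  obtain ⟨Ω, _, _, xb, hxb⟩ := exists_pt_eq x
  haveI : CompactSpace S' := QuasiCompact.compactSpace_of_compactSpace g
  haveI : QuasiSeparatedSpace S' := quasiSeparatedSpace_of_quasiSeparated g
  let f := D.obj.hom
  let s₀ : Spec (CommRingCat.of Ω) ⟶ S := (xb ≫ f) ≫ g
  let P := pullback g s₀
  haveI : CompactSpace P := QuasiCompact.compactSpace_of_compactSpace (pullback.snd g s₀)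
  let p₁ : P ⟶ S' := pullback.fst g s₀
  let p₂ : P ⟶ Spec (CommRingCat.of Ω) := pullback.snd g s₀
  have hp : (p₂ ≫ xb) ≫ f ≫ g = p₁ ≫ g := by
    simp only [p₁, p₂, pullback.condition, s₀, Category.assoc]
  let Ψ : P ⟶ D.obj.left := tr D (p₂ ≫ xb) p₁ hp
  have hΨ : Ψ ≫ f = p₁ := tr_hom D _ _ _
  -- a quasi-compact open containing the image
  obtain ⟨O, hOc, hΨO⟩ : ∃ O : D.obj.left.Opens, IsCompact (O : Set D.obj.left) ∧
      Set.range Ψ ⊆ O := by
    choose U hU hzU using fun z : D.obj.left ↦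
      (fun h : ∃ U : D.obj.left.Opens, IsAffineOpen U ∧ z ∈ U ↦ h) (by
        obtain ⟨U, hU, hz, -⟩ := exists_isAffineOpen_mem_and_subset (U := (⊤ : D.obj.left.Opens))
          (show z ∈ ⊤ from trivial)
        exact ⟨U, hU, hz⟩)
    obtain ⟨t, ht⟩ := (isCompact_range Ψ.continuous).elim_finite_subcover
      (fun z ↦ (U z : Set D.obj.left)) (fun z ↦ (U z).isOpen)
      (fun z _ ↦ Set.mem_iUnion.2 ⟨z, hzU z⟩)
    refine ⟨⨆ z ∈ t, U z, ?_, by simpa using ht⟩
    simp only [TopologicalSpace.Opens.coe_iSup]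
    exact t.finite_toSet.isCompact_biUnion fun z _ ↦ (hU z).isCompact
  haveI : CompactSpace (O : Scheme.{u}) := isCompact_iff_compactSpace.1 hOc
  let fO : (O : Scheme.{u}) ⟶ S' := O.ι ≫ f
  haveI : Etale fO := inferInstanceAs (Etale (O.ι ≫ f))
  haveI : IsSeparated fO := inferInstanceAs (IsSeparated (O.ι ≫ f))
  haveI : QuasiCompact fO := quasiCompact_of_compactSpace _
  haveI : LocallyQuasiFinite fO := SourceDescent.Scheme.locallyQuasiFinite_of_etale _
  obtain ⟨X, j, π, hj, -, hπ, -, hjπ⟩ := Groth.Agent.S1477.result fO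
  let Z := pullback (π ≫ g) s₀
  let ζ : Z ⟶ P := pullback.lift (pullback.fst _ _ ≫ π) (pullback.snd _ _)
    (by rw [Category.assoc]; exact pullback.condition)
  have sqζ : IsPullback (pullback.fst (π ≫ g) s₀) ζ π p₁ :=
    IsPullback.of_bot (by rw [pullback.lift_snd]; exact IsPullback.of_hasPullback _ _)
      (pullback.lift_fst _ _ _).symm (IsPullback.of_hasPullback g s₀)
  haveI : IsSeparated ζ := MorphismProperty.of_isPullback sqζ inferInstance
  let Ψ' : P ⟶ (O : Scheme.{u}) := IsOpenImmersion.lift O.ι Ψ (by rwa [Scheme.Opens.range_ι])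
  have hΨ' : Ψ' ≫ O.ι = Ψ := IsOpenImmersion.lift_fac _ _ _
  have hΨ'f : Ψ' ≫ fO = p₁ := by rw [reassoc_of% hΨ', hΨ]
  let θ : P ⟶ Z := pullback.lift (Ψ' ≫ j) p₂ (by
    rw [Category.assoc, reassoc_of% hjπ, reassoc_of% hΨ'f]; exact pullback.condition)
  have hθζ : θ ≫ ζ = 𝟙 P := by
    refine pullback.hom_ext ?_ ?_
    · simp only [θ, ζ, Category.assoc, pullback.lift_fst, pullback.lift_fst_assoc, hjπ, hΨ'f,
        Category.id_comp]
      rfl
    · simp only [θ, ζ, Category.assoc, pullback.lift_snd, Category.id_comp]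
      rfl
  haveI : IsClosedImmersion θ := by
    haveI : IsClosedImmersion (θ ≫ ζ) := by rw [hθζ]; infer_instance
    exact IsClosedImmersion.of_comp θ ζ
  haveI hθo : IsOpenImmersion θ := by
    let W := pullback fO p₁
    let w : W ⟶ Z := pullback.lift (pullback.fst _ _ ≫ j) (pullback.snd _ _ ≫ p₂) (by
      rw [Category.assoc, reassoc_of% hjπ, pullback.condition_assoc, Category.assoc]
      exact congrArg (pullback.snd fO p₁ ≫ ·) (pullback.condition (f := g) (g := s₀)))
    have hwζ : w ≫ ζ = pullback.snd fO p₁ := by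
      refine pullback.hom_ext ?_ ?_
      · simp only [w, ζ, Category.assoc, pullback.lift_fst, pullback.lift_fst_assoc, hjπ]
        exact pullback.condition
      · simp only [w, ζ, Category.assoc, pullback.lift_snd]
        rfl
    have sqw : IsPullback (pullback.fst fO p₁) w j (pullback.fst (π ≫ g) s₀) :=
      IsPullback.of_bot (by rw [hwζ, hjπ]; exact IsPullback.of_hasPullback _ _)
        (pullback.lift_fst _ _ _).symm sqζ
    haveI : IsOpenImmersion w := MorphismProperty.of_isPullback sqw hj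
    let θ' : P ⟶ W := pullback.lift Ψ' (𝟙 P) (by rw [hΨ'f, Category.id_comp])
    have hs : θ' ≫ pullback.snd fO p₁ = 𝟙 P := pullback.lift_snd _ _ _
    haveI : Mono θ' := SplitMono.mono ⟨_, hs⟩
    haveI : Etale θ' := by
      refine MorphismProperty.of_postcomp (W := @Etale) (W' := @Etale) θ' (pullback.snd fO p₁)
        inferInstance ?_
      rw [hs]
      infer_instance
    haveI : IsOpenImmersion θ' := Groth.Agent.S3694.result _
    have : θ = θ' ≫ w := by
      refine pullback.hom_ext ?_ ?_ <;>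
        simp [θ, θ', w, pullback.lift_fst, pullback.lift_snd, pullback.lift_fst_assoc,
          pullback.lift_snd_assoc]
    rw [this]
    infer_instance
  have hC : IsClopen (Set.range θ) :=
    ⟨θ.isClosedMap.isClosed_range, θ.isOpenEmbedding.isOpen_range⟩
  obtain ⟨V, e, he, vb, hvb, CV, hCV, hCVU, hpre⟩ :=
    exists_etale_clopen_subset conn (π ≫ g) s₀ (IsPullback.of_hasPullback (π ≫ g) s₀) hC
      j.opensRange (by
        rintro _ ⟨p, rfl⟩
        exact ⟨Ψ' p, by rw [← Scheme.Hom.comp_apply, ← Scheme.Hom.comp_apply, pullback.lift_fst]⟩)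
  let μ : Z ⟶ pullback (π ≫ g) e := pullback.lift (pullback.fst _ _) (pullback.snd _ _ ≫ vb)
    (by rw [Category.assoc, hvb]; exact pullback.condition)
  change μ ⁻¹' CV = _ at hpre
  -- the piece
  let XV := pullback (π ≫ g) e
  let G : XV.Opens := ⟨CV, hCV.2⟩
  haveI : IsClosedImmersion G.ι :=
    .of_isPreimmersion _ (by rw [Scheme.Opens.range_ι]; exact hCV.1)
  let PV := pullback g e
  let ηX : XV ⟶ PV := pullback.lift (pullback.fst _ _ ≫ π) (pullback.snd _ _)
    (by rw [Category.assoc]; exact pullback.condition)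
  have sqX : IsPullback (pullback.fst (π ≫ g) e) ηX π (pullback.fst g e) :=
    IsPullback.of_bot (by rw [pullback.lift_snd]; exact IsPullback.of_hasPullback _ _)
      (pullback.lift_fst _ _ _).symm (IsPullback.of_hasPullback g e)
  let R := pullback fO (pullback.fst g e)
  let jV : R ⟶ XV := sqX.lift (pullback.fst _ _ ≫ j) (pullback.snd _ _)
    (by rw [Category.assoc, hjπ]; exact pullback.condition)
  have hjV₁ : jV ≫ pullback.fst (π ≫ g) e = pullback.fst _ _ ≫ j := sqX.lift_fst _ _ _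
  have hjV₂ : jV ≫ ηX = pullback.snd _ _ := sqX.lift_snd _ _ _
  have sqR : IsPullback (pullback.fst fO (pullback.fst g e)) jV j (pullback.fst (π ≫ g) e) :=
    IsPullback.of_bot (by rw [hjV₂, hjπ]; exact IsPullback.of_hasPullback _ _) hjV₁.symm sqX
  haveI : IsOpenImmersion jV := MorphismProperty.of_isPullback sqR hj
  let l : (G : Scheme.{u}) ⟶ R := IsOpenImmersion.lift jV G.ι (by
    rw [Scheme.Opens.range_ι]
    intro w hw
    obtain ⟨o, ho⟩ := hCVU w hw
    obtain ⟨r, -, hr⟩ := Scheme.exists_preimage_of_isPullback sqR o w ho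
    exact ⟨r, hr⟩)
  have hl : l ≫ jV = G.ι := IsOpenImmersion.lift_fac _ _ _
  let h : (G : Scheme.{u}) ⟶ PV := G.ι ≫ ηX
  haveI : Etale h := by
    have hh : h = l ≫ pullback.snd fO (pullback.fst g e) := by
      rw [← hjV₂, reassoc_of% hl]
    haveI : IsOpenImmersion l := by
      haveI : IsOpenImmersion (l ≫ jV) := by rw [hl]; infer_instance
      exact IsOpenImmersion.of_comp l jV
    rw [hh]
    infer_instance
  let ζG : (G : Scheme.{u}) ⟶ D.obj.left := l ≫ pullback.fst fO (pullback.fst g e) ≫ O.ι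
  have hζf : ζG ≫ f = h ≫ pullback.fst g e := by
    have h1 : pullback.fst fO (pullback.fst g e) ≫ fO = pullback.snd _ _ ≫ pullback.fst g e :=
      pullback.condition
    simp only [h, ζG, Category.assoc]
    rw [show O.ι ≫ f = fO from rfl, h1, ← hjV₂]
    simp only [Category.assoc, reassoc_of% hl]
  let πG : (G : Scheme.{u}) ⟶ V := h ≫ pullback.snd g e
  haveI : IsProper πG := by
    have : πG = G.ι ≫ pullback.snd (π ≫ g) e := by
      simp only [πG, h, ηX, Category.assoc, pullback.lift_snd]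
    rw [this]
    infer_instance
  haveI : IsSeparated h := by
    haveI : IsSeparated (h ≫ pullback.snd g e) := inferInstanceAs (IsSeparated πG)
    exact IsSeparated.of_comp h (pullback.snd g e)
  let κ : P ⟶ PV := pullback.lift p₁ (p₂ ≫ vb)
    (by rw [Category.assoc, hvb]; exact pullback.condition)
  have sqκ : IsPullback κ p₂ (pullback.snd g e) vb :=
    IsPullback.of_right (by rw [pullback.lift_fst, hvb]; exact IsPullback.of_hasPullback g s₀)
      (pullback.lift_snd _ _ _) (IsPullback.of_hasPullback g e)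
  have hμη : θ ≫ μ ≫ ηX = κ := by
    refine pullback.hom_ext ?_ ?_
    · simp only [θ, μ, ηX, κ, Category.assoc, pullback.lift_fst, pullback.lift_fst_assoc, hjπ,
        hΨ'f]
    · simp only [θ, μ, ηX, κ, Category.assoc, pullback.lift_snd, pullback.lift_snd_assoc]
  -- maps to the piece over the geometric point
  have hG : ∀ {T : Scheme.{u}} (t : T ⟶ (G : Scheme.{u})) (τ : T ⟶ Spec (CommRingCat.of Ω)),
      t ≫ πG = τ ≫ vb → ∃ a : T ⟶ P, a ≫ p₂ = τ ∧ t ≫ G.ι = a ≫ θ ≫ μ ∧
        t ≫ h = a ≫ κ ∧ t ≫ ζG = a ≫ Ψ := by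
    intro T t τ ht
    have hts : (t ≫ G.ι) ≫ pullback.snd (π ≫ g) e = τ ≫ vb := by
      rw [← ht]
      simp only [πG, h, ηX, Category.assoc, pullback.lift_snd]
    let z : T ⟶ Z := pullback.lift ((t ≫ G.ι) ≫ pullback.fst _ _) τ (by
      rw [Category.assoc, pullback.condition, ← Category.assoc, hts, Category.assoc, hvb])
    have hz : z ≫ μ = t ≫ G.ι := by
      refine pullback.hom_ext ?_ ?_
      · simp only [z, μ, Category.assoc, pullback.lift_fst]
      · rw [hts]
        simp only [z, μ, Category.assoc, pullback.lift_snd, pullback.lift_snd_assoc]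
    let a : T ⟶ P := IsOpenImmersion.lift θ z (by
      rintro _ ⟨q, rfl⟩
      rw [← hpre, Set.mem_preimage, ← Scheme.Hom.comp_apply, hz]
      exact (t q).2)
    have ha : a ≫ θ = z := IsOpenImmersion.lift_fac _ _ _
    refine ⟨a, ?_, ?_, ?_, ?_⟩
    · rw [show p₂ = θ ≫ pullback.snd (π ≫ g) s₀ from (pullback.lift_snd _ _ _).symm,
        reassoc_of% ha, pullback.lift_snd]
    · rw [reassoc_of% ha, hz]
    · rw [show t ≫ h = (t ≫ G.ι) ≫ ηX from (Category.assoc _ _ _).symm, ← hz, ← hμη,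
        Category.assoc, reassoc_of% ha]
    · have h1 : t ≫ l ≫ pullback.fst fO (pullback.fst g e) = a ≫ Ψ' := by
        rw [← cancel_mono j]
        have h2 : (a ≫ θ) ≫ pullback.fst (π ≫ g) s₀ = (a ≫ Ψ') ≫ j := by
          simp only [θ, Category.assoc, pullback.lift_fst]
        rw [← h2, ha]
        simp only [z, pullback.lift_fst, Category.assoc, ← hjV₁, reassoc_of% hl]
      simp only [ζG, reassoc_of% h1, hΨ']
  -- injectivity
  let E₁ := eqSet h (pullback.fst h h) (pullback.snd h h) pullback.condition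
  let π₁ : pullback h h ⟶ V := pullback.fst h h ≫ πG
  haveI : IsProper (h ≫ pullback.snd g e) := inferInstanceAs (IsProper πG)
  haveI : IsProper h := IsProper.of_comp h (pullback.snd g e)
  haveI : IsProper π₁ := inferInstanceAs (IsProper (pullback.fst h h ≫ πG))
  have hκ : ∀ {T : Scheme.{u}} (a b : T ⟶ P), a ≫ p₂ = b ≫ p₂ → a ≫ κ = b ≫ κ → a = b := by
    intro T a b h₂ h₁
    refine pullback.hom_ext ?_ h₂
    simpa [κ, pullback.lift_fst] using congr($h₁ ≫ pullback.fst g e)
  have hE₁ : ∀ z, π₁ z = pt vb → z ∈ E₁ := by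
    intro z hz
    obtain ⟨q, hq, -⟩ := Scheme.exists_preimage_of_isPullback
      (IsPullback.of_hasPullback π₁ vb) z (IsLocalRing.closedPoint Ω) hz
    refine subset_eqSet h (pullback.fst π₁ vb) _ _ pullback.condition ?_ ⟨q, hq⟩
    have hc : pullback.fst π₁ vb ≫ π₁ = pullback.snd π₁ vb ≫ vb := pullback.condition
    obtain ⟨a, ha₂, haG, hah, -⟩ := hG (pullback.fst π₁ vb ≫ pullback.fst h h)
      (pullback.snd π₁ vb) (by rw [← hc, Category.assoc])
    obtain ⟨b, hb₂, hbG, hbh, -⟩ := hG (pullback.fst π₁ vb ≫ pullback.snd h h)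
      (pullback.snd π₁ vb) (by
        rw [← hc]
        simp only [π₁, πG, Category.assoc, pullback.condition_assoc])
    have : a = b := hκ a b (ha₂.trans hb₂.symm) (by
      rw [← hah, ← hbh, Category.assoc, Category.assoc, pullback.condition])
    subst this
    rw [← cancel_mono G.ι, haG, hbG]
  -- surjectivity
  have hrange : IsOpen (Set.range h) := h.isOpenMap.isOpen_range
  have hE₂ : ∀ y : PV, pullback.snd g e y = pt vb → y ∈ Set.range h := by
    intro y hy
    obtain ⟨p, rfl, -⟩ := Scheme.exists_preimage_of_isPullback sqκ y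
      (IsLocalRing.closedPoint Ω) hy
    have hmem : μ (θ p) ∈ G := hpre.ge ⟨p, rfl⟩
    refine ⟨⟨_, hmem⟩, ?_⟩
    rw [← hμη]
    rfl
  -- invariance
  let T₂ := pullback πG πG
  have haux : (pullback.fst πG πG ≫ ζG) ≫ D.obj.hom ≫ g =
      ((pullback.snd πG πG ≫ ζG) ≫ D.obj.hom) ≫ g := by
    have : ζG ≫ D.obj.hom ≫ g = πG ≫ e := by
      rw [show D.obj.hom = f from rfl, reassoc_of% hζf, pullback.condition]
      simp only [πG, Category.assoc]
    simp only [Category.assoc, this, pullback.condition_assoc]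
  let E₃ := eqSet f (tr D (pullback.fst πG πG ≫ ζG) ((pullback.snd πG πG ≫ ζG) ≫ f) haux)
    (pullback.snd πG πG ≫ ζG) (tr_hom D _ _ _)
  let π₃ : T₂ ⟶ V := pullback.fst πG πG ≫ πG
  haveI : IsProper π₃ := inferInstanceAs (IsProper (pullback.fst πG πG ≫ πG))
  have hE₃ : ∀ z, π₃ z = pt vb → z ∈ E₃ := by
    intro z hz
    obtain ⟨q, hq, -⟩ := Scheme.exists_preimage_of_isPullback
      (IsPullback.of_hasPullback π₃ vb) z (IsLocalRing.closedPoint Ω) hz
    refine subset_eqSet f (pullback.fst π₃ vb) _ _ (tr_hom D _ _ _) ?_ ⟨q, hq⟩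
    have hc : pullback.fst π₃ vb ≫ π₃ = pullback.snd π₃ vb ≫ vb := pullback.condition
    obtain ⟨a, ha₂, -, -, haζ⟩ := hG (pullback.fst π₃ vb ≫ pullback.fst πG πG)
      (pullback.snd π₃ vb) (by rw [← hc, Category.assoc])
    obtain ⟨b, hb₂, -, -, hbζ⟩ := hG (pullback.fst π₃ vb ≫ pullback.snd πG πG)
      (pullback.snd π₃ vb) (by
        rw [← hc]
        simp only [π₃, Category.assoc, pullback.condition])
    rw [Category.assoc] at haζ hbζ
    have ha₃ : a ≫ Ψ = tr D (pullback.snd π₃ vb ≫ xb) (a ≫ p₁) (by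
        have := congr(a ≫ $hp)
        simp only [← Category.assoc, ha₂] at this
        simpa only [Category.assoc] using this) := by
      rw [comp_tr]
      exact tr_congr D _ (by rw [← Category.assoc, ha₂]) rfl
    have hy : pullback.fst π₃ vb ≫ (pullback.snd πG πG ≫ ζG) ≫ f = b ≫ p₁ := by
      rw [← Category.assoc, hbζ, Category.assoc, hΨ]
    rw [comp_tr, tr_congr D _ (haζ.trans ha₃) hy, tr_tr]
    refine Eq.trans ?_ hbζ.symm
    exact (tr_congr D _ (by rw [← Category.assoc b, hb₂]) rfl).trans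
      (comp_tr D b (p₂ ≫ xb) p₁ hp).symm
  -- shrinking
  let K₁ := π₁ '' E₁ᶜ
  let K₂ := pullback.snd g e '' (Set.range h)ᶜ
  let K₃ := π₃ '' E₃ᶜ
  have hK₁ : IsClosed K₁ :=
    π₁.isClosedMap _ (isOpen_eqSet h _ _ pullback.condition).isClosed_compl
  have hK₂ : IsClosed K₂ := (pullback.snd g e).isClosedMap _ hrange.isClosed_compl
  have hK₃ : IsClosed K₃ :=
    π₃.isClosedMap _ (isOpen_eqSet f _ _ (tr_hom D _ _ _)).isClosed_compl
  let N : V.Opens := ⟨(K₁ ∪ K₂ ∪ K₃)ᶜ, ((hK₁.union hK₂).union hK₃).isOpen_compl⟩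
  have hv : pt vb ∈ N := by
    rintro ((⟨z, hz, e⟩ | ⟨z, hz, e⟩) | ⟨z, hz, e⟩)
    · exact hz (hE₁ z e)
    · exact hz (hE₂ z e)
    · exact hz (hE₃ z e)
  let W : PV.Opens := pullback.snd g e ⁻¹ᵁ N
  obtain ⟨s, hs⟩ := exists_section h W
    (fun z hz ↦ by
      by_contra hc
      refine hz (Or.inl (Or.inl ⟨z, hc, ?_⟩))
      change (pullback.fst h h ≫ h ≫ pullback.snd g e) z = _
      simp only [Scheme.Hom.comp_apply])
    (fun y hy ↦ by
      by_contra hc
      exact hy (Or.inl (Or.inr ⟨y, hc, rfl⟩)))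
  let eN : (N : Scheme.{u}) ⟶ S := N.ι ≫ e
  let l₀ : pullback g eN ⟶ PV := pullback.lift (pullback.fst g eN) (pullback.snd g eN ≫ N.ι)
    (by rw [Category.assoc]; exact pullback.condition)
  have hl₀ : Set.range l₀ ⊆ Set.range W.ι := by
    rw [Scheme.Opens.range_ι]
    rintro _ ⟨z, rfl⟩
    change pullback.snd g e (l₀ z) ∈ N
    rw [← Scheme.Hom.comp_apply, pullback.lift_snd, Scheme.Hom.comp_apply]
    exact (pullback.snd g eN z).2
  let k : pullback g eN ⟶ (G : Scheme.{u}) := IsOpenImmersion.lift W.ι l₀ hl₀ ≫ s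
  have hk : k ≫ h = l₀ := by rw [Category.assoc, hs, IsOpenImmersion.lift_fac]
  clear_value k
  have hkπ : k ≫ πG = pullback.snd g eN ≫ N.ι := by
    rw [show πG = h ≫ pullback.snd g e from rfl, reassoc_of% hk, pullback.lift_snd]
  have hkζ : (k ≫ ζG) ≫ f = pullback.fst g eN := by
    rw [Category.assoc, hζf, reassoc_of% hk, pullback.lift_fst]
  refine ⟨⟨N, eN, inferInstance, k ≫ ζG, hkζ, fun T a b hab ↦ ?_⟩, ?_⟩
  · let m : T ⟶ T₂ := pullback.lift (a ≫ k) (b ≫ k)
      (by rw [Category.assoc, Category.assoc, hkπ, reassoc_of% hab])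
    have hm : Set.range m ⊆ E₃ := by
      rintro _ ⟨t, rfl⟩
      by_contra hc
      refine ((a ≫ pullback.snd g eN) t).2 (Or.inr ⟨m t, hc, ?_⟩)
      rw [← Scheme.Hom.comp_apply, pullback.lift_fst_assoc, Category.assoc, hkπ, ← Category.assoc,
        Scheme.Hom.comp_apply]
      rfl
    have := comp_eq_of_range_subset f m (tr_hom D _ _ _) hm
    rw [comp_tr] at this
    have h2 : m ≫ pullback.snd πG πG ≫ ζG = b ≫ k ≫ ζG := by
      rw [pullback.lift_snd_assoc, Category.assoc]
    rw [h2] at this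
    refine Eq.trans ?_ this
    refine (tr_congr D _ ?_ ?_).symm
    · rw [pullback.lift_fst_assoc, Category.assoc]
    · rw [← Category.assoc, h2, Category.assoc, hkζ]
  · let ξ' : Spec (CommRingCat.of Ω) ⟶ (N : Scheme.{u}) := IsOpenImmersion.lift N.ι vb (by
      rw [Scheme.Opens.range_ι]
      rintro _ ⟨t, rfl⟩
      rwa [Subsingleton.elim t (IsLocalRing.closedPoint Ω)])
    have hξ' : ξ' ≫ N.ι = vb := IsOpenImmersion.lift_fac _ _ _
    let p₀ : Spec (CommRingCat.of Ω) ⟶ P := pullback.lift (xb ≫ f) (𝟙 _) (Category.id_comp _).symm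
    let p : Spec (CommRingCat.of Ω) ⟶ pullback g eN := pullback.lift (xb ≫ f) ξ'
      (by rw [reassoc_of% hξ', hvb])
    obtain ⟨a, ha₂, -, hah, haζ⟩ := hG (p ≫ k) (𝟙 _)
      (by rw [Category.assoc, hkπ, pullback.lift_snd_assoc, hξ', Category.id_comp])
    have hap : a = p₀ := hκ a p₀ (by rw [ha₂, pullback.lift_snd]) (by
      rw [← hah, Category.assoc, hk]
      refine pullback.hom_ext ?_ ?_ <;>
        simp [p, p₀, l₀, κ, p₁, p₂, pullback.lift_fst, pullback.lift_snd, hξ',
          pullback.lift_snd_assoc, pullback.lift_fst_assoc])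
    refine ⟨pt p, ?_⟩
    rw [← hxb, ← pt_comp]
    refine congrArg pt ?_
    rw [← Category.assoc, haζ, hap, comp_tr]
    exact (tr_congr D _ (by rw [pullback.lift_snd_assoc, Category.id_comp])
      (pullback.lift_fst _ _ _)).trans (tr_self D _ _ rfl)

/-- Charts exist along proper morphisms. -/
theorem enoughCharts_of_proper (conn : Data.SteinConn.{u}) [IsProper g] (D : Desc.SchDD g)
    [Etale D.obj.hom] [IsSeparated D.obj.hom] : EnoughCharts D := by
  refine enoughCharts_of_etale_cover D fun a ↦ ?_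
  obtain ⟨V, hV, ha, -⟩ := exists_isAffineOpen_mem_and_subset (U := ⊤) (show a ∈ ⊤ from trivial)
  refine ⟨V, V.ι, inferInstance, ⟨⟨a, ha⟩, rfl⟩, ?_⟩
  haveI : IsAffine (V : Scheme.{u}) := hV
  haveI : Etale (restrict D (pullback.snd g V.ι) (pullback.fst g V.ι) V.ι
      pullback.condition.symm).obj.hom :=
    inferInstanceAs (Etale (pullback.snd D.obj.hom (pullback.fst g V.ι)))
  haveI : IsSeparated (restrict D (pullback.snd g V.ι) (pullback.fst g V.ι) V.ι
      pullback.condition.symm).obj.hom :=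
    inferInstanceAs (IsSeparated (pullback.snd D.obj.hom (pullback.fst g V.ι)))
  exact fun x ↦ exists_chart_of_isProper conn _ x

end Groth.Agent.Lib.EtDescent
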