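import Groth.Agent.Lib.EtDescent.Comp
import Groth.Agent.Lib.EtDescent.Finite
import Groth.Agent.Lib.HTopSheaf.FiniteRefine
import Groth.Agent.Lib.Subtrusive.Noetherian
import Groth.Agent.Lib.DvrCrit.Curve

/-!
# Charts along quasi-finite universally submersive morphisms
-/

set_option autoImplicit false
set_option linter.style.haveILetI false
universe u

open CategoryTheory CategoryTheory.Limits AlgebraicGeometry

namespace Groth.Agent.Lib.EtDescent

open Groth.Agent.Lib.FFDesc (restrict)
open Groth.Agent.Lib.Subtrusive Groth.Agent.Lib.HTopSheaf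

variable {S' S : Scheme.{u}} {g : S' ⟶ S}

theorem enoughCharts_of_quasiFinite_affine [IsAffine S] [LocallyOfFinitePresentation g]
    [QuasiCompact g] [LocallyQuasiFinite g] (hg : Criterion.HasLifts g) (D : Desc.SchDD g)
    [Etale D.obj.hom] [IsSeparated D.obj.hom] : EnoughCharts D := by
  let E := PreZeroHypercover.singleton.{0} g
  have hE : HTop.IsHCover E :=
    ⟨fun _ => ‹LocallyOfFinitePresentation g›, (VCover.isVCover_singleton_iff g).mpr hg⟩
  haveI : ∀ j, LocallyQuasiFinite (E.f j) := fun _ ↦ ‹LocallyQuasiFinite g›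
  obtain ⟨Y, q, hqf, hqs, -, hloc⟩ := FiniteRefine.exists_model (Or.inl ‹IsAffine S›) E hE
  choose O hO j k hk using hloc
  let T := ∐ fun y ↦ (O y : Scheme.{u})
  let c : T ⟶ Y := Sigma.desc fun y ↦ (O y).ι
  let r : T ⟶ S' := Sigma.desc fun y ↦ k y
  have w : (c ≫ q) ≫ 𝟙 S = r ≫ g := Sigma.hom_ext _ _ fun y ↦ by
    simp only [c, r, Category.comp_id, Sigma.ι_desc_assoc]
    exact (hk y).symm
  haveI : Etale c := IsZariskiLocalAtSource.sigmaDesc (P := @Etale) fun y ↦ inferInstance
  haveI : Surjective c := ⟨fun y ↦ ⟨Sigma.ι (fun y ↦ (O y : Scheme.{u})) y ⟨y, hO y⟩, by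
    rw [← Scheme.Hom.comp_apply, Sigma.ι_desc]
    rfl⟩⟩
  refine enoughCharts_of_refine r w
    (univSubmersive_comp (univSubmersive_of_flat c) (univSubmersive_of_universallyClosed q)) ?_
  haveI : Etale (restrict D (c ≫ q) r (𝟙 S) w).obj.hom :=
    inferInstanceAs (Etale (pullback.snd D.obj.hom r))
  haveI : IsSeparated (restrict D (c ≫ q) r (𝟙 S) w).obj.hom :=
    inferInstanceAs (IsSeparated (pullback.snd D.obj.hom r))
  exact enoughCharts_of_comp _ fun Dq h1 h2 ↦ fun x ↦ exists_chart_of_isFinite Dq x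

theorem enoughCharts_of_quasiFinite [IsLocallyNoetherian S] [LocallyOfFiniteType g]
    [QuasiCompact g] [LocallyQuasiFinite g] (hg : SGA1.UnivSubmersive g) (D : Desc.SchDD g)
    [Etale D.obj.hom] [IsSeparated D.obj.hom] : EnoughCharts D := by
  refine enoughCharts_of_etale_cover D fun a ↦ ?_
  obtain ⟨V, hV, ha, -⟩ := exists_isAffineOpen_mem_and_subset (U := ⊤) (show a ∈ ⊤ from trivial)
  refine ⟨V, V.ι, inferInstance, ⟨⟨a, ha⟩, rfl⟩, ?_⟩
  haveI : IsAffine (V : Scheme.{u}) := hV
  haveI : IsLocallyNoetherian (V : Scheme.{u}) :=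
    LocallyOfFiniteType.isLocallyNoetherian V.ι
  haveI := DvrCrit.lfp_of_lft (pullback.snd g V.ι)
  haveI : Etale (restrict D (pullback.snd g V.ι) (pullback.fst g V.ι) V.ι
      pullback.condition.symm).obj.hom :=
    inferInstanceAs (Etale (pullback.snd D.obj.hom (pullback.fst g V.ι)))
  haveI : IsSeparated (restrict D (pullback.snd g V.ι) (pullback.fst g V.ι) V.ι
      pullback.condition.symm).obj.hom :=
    inferInstanceAs (IsSeparated (pullback.snd D.obj.hom (pullback.fst g V.ι)))
  exact enoughCharts_of_quasiFinite_affine (Criterion.univSSubtrusive_iff_hasLifts.mp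
    (Noetherian.univSSubtrusive_of_univSubmersive _
      (univSubmersive_of_isPullback (IsPullback.of_hasPullback g V.ι).flip hg))) _

end Groth.Agent.Lib.EtDescent
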