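import Groth.Agent.Lib.EtDescent.FpqcEff
import Groth.Agent.Lib.EtDescent.EffLocal
import Mathlib.AlgebraicGeometry.Morphisms.Separated

/-!
# Descended schemes of separated quasi-compact data
-/

set_option autoImplicit false
set_option linter.style.haveILetI false
universe u

open CategoryTheory CategoryTheory.Limits AlgebraicGeometry

namespace Groth.Agent.Lib.EtDescent

open Groth.Agent.Lib.FFDesc (IsDescended)

/-- A descended scheme of a separated quasi-compact datum along a quasi-compact universally
submersive morphism is separated and quasi-compact. -/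
theorem isSeparated_quasiCompact_of_isDescended {S' S : Scheme.{u}} {g : S' ⟶ S} [QuasiCompact g]
    (hg : SGA1.UnivSubmersive g) (D : Desc.SchDD g) [IsSeparated D.obj.hom]
    [QuasiCompact D.obj.hom] {U : Over S} {q : D.obj.left ⟶ U.left} (H : IsDescended D U q) :
    IsSeparated U.hom ∧ QuasiCompact U.hom := by
  have hq : SGA1.UnivSubmersive q := univSubmersive_of_isPullback H.isPullback.flip hg
  haveI := univSubmersive_surjective hq
  refine ⟨⟨?_⟩, ⟨fun V hV hVc ↦ ?_⟩⟩
  · let qq : pullback D.obj.hom D.obj.hom ⟶ pullback U.hom U.hom :=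
      pullback.map _ _ _ _ q q g H.isPullback.w H.isPullback.w
    have sq : IsPullback (pullback.fst D.obj.hom D.obj.hom) qq q (pullback.fst U.hom U.hom) := by
      refine IsPullback.of_bot ?_ (pullback.lift_fst _ _ _).symm (IsPullback.of_hasPullback U.hom U.hom)
      rw [show qq ≫ pullback.snd U.hom U.hom = pullback.snd _ _ ≫ q from pullback.lift_snd _ _ _,
        ← H.isPullback.w]
      exact (IsPullback.of_hasPullback D.obj.hom D.obj.hom).paste_vert H.isPullback
    have sqΔ : IsPullback (pullback.diagonal D.obj.hom) q qq (pullback.diagonal U.hom) := by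
      refine IsPullback.of_right ?_ ?_ sq
      · rw [pullback.diagonal_fst, pullback.diagonal_fst]
        exact IsPullback.of_horiz_isIso ⟨by simp⟩
      · refine pullback.hom_ext ?_ ?_ <;>
          simp [qq, pullback.map, pullback.lift_fst, pullback.lift_snd]
    have hqq : SGA1.UnivSubmersive qq := univSubmersive_of_isPullback sq.flip hq
    have hquot : Topology.IsQuotientMap qq :=
      hqq _ (𝟙 _) qq (IsPullback.of_id_snd)
    refine IsClosedImmersion.of_isPreimmersion _ ?_
    rw [← hquot.isClosed_preimage]
    rw [show qq ⁻¹' Set.range (pullback.diagonal U.hom) = Set.range (pullback.diagonal D.obj.hom)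
      from Set.Subset.antisymm (fun z ⟨y, hy⟩ ↦ by
        obtain ⟨x, hx, -⟩ := Scheme.exists_preimage_of_isPullback sqΔ z y hy.symm
        exact ⟨x, hx⟩) (by
        rintro _ ⟨x, rfl⟩
        exact ⟨q x, by rw [← Scheme.Hom.comp_apply, ← sqΔ.w, Scheme.Hom.comp_apply]⟩)]
    exact (pullback.diagonal D.obj.hom).isClosedEmbedding.isClosed_range
  · rw [← Set.image_preimage_eq (U.hom ⁻¹' V) q.surjective]
    refine IsCompact.image ?_ q.continuous
    have e : q ⁻¹' (U.hom ⁻¹' V) = D.obj.hom ⁻¹' (g ⁻¹' V) := by
      ext z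
      simp only [Set.mem_preimage, ← Scheme.Hom.comp_apply, H.isPullback.w]
    rw [e]
    exact QuasiCompact.isCompact_preimage _ (hV.preimage g.continuous)
      (QuasiCompact.isCompact_preimage _ hV hVc)

/-- Effectiveness over an fpqc extension of a restriction. -/
theorem effective_res_of_fpqc {S' S : Scheme.{u}} {g : S' ⟶ S} [QuasiCompact g]
    (hg : SGA1.UnivSubmersive g) (D : Desc.SchDD g) [Etale D.obj.hom] [IsSeparated D.obj.hom]
    [QuasiCompact D.obj.hom] {T T₁ : Scheme.{u}} (s : T ⟶ S) (b : T₁ ⟶ T) [Flat b] [Surjective b]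
    [QuasiCompact b] (h : Effective (Res D (b ≫ s))) : Effective (Res D s) := by
  obtain ⟨U₁, q₁, hU, H₁⟩ := (effective_res_res_iff D s b).mpr h
  have hgs : SGA1.UnivSubmersive (pullback.snd g s) :=
    univSubmersive_of_isPullback (IsPullback.of_hasPullback g s).flip hg
  haveI : IsSeparated (Res (Res D s) b).obj.hom :=
    MorphismProperty.pullback_snd (P := @IsSeparated) _ _
      (MorphismProperty.pullback_snd (P := @IsSeparated) _ _ ‹_›)
  haveI : QuasiCompact (Res (Res D s) b).obj.hom :=
    MorphismProperty.pullback_snd (P := @QuasiCompact) _ _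
      (MorphismProperty.pullback_snd (P := @QuasiCompact) _ _ ‹_›)
  obtain ⟨hs, hc⟩ := isSeparated_quasiCompact_of_isDescended
    (univSubmersive_of_isPullback (IsPullback.of_hasPullback (pullback.snd g s) b).flip hgs)
    (Res (Res D s) b) H₁
  obtain ⟨U, q, ⟨hE, -, -⟩, H⟩ := exists_descended_of_fpqc hgs (Res D s) b U₁ q₁ H₁
  exact ⟨U, q, hE, H⟩

end Groth.Agent.Lib.EtDescent
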