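import Groth.Agent.Lib.EtDescent.ProperChart
import Groth.Agent.Lib.EtDescent.Comp
import Groth.Agent.Lib.HTopSheaf.Refine

/-!
# Charts along universally subtrusive morphisms of finite presentation
-/

set_option autoImplicit false
set_option linter.style.haveILetI false
universe u

open CategoryTheory CategoryTheory.Limits AlgebraicGeometry

namespace Groth.Agent.Lib.EtDescent

open Groth.Agent.Lib.FFDesc (restrict)
open Groth.Agent.Lib.Subtrusive
open Groth.Agent.Lib.Stein36 (Data.SteinConn)

variable {S' S : Scheme.{u}} {g : S' ⟶ S}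

theorem enoughCharts_of_subtrusive_affine (conn : Data.SteinConn.{u}) [IsAffine S]
    [LocallyOfFinitePresentation g] [QuasiCompact g] (hg : Subtr.UnivSSubtrusive g)
    (D : Desc.SchDD g) [Etale D.obj.hom] [IsSeparated D.obj.hom] : EnoughCharts D := by
  obtain ⟨Y, q, hqp, hqs, -, hloc⟩ :=
    HTopSheaf.Refine.exists_model_affine g (Criterion.univSSubtrusive_iff_hasLifts.mp hg)
  choose O hO k hk using hloc
  let T := ∐ fun y ↦ (O y : Scheme.{u})
  let c : T ⟶ Y := Sigma.desc fun y ↦ (O y).ι
  let r : T ⟶ S' := Sigma.desc fun y ↦ k y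
  have w : (c ≫ q) ≫ 𝟙 S = r ≫ g := Sigma.hom_ext _ _ fun y ↦ by
    simp only [c, r, Category.comp_id, Sigma.ι_desc_assoc]
    exact (hk y).symm
  haveI : Etale c := IsZariskiLocalAtSource.sigmaDesc (P := @Etale) fun y ↦ inferInstance
  haveI : Surjective c := ⟨fun y ↦ ⟨Sigma.ι (fun y ↦ (O y : Scheme.{u})) y ⟨y, hO y⟩, by
    rw [← Scheme.Hom.comp_apply, Sigma.ι_desc]
    rfl⟩⟩
  refine enoughCharts_of_refine r w
    (univSubmersive_comp (univSubmersive_of_flat c) (univSubmersive_of_universallyClosed q)) ?_
  haveI : Etale (restrict D (c ≫ q) r (𝟙 S) w).obj.hom :=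
    inferInstanceAs (Etale (pullback.snd D.obj.hom r))
  haveI : IsSeparated (restrict D (c ≫ q) r (𝟙 S) w).obj.hom :=
    inferInstanceAs (IsSeparated (pullback.snd D.obj.hom r))
  exact enoughCharts_of_comp _ fun Dq h1 h2 ↦ enoughCharts_of_proper conn Dq

/-- Charts exist along universally subtrusive quasi-compact morphisms of finite presentation. -/
theorem enoughCharts_of_subtrusive_fp (conn : Data.SteinConn.{u}) [LocallyOfFinitePresentation g]
    [QuasiCompact g] (hg : Subtr.UnivSSubtrusive g) (D : Desc.SchDD g) [Etale D.obj.hom]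
    [IsSeparated D.obj.hom] : EnoughCharts D := by
  refine enoughCharts_of_etale_cover D fun a ↦ ?_
  obtain ⟨V, hV, ha, -⟩ := exists_isAffineOpen_mem_and_subset (U := ⊤) (show a ∈ ⊤ from trivial)
  refine ⟨V, V.ι, inferInstance, ⟨⟨a, ha⟩, rfl⟩, ?_⟩
  haveI : IsAffine (V : Scheme.{u}) := hV
  haveI : Etale (restrict D (pullback.snd g V.ι) (pullback.fst g V.ι) V.ι
      pullback.condition.symm).obj.hom :=
    inferInstanceAs (Etale (pullback.snd D.obj.hom (pullback.fst g V.ι)))
  haveI : IsSeparated (restrict D (pullback.snd g V.ι) (pullback.fst g V.ι) V.ι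
      pullback.condition.symm).obj.hom :=
    inferInstanceAs (IsSeparated (pullback.snd D.obj.hom (pullback.fst g V.ι)))
  exact enoughCharts_of_subtrusive_affine conn
    (Criterion.univSSubtrusive_of_isPullback (IsPullback.of_hasPullback g V.ι) hg) _

/-- Effectivity along universally subtrusive morphisms of finite presentation. -/
theorem exists_effective_of_subtrusive_fp (conn : Data.SteinConn.{u}) [LocallyOfFinitePresentation g]
    [QuasiCompact g] (hg : Subtr.UnivSSubtrusive g) (D : Desc.SchDD g) [Etale D.obj.hom]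
    [IsSeparated D.obj.hom] :
    ∃ (U : Over S) (q : D.obj.left ⟶ U.left), Etale U.hom ∧ IsSeparated U.hom ∧
      Surjective q ∧ FFDesc.IsDescended D U q :=
  exists_isDescended_of_charts (Submersive.univSubmersive_of_univSSubtrusive g hg)
    (enoughCharts_of_subtrusive_fp conn hg D)

/-- A descended object is finite when the datum is finite and the base change proper surjective. -/
theorem isFinite_of_isDescended [IsProper g] {D : Desc.SchDD g} [IsFinite D.obj.hom] {U : Over S}
    {q : D.obj.left ⟶ U.left} [Surjective q] [Etale U.hom] [IsSeparated U.hom]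
    (H : FFDesc.IsDescended D U q) : IsFinite U.hom := by
  haveI : QuasiCompact U.hom := quasiCompact_of_isDescended H
  haveI : LocallyQuasiFinite U.hom := SourceDescent.Scheme.locallyQuasiFinite_of_etale _
  haveI : UniversallyClosed (q ≫ U.hom) := by
    rw [← H.isPullback.w]
    infer_instance
  haveI : UniversallyClosed U.hom := UniversallyClosed.of_comp_surjective q U.hom
  haveI : IsProper U.hom := {}
  exact IsFinite.of_isProper_of_locallyQuasiFinite U.hom

end Groth.Agent.Lib.EtDescent
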